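/-
Fusion of the elements of an abelian defect group and inner products of block parts at a section.
-/
import Cfsg.Agent.Lib.Star.Sections
import Cfsg.Agent.Lib.BrauerPairs.NilBlock

set_option linter.unusedSectionVars false
set_option linter.style.haveILetI false

namespace Cfsg.Agent.Abelian

open Cfsg MonoidAlgebra Cfsg.Agent.Blocks Cfsg.Agent.BrauerPairs Cfsg.Agent.Char Cfsg.Agent.Star
open scoped ComplexConjugate

universe u

section Pairs

variable {G : Type u} [Group G] [Fintype G] {k : Type*} [Field k] [SplitCenter k G] {p : ℕ}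
  [Fact p.Prime] [CharP k p] {B : MonoidAlgebra k G} {a : Pr k G}

/-- Fusion below a pair with abelian group is induced by the stabiliser of the pair. -/
theorem exists_stab_of_fusion (h : IsMax p B a) {b : Pr k G} (hb : SubLE p ⊤ b a) {x : G}
    (hxb : SubLE p ⊤ (cjP x b) a) (hab : a.1 ≤ Subgroup.centralizer (a.1 : Set G)) :
    ∃ t ∈ stabP a, ∀ u ∈ b.1, t * u * t⁻¹ = x * u * x⁻¹ := by
  set C := Subgroup.centralizer ((cjP x b).1 : Set G) with hC
  have hPC : a.1 ≤ C := hab.trans (Subgroup.centralizer_le hxb.le)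
  have hbp := hxb.left h.pair
  have hD := abelian_defect h hxb hPC
  have hxa : SubLE p ⊤ (cjP x b) (cjP x a) := hb.cjT x
  have hpo : ∀ u : Pr k G, IsPair p ⊤ u → SubLE p ⊤ (cjP x b) u → u.1 ≤ C →
      IsPairOf p C (cjP x b).2 u := by
    intro u hu hbu huC
    exact ⟨(isPair_sub_iff (Subgroup.centralizer_le hbu.le)).2 ⟨hu, huC⟩, hbp.blkC,
      (hbu.nsub hu (huC.trans (Subgroup.centralizer_le_normalizer _))).occ⟩
  have hxC : cjS x a.1 ≤ C := by
    have h1 : a.1 ≤ Subgroup.centralizer (b.1 : Set G) := hab.trans (Subgroup.centralizer_le hb.le)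
    have h2 := cjS_mono x h1
    rwa [cjS_centralizer] at h2
  have hDx : IsDefGrp p C (cjP x b).2 (cjS x a.1) := by
    have hD0 := abelian_defect h hb (hab.trans (Subgroup.centralizer_le hb.le))
    have := hD0.conj (hb.left h.pair).blkC x
    rwa [cjS_centralizer] at this
  obtain ⟨c, hc, hce⟩ := exists_conj_defect_pair (hpo a h.pair hxb hPC)
    (hpo _ (h.pair.cjT x) hxa hxC) hD hDx
  rw [cjP_cjP] at hce
  refine ⟨c * x, ⟨mem_normalizer_of_cjS_eq (congrArg Prod.fst hce), congrArg Prod.snd hce⟩,
    fun u hu => ?_⟩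
  have hxu : x * u * x⁻¹ ∈ (cjP x b).1 := ⟨u, hu, rfl⟩
  have h1 := Subgroup.mem_centralizer_iff.1 hc _ hxu
  calc c * x * u * (c * x)⁻¹ = c * (x * u * x⁻¹) * c⁻¹ := by group
    _ = x * u * x⁻¹ := by rw [← h1, mul_inv_cancel_right]

end Pairs

variable {G : Type u} [Group G] [Fintype G] {p : ℕ} [Fact p.Prime] {M : Ideal AlgInt} [M.IsPrime]

/-- The inner products of the block parts of two blocks at one section. -/
theorem blockPart_secFun_cross (hM : IsPModular p M) {x : G} (hx : ∃ k, orderOf x = p ^ k)
    {C : Subgroup G} (hC : C = Subgroup.centralizer ({x} : Set G)) [Fintype C]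
    {B : Set (IrrCharacter G)} [DecidablePred (· ∈ B)] (hB : IsPBlock M B)
    {b b' : Set (IrrCharacter C)} (hb : IsPBlock M b) (hb' : IsPBlock M b') (hne : b ≠ b')
    {u v : C} (hu : ¬ p ∣ orderOf u) (hv : ¬ p ∣ orderOf v) :
    ∑ χ ∈ Finset.univ.filter (· ∈ B),
        blockPart b (secFun x C (χ : G → ℂ)) u * conj (blockPart b' (secFun x C (χ : G → ℂ)) v)
      = 0 := by
  classical
  calc ∑ χ ∈ Finset.univ.filter (· ∈ B),
        blockPart b (secFun x C (χ : G → ℂ)) u * conj (blockPart b' (secFun x C (χ : G → ℂ)) v)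
      = (Nat.card C : ℂ)⁻¹ * ∑ w : C, (∑ χ ∈ Finset.univ.filter (· ∈ B),
          blockPart b (secFun x C (χ : G → ℂ)) u * conj ((χ : G → ℂ) (x * (w : G)))) *
            blockPair b' w v := by
        simp only [blockPart_eq_pair b' _ v, map_mul, map_inv₀, map_natCast, map_sum,
          blockPair_conj, secFun, Finset.mul_sum, Finset.sum_mul]
        rw [Finset.sum_comm]
        exact Finset.sum_congr rfl fun w _ => Finset.sum_congr rfl fun χ _ => by ring
    _ = (Nat.card C : ℂ)⁻¹ * ∑ w : C,
          (if b ∈ unitBlocks M (restrictElt C (blockEltR M B)) then blockPair b u w else 0) *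
            blockPair b' w v := by
        congr 1
        refine Finset.sum_congr rfl fun w _ => ?_
        by_cases hw : p ∣ orderOf w
        · rw [← blockPair_conj b' v w, blockPair_regular_singular hM hb' hv hw, map_zero, mul_zero,
            mul_zero]
        · rw [blockPart_secFun_pair hM hx hC hB hb hu hw]
    _ = 0 := by
        split_ifs
        · rw [sum_blockPair_mul b b' (Or.inr (isPBlock_disjoint hb hb' hne)), if_neg hne, mul_zero]
        · simp

/-- Block parts at sections of nonconjugate elements are orthogonal. -/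
theorem blockPart_secFun_nonconj (hM : IsPModular p M) {x x' : G} (hx : ∃ k, orderOf x = p ^ k)
    (hx' : ∃ k, orderOf x' = p ^ k) {C C' : Subgroup G}
    (hC : C = Subgroup.centralizer ({x} : Set G)) (hC' : C' = Subgroup.centralizer ({x'} : Set G))
    [Fintype C] [Fintype C'] {B : Set (IrrCharacter G)} [DecidablePred (· ∈ B)]
    (hB : IsPBlock M B) {b : Set (IrrCharacter C)} (hb : IsPBlock M b)
    {b' : Set (IrrCharacter C')} (hb' : IsPBlock M b') (hnc : ¬ IsConj x x')
    {u : C} {v : C'} (hu : ¬ p ∣ orderOf u) (hv : ¬ p ∣ orderOf v) :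
    ∑ χ ∈ Finset.univ.filter (· ∈ B),
        blockPart b (secFun x C (χ : G → ℂ)) u * conj (blockPart b' (secFun x' C' (χ : G → ℂ)) v)
      = 0 := by
  classical
  have key : ∀ (w : C) (w' : C'), ¬ p ∣ orderOf w → ¬ p ∣ orderOf w' →
      blockPair B (x * (w : G)) (x' * (w' : G)) = 0 := by
    intro w w' hw hw'
    have hc : ∀ {y : G} {D : Subgroup G}, D = Subgroup.centralizer ({y} : Set G) → ∀ d : D,
        Commute y (d : G) := fun {y D} hD d =>
      (Subgroup.mem_centralizer_singleton_iff.1 (hD ▸ d.2)).symm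
    have hs : IsSec p x (w : G) := ⟨hx, by rwa [Subgroup.orderOf_coe], hc hC w⟩
    have hs' : IsSec p x' (w' : G) := ⟨hx', by rwa [Subgroup.orderOf_coe], hc hC' w'⟩
    exact blockPair_eq_zero_of_pPart hM hB hs.isPPart hs'.isPPart hnc
  calc ∑ χ ∈ Finset.univ.filter (· ∈ B),
        blockPart b (secFun x C (χ : G → ℂ)) u * conj (blockPart b' (secFun x' C' (χ : G → ℂ)) v)
      = (Nat.card C : ℂ)⁻¹ * (Nat.card C' : ℂ)⁻¹ * ∑ w : C, ∑ w' : C',
          blockPair b u w * blockPair b' w' v * blockPair B (x * (w : G)) (x' * (w' : G)) := by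
        simp only [blockPart_eq_pair, map_mul, map_inv₀, map_natCast, map_sum,
          blockPair_conj, secFun, Finset.mul_sum, Finset.sum_mul]
        conv_rhs => rw [Finset.sum_comm]
        rw [Finset.sum_comm]
        refine Finset.sum_congr rfl fun w' _ => ?_
        rw [Finset.sum_comm]
        refine Finset.sum_congr rfl fun w _ => ?_
        rw [show blockPair B (x * (w : G)) (x' * (w' : G)) =
          ∑ χ ∈ Finset.univ.filter (· ∈ B),
            (χ : G → ℂ) (x * (w : G)) * conj ((χ : G → ℂ) (x' * (w' : G))) from by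
          unfold blockPair; exact Finset.sum_congr (by congr) fun _ _ => rfl, Finset.mul_sum,
          Finset.mul_sum]
        exact Finset.sum_congr rfl fun χ _ => by ring
    _ = 0 := by
        refine mul_eq_zero_of_right _ (Finset.sum_eq_zero fun w _ => Finset.sum_eq_zero fun w' _ => ?_)
        by_cases hw : p ∣ orderOf w
        · rw [blockPair_regular_singular hM hb hu hw, zero_mul, zero_mul]
        by_cases hw' : p ∣ orderOf w'
        · rw [← blockPair_conj b' v w', blockPair_regular_singular hM hb' hv hw', map_zero,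
            mul_zero, zero_mul]
        rw [key w w' hw hw', mul_zero]

end Cfsg.Agent.Abelian
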