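/-
Generalized characters of an abelian `p`-group: gluing along the lattice of subgroups, division by
elements of augmentation prime to `p`, and the elements of modulus one.
-/
import Cfsg.Agent.Lib.Char.Induction
import Cfsg.Agent.Lib.Char.Complete
import Cfsg.Agent.Lib.Char.Galois
import Cfsg.Agent.Lib.Blocks.AlgGalois
import Cfsg.Agent.Lib.Blocks.Reynolds
import Mathlib.GroupTheory.FiniteAbelian.Duality
import Mathlib.Analysis.Complex.Polynomial.Basic
import Mathlib.RingTheory.RootsOfUnity.AlgebraicallyClosed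
import Mathlib.NumberTheory.Multiplicity

set_option linter.unusedSectionVars false
set_option linter.style.haveILetI false

namespace Cfsg.Agent.Abelian

open Cfsg Cfsg.Agent.Char Cfsg.Agent.Blocks Cfsg.Agent.CharGalois
open scoped ComplexConjugate

universe u

/-! ## Gluing -/

section Moebius

variable {A : Type u} [Group A] [Finite A]

open scoped Classical in
/-- The Möbius function of the interval above `Q₀`. -/
noncomputable def moeb (Q₀ Q : Subgroup A) : ℤ :=
  haveI : Fintype (Subgroup A) := Fintype.ofFinite _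
  if Q = Q₀ then 1
  else -∑ R ∈ (Finset.univ.filter fun R : Subgroup A => Q₀ ≤ R ∧ R < Q).attach, moeb Q₀ R.1
termination_by Nat.card Q
decreasing_by
  have h := (Finset.mem_filter.1 R.2).2.2
  refine lt_of_le_of_ne (Subgroup.card_le_of_le h.le) fun e => h.ne ?_
  exact Subgroup.eq_of_le_of_card_ge h.le e.ge

open scoped Classical in
theorem sum_moeb [Fintype (Subgroup A)] {Q₀ X : Subgroup A} (h : Q₀ < X) :
    ∑ R ∈ Finset.univ.filter (fun R : Subgroup A => Q₀ ≤ R ∧ R ≤ X), moeb Q₀ R = 0 := by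
  have hX : X ∈ Finset.univ.filter (fun R : Subgroup A => Q₀ ≤ R ∧ R ≤ X) :=
    Finset.mem_filter.2 ⟨Finset.mem_univ _, h.le, le_rfl⟩
  rw [← Finset.add_sum_erase _ _ hX]
  have e : (Finset.univ.filter fun R : Subgroup A => Q₀ ≤ R ∧ R ≤ X).erase X =
      Finset.univ.filter fun R : Subgroup A => Q₀ ≤ R ∧ R < X := by
    ext R
    simp only [Finset.mem_erase, Finset.mem_filter, Finset.mem_univ, true_and, lt_iff_le_and_ne]
    tauto
  rw [e]
  conv_lhs => arg 1; rw [moeb, if_neg h.ne']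
  rw [Finset.sum_attach _ (fun R => moeb Q₀ R)]
  convert neg_add_cancel _ using 3
  ext R; simp

open scoped Classical in
theorem moeb_self (Q₀ : Subgroup A) : moeb Q₀ Q₀ = 1 := by
  rw [moeb, if_pos rfl]

open scoped Classical in
/-- Over a fixed join the Möbius values cancel. -/
theorem sum_moeb_join [Fintype (Subgroup A)] {Q₀ Z : Subgroup A} (hZ : ¬ Z ≤ Q₀) :
    ∀ X : Subgroup A, ∑ Q ∈ Finset.univ.filter (fun Q : Subgroup A => Q₀ ≤ Q ∧ Q ⊔ Z = X),
      moeb Q₀ Q = 0 := by
  suffices H : ∀ (n : ℕ) (X : Subgroup A), Nat.card X ≤ n →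
      ∑ Q ∈ Finset.univ.filter (fun Q : Subgroup A => Q₀ ≤ Q ∧ Q ⊔ Z = X), moeb Q₀ Q = 0 from
    fun X => H _ X le_rfl
  intro n
  induction n using Nat.strong_induction_on with
  | _ n ih =>
  intro X hn
  by_cases hX : Q₀ < X ∧ Z ≤ X
  · have h := sum_moeb hX.1
    rw [← Finset.sum_fiberwise_of_maps_to (g := fun Q => Q ⊔ Z)
      (t := Finset.univ.filter fun Y : Subgroup A => Y ≤ X)
      (fun Q hQ => Finset.mem_filter.2
        ⟨Finset.mem_univ _, sup_le (Finset.mem_filter.1 hQ).2.2 hX.2⟩)] at h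
    rw [Finset.sum_eq_single X] at h
    · rw [Finset.filter_filter] at h
      rw [← h]
      refine Finset.sum_congr ?_ fun _ _ => rfl
      ext Q
      simp only [Finset.mem_filter, Finset.mem_univ, true_and]
      exact ⟨fun ⟨a, b⟩ => ⟨⟨a, le_sup_left.trans_eq b⟩, b⟩, fun ⟨⟨a, _⟩, b⟩ => ⟨a, b⟩⟩
    · intro Y hY hne
      have hlt : Nat.card Y < Nat.card X := by
        refine lt_of_le_of_ne (Subgroup.card_le_of_le (Finset.mem_filter.1 hY).2) fun e => hne ?_
        exact Subgroup.eq_of_le_of_card_ge (Finset.mem_filter.1 hY).2 e.ge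
      rw [Finset.filter_filter]
      rw [← ih (n - 1) (by have := Nat.card_pos (α := Y); omega) Y (by omega)]
      refine Finset.sum_congr ?_ fun _ _ => rfl
      ext Q
      simp only [Finset.mem_filter, Finset.mem_univ, true_and]
      exact ⟨fun ⟨⟨a, _⟩, b⟩ => ⟨a, b⟩,
        fun ⟨a, b⟩ => ⟨⟨a, (le_sup_left.trans_eq b).trans (Finset.mem_filter.1 hY).2⟩, b⟩⟩
    · intro hh
      refine (hh ?_).elim
      rw [Finset.mem_filter]
      exact ⟨Finset.mem_univ X, le_refl X⟩
  · rw [Finset.filter_eq_empty_iff.2 ?_, Finset.sum_empty]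
    intro Q _ hQ
    refine hX ⟨lt_of_le_of_ne (hQ.1.trans (le_sup_left.trans_eq hQ.2)) fun e => hZ ?_,
      le_sup_right.trans_eq hQ.2⟩
    rw [e, ← hQ.2]
    exact le_sup_right

/-- Gluing a compatible family of generalized characters. -/
theorem exists_glue (Q₀ : Subgroup A) (L : Subgroup A → A → ℂ)
    (hgen : ∀ Q, Q₀ < Q → IsGeneralizedCharacter A (L Q))
    (hcomp : ∀ Q, Q₀ < Q → ∀ v, L Q v = L (Q ⊔ Subgroup.zpowers v) v) :
    ∃ F : A → ℂ, IsGeneralizedCharacter A F ∧
      ∀ v, v ∉ Q₀ → F v = L (Q₀ ⊔ Subgroup.zpowers v) v := by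
  classical
  haveI : Fintype (Subgroup A) := Fintype.ofFinite _
  refine ⟨∑ Q ∈ Finset.univ.filter (fun Q : Subgroup A => Q₀ < Q), (-(moeb Q₀ Q : ℂ)) • L Q,
    isGeneralizedCharacter_sum _ fun Q hQ => ?_, fun v hv => ?_⟩
  · have := IsGeneralizedCharacter.int_smul (hgen Q (Finset.mem_filter.1 hQ).2) (-moeb Q₀ Q)
    push_cast at this
    exact this
  set Z := Subgroup.zpowers v
  have hZ : ¬ Z ≤ Q₀ := fun h => hv (h (Subgroup.mem_zpowers v))
  have htot : ∑ Q ∈ Finset.univ.filter (fun Q : Subgroup A => Q₀ ≤ Q),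
      (moeb Q₀ Q : ℂ) * L (Q ⊔ Z) v = 0 := by
    rw [← Finset.sum_fiberwise (Finset.univ.filter fun Q : Subgroup A => Q₀ ≤ Q) (fun Q => Q ⊔ Z)]
    refine Finset.sum_eq_zero fun X _ => ?_
    rw [Finset.sum_congr rfl fun Q hQ => by rw [(Finset.mem_filter.1 hQ).2], ← Finset.sum_mul,
      Finset.filter_filter, ← Int.cast_sum, sum_moeb_join hZ X, Int.cast_zero, zero_mul]
  have h0 : Q₀ ∈ Finset.univ.filter (fun Q : Subgroup A => Q₀ ≤ Q) :=
    Finset.mem_filter.2 ⟨Finset.mem_univ _, le_rfl⟩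
  rw [← Finset.add_sum_erase _ _ h0, moeb_self, Int.cast_one, one_mul] at htot
  have e : (Finset.univ.filter fun Q : Subgroup A => Q₀ ≤ Q).erase Q₀ =
      Finset.univ.filter fun Q : Subgroup A => Q₀ < Q := by
    ext R
    simp only [Finset.mem_erase, Finset.mem_filter, Finset.mem_univ, true_and, lt_iff_le_and_ne]
    tauto
  rw [e] at htot
  rw [eq_neg_of_add_eq_zero_left htot, Finset.sum_apply, ← Finset.sum_neg_distrib]
  refine Finset.sum_congr rfl fun Q hQ => ?_
  rw [Pi.smul_apply, smul_eq_mul, hcomp Q (Finset.mem_filter.1 hQ).2 v, neg_mul]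

end Moebius

/-! ## Linear characters -/

section Linear

variable {A : Type u} [CommGroup A] [Fintype A]

/-- A linear character as an irreducible character. -/
noncomputable def linIrr (l : A →* ℂˣ) : IrrCharacter A := ⟨_, isIrrCharacter_linear l⟩

@[simp] theorem linIrr_apply (l : A →* ℂˣ) (x : A) : (linIrr l : A → ℂ) x = (l x : ℂ) := rfl

theorem linIrr_injective : Function.Injective (linIrr : (A →* ℂˣ) → IrrCharacter A) :=
  fun a b h => MonoidHom.ext fun x => Units.ext (congrFun (congrArg Subtype.val h) x)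

theorem linIrr_surjective : Function.Surjective (linIrr : (A →* ℂˣ) → IrrCharacter A) := by
  intro χ
  have h1 : (χ : A → ℂ) 1 = 1 := by
    rw [irr_one_eq_charDegree, Cfsg.Agent.Blocks.charDegree_eq_one_of_comm (fun a b => mul_comm a b),
      Nat.cast_one]
  have hmul : ∀ a b, (χ : A → ℂ) (a * b) = (χ : A → ℂ) a * (χ : A → ℂ) b := fun a b => by
    obtain ⟨c, -, hc, -⟩ := IsIrrCharacter.exists_central_scalar χ.2
      (show a ∈ Subgroup.center A from Subgroup.mem_center_iff.2 fun g => mul_comm g a)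
    have h2 := hc 1
    rw [mul_one, h1, mul_one] at h2
    rw [hc b, h2]
  let f : A →* ℂ := { toFun := (χ : A → ℂ), map_one' := h1, map_mul' := hmul }
  exact ⟨f.toHomUnits, Subtype.ext (funext fun x => rfl)⟩

theorem linIrr_bijective : Function.Bijective (linIrr : (A →* ℂˣ) → IrrCharacter A) :=
  ⟨linIrr_injective, linIrr_surjective⟩

theorem conj_lin (l : A →* ℂˣ) (x : A) : conj (l x : ℂ) = (l x⁻¹ : ℂ) :=
  (irr_inv (linIrr l) x).symm

theorem norm_lin (l : A →* ℂˣ) (x : A) : ‖(l x : ℂ)‖ = 1 := by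
  have hfin : IsOfFinOrder (l x) := l.isOfFinOrder (isOfFinOrder_of_finite _)
  refine Complex.norm_eq_one_of_pow_eq_one (n := orderOf (l x)) ?_ hfin.orderOf_pos.ne'
  rw [← Units.val_pow_eq_pow_val, pow_orderOf_eq_one, Units.val_one]

/-- Orthogonality of the linear characters. -/
theorem sum_lin (l : A →* ℂˣ) :
    ∑ x, (l x : ℂ) = open Classical in if l = 1 then (Nat.card A : ℂ) else 0 := by
  classical
  split_ifs with h
  · simp [h, Nat.card_eq_fintype_card]
  · obtain ⟨a, ha⟩ : ∃ a, l a ≠ 1 := by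
      by_contra hc
      push Not at hc
      exact h (MonoidHom.ext hc)
    have he : (l a : ℂ) * ∑ x, (l x : ℂ) = ∑ x, (l x : ℂ) := by
      rw [Finset.mul_sum]
      exact Fintype.sum_equiv (Equiv.mulLeft a) _ _ fun x => by simp
    refine (mul_eq_zero.1 (?_ : ((l a : ℂ) - 1) * ∑ x, (l x : ℂ) = 0)).resolve_left
      (sub_ne_zero.2 fun e => ha (Units.ext e))
    rw [sub_mul, he, one_mul, sub_self]

end Linear

/-! ## Division -/

section Division

variable {A : Type u} [CommGroup A] [Fintype A] {p : ℕ}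

noncomputable local instance : Fintype (A →* ℂˣ) := Fintype.ofFinite _

/-- The ring of generalized characters. -/
noncomputable def genRing (A : Type u) [Group A] : Subring (A → ℂ) where
  carrier := {f | IsGeneralizedCharacter A f}
  mul_mem' := fun ha hb => IsGeneralizedCharacter.mul ha hb
  one_mem' := IsGeneralizedCharacter.of_isCharacter
    (IsIrrCharacter.isCharacter isIrrCharacter_one)
  add_mem' := fun ha hb => IsGeneralizedCharacter.add ha hb
  zero_mem' := isGeneralizedCharacter_zero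
  neg_mem' := fun ha => IsGeneralizedCharacter.neg ha

theorem mem_genRing {f : A → ℂ} : f ∈ genRing A ↔ IsGeneralizedCharacter A f := Iff.rfl

/-- The `|A|`-th power of a generalized character is congruent to that of its degree. -/
theorem exists_pow_congr (hp : p.Prime) {a : ℕ} (hA : Nat.card A = p ^ a) {L : A → ℂ}
    (hL : IsGeneralizedCharacter A L) {c : ℤ} (hc : L 1 = c) :
    ∃ W : A → ℂ, IsGeneralizedCharacter A W ∧
      ∀ x, L x ^ (p ^ a) = (c : ℂ) ^ (p ^ a) + (p : ℂ) * W x := by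
  classical
  let R := genRing A
  let S : R → Prop := fun f => ∃ d : ℤ, (f : A → ℂ) 1 = d ∧
    ∃ W : R, f ^ (p ^ a) = (d : R) ^ (p ^ a) + (p : R) * W
  have hadd : ∀ f g, S f → S g → S (f + g) := by
    rintro f g ⟨d, hd, W, hW⟩ ⟨d', hd', W', hW'⟩
    obtain ⟨r, hr⟩ := exists_add_pow_prime_pow_eq hp f g a
    obtain ⟨r', hr'⟩ := exists_add_pow_prime_pow_eq hp (d : R) (d' : R) a
    refine ⟨d + d', by simp [hd, hd'], W + W' + (f * g * r - (d : R) * (d' : R) * r'), ?_⟩
    rw [hr, hW, hW', Int.cast_add, hr']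
    ring
  have hzero : S 0 := ⟨0, by simp, 0, by simp⟩
  have hlin : ∀ (l : A →* ℂˣ) (n : ℤ),
      S ((n : R) * ⟨fun x => (l x : ℂ), IsGeneralizedCharacter.of_isCharacter
        (IsIrrCharacter.isCharacter (linIrr l).2)⟩) := by
    intro l n
    refine ⟨n, by simp, 0, ?_⟩
    rw [mul_pow, mul_zero, add_zero]
    conv_rhs => rw [← mul_one ((n : R) ^ _)]
    congr 1
    refine Subtype.ext (funext fun x => ?_)
    show (l x : ℂ) ^ (p ^ a) = 1
    rw [← Units.val_pow_eq_pow_val, ← map_pow, ← hA, pow_card_eq_one', map_one, Units.val_one]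
  obtain ⟨co, hco, -⟩ := IsGeneralizedCharacter.exists_coeff hL
  have key : S ⟨L, hL⟩ := by
    have e : (⟨L, hL⟩ : R) = ∑ l : A →* ℂˣ, ((co (linIrr l) : ℤ) : R) *
        ⟨fun x => (l x : ℂ), IsGeneralizedCharacter.of_isCharacter
          (IsIrrCharacter.isCharacter (linIrr l).2)⟩ := by
      refine Subtype.ext ?_
      rw [AddSubmonoidClass.coe_finsetSum]
      show L = _
      conv_lhs => rw [hco]
      refine (Fintype.sum_bijective linIrr linIrr_bijective _ _ fun l => ?_).symm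
      funext x
      simp
    rw [e]
    exact Finset.sum_induction _ S hadd hzero fun l _ => hlin l _
  obtain ⟨d, hd, W, hW⟩ := key
  obtain rfl : d = c := by
    have h := hd.symm.trans hc
    exact_mod_cast h
  refine ⟨W, W.2, fun x => ?_⟩
  have := congrFun (congrArg Subtype.val hW) x
  simpa using this

/-- A generalized character of augmentation prime to `p` vanishes nowhere. -/
theorem ne_zero_of_not_dvd (hp : p.Prime) {a : ℕ} (hA : Nat.card A = p ^ a) {L : A → ℂ}
    (hL : IsGeneralizedCharacter A L) {c : ℤ} (hc : L 1 = c) (hcp : ¬ (p : ℤ) ∣ c) (x : A) :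
    L x ≠ 0 := by
  intro h0
  obtain ⟨W, hW, hWe⟩ := exists_pow_congr hp hA hL hc
  have h1 := hWe x
  rw [h0, zero_pow (pow_pos hp.pos a).ne'] at h1
  have hint : IsIntegral ℤ (W x) := by
    obtain ⟨χ, ψ, hχ, hψ, rfl⟩ := hW
    exact (Char.IsCharacter.isIntegral hχ x).sub (Char.IsCharacter.isIntegral hψ x)
  have hpC : (p : ℂ) ≠ 0 := Nat.cast_ne_zero.2 hp.ne_zero
  have h2 : (((c ^ (p ^ a) : ℤ)) : ℂ) / (p : ℂ) = -W x := by
    rw [div_eq_iff hpC]
    push_cast
    linear_combination -h1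
  obtain ⟨m, hm⟩ := Cfsg.Agent.Blocks.exists_int_of_fixed (hint.neg) fun σ => by
    rw [← h2, map_div₀, map_intCast, map_natCast]
  rw [hm, div_eq_iff hpC] at h2
  have h3 : (c ^ (p ^ a) : ℤ) = m * (p : ℤ) := by exact_mod_cast h2
  exact hcp ((Nat.prime_iff_prime_int.1 hp).dvd_of_dvd_pow ⟨m, by rw [h3]; ring⟩)

theorem isIntegral_apply {G : Type u} [Group G] [Finite G] {f : G → ℂ}
    (hf : IsGeneralizedCharacter G f) (x : G) : IsIntegral ℤ (f x) := by
  obtain ⟨χ, ψ, hχ, hψ, rfl⟩ := hf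
  exact (Char.IsCharacter.isIntegral hχ x).sub (Char.IsCharacter.isIntegral hψ x)

theorem map_genChar {G : Type u} [Group G] [Fintype G] {f : G → ℂ}
    (hf : IsGeneralizedCharacter G f) (σ : ℂ →+* ℂ) {k : ℕ}
    (hk : ∀ z : ℂ, z ^ Nat.card G = 1 → σ z = z ^ k) (g : G) : σ (f g) = f (g ^ k) := by
  obtain ⟨χ, ψ, hχ, hψ, rfl⟩ := hf
  rw [Pi.sub_apply, map_sub, map_char hχ σ hk, map_char hψ σ hk, Pi.sub_apply]

/-- Division by a generalized character of augmentation prime to `p`. -/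
theorem exists_div (hp : p.Prime) {a : ℕ} (hA : Nat.card A = p ^ a) {L F : A → ℂ}
    (hL : IsGeneralizedCharacter A L) {c : ℤ} (hc : L 1 = c) (hcp : ¬ (p : ℤ) ∣ c)
    (hF : IsGeneralizedCharacter A F) {S : Finset A}
    (hS : ∀ x ∈ S, ∀ k : ℕ, k.Coprime (Nat.card A) → x ^ k ∈ S)
    {r : A → ℂ} (hr : ∀ x ∈ S, r x * L x = F x) (hint : ∀ x ∈ S, IsIntegral ℤ (r x)) :
    ∃ H : A → ℂ, IsGeneralizedCharacter A H ∧ ∀ x ∈ S, H x = r x := by
  classical
  haveI := Fact.mk hp
  obtain ⟨W, hW, hWe⟩ := exists_pow_congr hp hA hL hc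
  -- a power congruent to one modulo the order
  set q := p ^ a * (p - 1) with hq
  have hcu : ∃ d : ℤ, c ^ q = 1 + (p : ℤ) * d := by
    have h0 : ((c : ZMod p)) ≠ 0 := fun h => hcp ((ZMod.intCast_zmod_eq_zero_iff_dvd _ _).1 h)
    have h1 : ((c ^ q - 1 : ℤ) : ZMod p) = 0 := by
      push_cast
      rw [hq, mul_comm, pow_mul, ZMod.pow_card_sub_one_eq_one h0, one_pow, sub_self]
    obtain ⟨d, hd⟩ := (ZMod.intCast_zmod_eq_zero_iff_dvd _ _).1 h1
    exact ⟨d, by linarith⟩
  obtain ⟨d, hd⟩ := hcu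
  let R := genRing A
  let L' : R := ⟨L, hL⟩
  have hdvd : ((p ^ (a + 1) : ℕ) : R) ∣ (L' ^ q) ^ (p ^ a) - 1 := by
    have hbase : (p : R) ∣ L' ^ q - 1 := by
      have h1 : L' ^ (p ^ a) = (c : R) ^ (p ^ a) + (p : R) * ⟨W, hW⟩ :=
        Subtype.ext (funext fun x => by simpa [L'] using hWe x)
      have h2 : (p : R) ∣ (L' ^ (p ^ a)) ^ (p - 1) - ((c : R) ^ (p ^ a)) ^ (p - 1) := by
        refine dvd_trans ?_ (sub_dvd_pow_sub_pow _ _ _)
        rw [h1, add_sub_cancel_left]
        exact dvd_mul_right _ _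
      rw [← pow_mul, ← pow_mul, ← hq, ← Int.cast_pow, hd] at h2
      have e : L' ^ q - 1 = (L' ^ q - ((1 + (p : ℤ) * d : ℤ) : R)) + (p : R) * (d : R) := by
        push_cast
        ring
      rw [e]
      exact dvd_add h2 (dvd_mul_right _ _)
    have h3 := dvd_sub_pow_of_dvd_sub (b := (1 : R)) hbase a
    rw [one_pow] at h3
    rwa [Nat.cast_pow]
  obtain ⟨W', hW'⟩ := hdvd
  have hq0 : 1 ≤ q * p ^ a := by
    have := hp.two_le
    have h1 : 0 < p ^ a := pow_pos hp.pos a
    have h2 : 0 < p - 1 := by omega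
    exact Nat.mul_pos (Nat.mul_pos h1 h2) h1
  let E : R := L' ^ (q * p ^ a - 1) * ⟨F, hF⟩
  let U : A → ℂ := fun x =>
    if x ∈ S then (p : ℂ) * (W' : A → ℂ) x * r x else 0
  have hE : ∀ x ∈ S, (E : A → ℂ) x = r x + (Nat.card A : ℂ) * U x := by
    intro x hx
    have h1 := congrFun (congrArg Subtype.val hW') x
    simp only [AddSubgroupClass.coe_sub, Subring.coe_pow, Subring.coe_one, Subring.coe_mul,
      Subring.coe_natCast, Pi.sub_apply, Pi.pow_apply, Pi.one_apply, Pi.mul_apply,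
      Pi.natCast_apply, L', ← pow_mul, Nat.cast_pow] at h1
    simp only [E, U, if_pos hx, Subring.coe_mul, Subring.coe_pow, Pi.mul_apply, Pi.pow_apply, L']
    rw [← hr x hx, mul_comm (r x), ← mul_assoc, ← pow_succ, Nat.sub_add_cancel hq0, hA]
    push_cast
    linear_combination r x * h1
  have hWint := isIntegral_apply W'.2
  have hUint : ∀ x, IsIntegral ℤ (U x) := fun x => by
    simp only [U]
    split_ifs with hx
    · exact ((by exact_mod_cast isIntegral_algebraMap (R := ℤ) (A := ℂ) (x := (p : ℤ)) :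
        IsIntegral ℤ (p : ℂ)).mul (hWint x)).mul (hint x hx)
    · exact isIntegral_zero
  have hUgen : IsGeneralizedCharacter A ((Nat.card A : ℂ) • U) := by
    refine isGeneralizedCharacter_of_classInner
      (fun g h => by rw [mul_comm h g, mul_inv_cancel_right]) fun ψ => ?_
    have e : classInner ((Nat.card A : ℂ) • U) (ψ : A → ℂ) = ∑ x, U x * conj ((ψ : A → ℂ) x) := by
      have hn : (Nat.card A : ℂ) ≠ 0 := Nat.cast_ne_zero.2 Nat.card_pos.ne'
      simp only [classInner, Pi.smul_apply, smul_eq_mul, Finset.mul_sum]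
      exact Finset.sum_congr rfl fun x _ => by field_simp
    rw [e]
    refine Cfsg.Agent.Blocks.exists_int_of_fixed (IsIntegral.sum _ fun x _ =>
      (hUint x).mul (IsIntegral.map (starRingEnd ℂ).toIntAlgHom (irr_isIntegral ψ x))) fun σ => ?_
    obtain ⟨k, hk, hσ⟩ := exists_exponent σ.toRingHom (Nat.card_pos (α := A)).ne'
    have hb : Function.Bijective fun g : A => g ^ k := (powCoprime hk.symm).bijective
    rw [map_sum]
    refine Fintype.sum_bijective _ hb _ _ fun x => ?_
    have hconj : ∀ z, conj ((ψ : A → ℂ) z) = (ψ : A → ℂ) z⁻¹ := fun z => (irr_inv ψ z).symm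
    rw [map_mul, hconj, hconj, ← inv_pow]
    congr 1
    swap
    · exact map_char (irr_isCharacter ψ) σ.toRingHom hσ x⁻¹
    simp only [U]
    have hpre : ∀ y, y ^ k ∈ S → y ∈ S := by
      intro y hy
      have himg : S.image (fun g => g ^ k) = S :=
        Finset.eq_of_subset_of_card_le (Finset.image_subset_iff.2 fun g hg => hS g hg k hk)
          (by rw [Finset.card_image_of_injective _ hb.1])
      rw [← himg, Finset.mem_image] at hy
      obtain ⟨z, hz, he⟩ := hy
      exact hb.1 he ▸ hz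
    by_cases hx : x ∈ S
    · have hne := ne_zero_of_not_dvd hp hA hL hc hcp
      rw [if_pos hx, if_pos (hS x hx k hk), map_mul, map_mul, map_natCast]
      congr 1
      · congr 1
        exact map_genChar W'.2 σ.toRingHom hσ x
      · refine mul_right_cancel₀ (hne (x ^ k)) ?_
        rw [hr _ (hS x hx k hk), ← map_genChar hF σ.toRingHom hσ x,
          ← map_genChar hL σ.toRingHom hσ x, ← hr x hx, map_mul]
        rfl
    · rw [if_neg hx, if_neg fun h => hx (hpre x h), map_zero]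
  refine ⟨_, IsGeneralizedCharacter.sub E.2 hUgen, fun x hx => ?_⟩
  rw [Pi.sub_apply, hE x hx, Pi.smul_apply, smul_eq_mul, add_sub_cancel_right]

end Division

/-! ## Elements of modulus one -/

section Torsion

/-- Integers on a set of `n` points with the least possible spread. -/
theorem exists_shift_delta {ι : Type*} [Fintype ι] [DecidableEq ι] (b : ι → ℤ)
    (hne : Nonempty ι)
    (h : (Fintype.card ι : ℤ) * ∑ i, b i ^ 2 - (∑ i, b i) ^ 2 = Fintype.card ι - 1) :
    ∃ (i₀ : ι) (t e : ℤ), (e = 1 ∨ e = -1) ∧ ∀ i, b i = t + if i = i₀ then e else 0 := by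
  classical
  set n := Fintype.card ι with hn
  obtain ⟨i₁, -, hmin⟩ := Finset.exists_min_image Finset.univ b Finset.univ_nonempty
  set c : ι → ℤ := fun i => b i - b i₁ with hc
  have hc0 : ∀ i, 0 ≤ c i := fun i => sub_nonneg.2 (hmin i (Finset.mem_univ i))
  have hcn : (n : ℤ) * ∑ i, c i ^ 2 - (∑ i, c i) ^ 2 = n - 1 := by
    rw [← h]
    simp only [hc, sub_sq, Finset.sum_add_distrib, Finset.sum_sub_distrib, Finset.sum_const,
      Finset.card_univ, nsmul_eq_mul, ← hn, ← Finset.sum_mul, ← Finset.mul_sum]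
    ring
  set Z := Finset.univ.filter fun i => c i = 0 with hZ
  set N := Finset.univ.filter fun i => ¬ c i = 0 with hN
  have hcard : Z.card + N.card = n := Finset.card_filter_add_card_filter_not _
  have hq : ∑ i, c i ^ 2 = ∑ i ∈ N, c i ^ 2 := by
    rw [hN, Finset.sum_filter]
    exact Finset.sum_congr rfl fun i _ => by split_ifs with h <;> simp_all
  have hs : ∑ i, c i = ∑ i ∈ N, c i := by
    rw [hN, Finset.sum_filter]
    exact Finset.sum_congr rfl fun i _ => by split_ifs with h <;> simp_all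
  have hcs : (∑ i ∈ N, c i) ^ 2 ≤ (N.card : ℤ) * ∑ i ∈ N, c i ^ 2 := sq_sum_le_card_mul_sum_sq
  have hlow : (N.card : ℤ) ≤ ∑ i ∈ N, c i ^ 2 := by
    rw [Finset.card_eq_sum_ones, Nat.cast_sum]
    refine Finset.sum_le_sum fun i hi => ?_
    have h1 : 1 ≤ c i := lt_of_le_of_ne (hc0 i) (Ne.symm (Finset.mem_filter.1 hi).2)
    push_cast
    nlinarith
  have hz1 : 1 ≤ Z.card := Finset.card_pos.2 ⟨i₁, Finset.mem_filter.2 ⟨Finset.mem_univ _, sub_self _⟩⟩
  rw [hq, hs] at hcn
  set q := ∑ i ∈ N, c i ^ 2 with hqdef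
  have hn' : (n : ℤ) = Z.card + N.card := by exact_mod_cast hcard.symm
  rcases Nat.eq_zero_or_pos N.card with hN0 | hN0
  · have hb : ∀ i, b i = b i₁ := fun i => by
      by_contra hi
      have : i ∈ N := Finset.mem_filter.2 ⟨Finset.mem_univ _, sub_ne_zero.2 hi⟩
      rw [Finset.card_eq_zero.1 hN0] at this
      exact Finset.notMem_empty _ this
    have hn1 : n = 1 := by
      rw [hqdef, Finset.card_eq_zero.1 hN0, Finset.sum_empty, Finset.sum_empty] at hcn
      have : (n : ℤ) = 1 := by linarith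
      exact_mod_cast this
    have hsub : ∀ i, i = i₁ := fun i => Fintype.card_le_one_iff.1 hn1.le i i₁
    exact ⟨i₁, b i₁ - 1, 1, Or.inl rfl, fun i => by rw [if_pos (hsub i), hb i]; ring⟩
  rcases Nat.lt_or_ge 1 N.card with hN1 | hN1
  · have hzq : (Z.card : ℤ) * q ≤ n - 1 := by
      have e : (Z.card : ℤ) * q + (N.card : ℤ) * q = (n : ℤ) * q := by rw [hn']; ring
      linarith
    have hzz : Z.card = 1 := by
      by_contra hne'
      have : (2 : ℤ) ≤ Z.card := by exact_mod_cast (show 2 ≤ Z.card by omega)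
      have : (2 : ℤ) ≤ N.card := by exact_mod_cast hN1
      nlinarith
    have hqle : q ≤ N.card := by
      rw [hn', hzz] at hzq
      push_cast at hzq
      linarith
    have hall : ∀ i ∈ N, c i = 1 := by
      intro i hi
      have hge : ∀ i ∈ N, (1 : ℤ) ≤ c i ^ 2 := fun i hi => by
        have h1 : 1 ≤ c i := lt_of_le_of_ne (hc0 i) (Ne.symm (Finset.mem_filter.1 hi).2)
        nlinarith
      have hsum : ∑ i ∈ N, (c i ^ 2 - 1) = 0 := by
        rw [Finset.sum_sub_distrib, Finset.sum_const, nsmul_eq_mul, mul_one, ← hqdef]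
        linarith
      have h2 := (Finset.sum_eq_zero_iff_of_nonneg fun i hi => sub_nonneg.2 (hge i hi)).1 hsum i hi
      have h1 : 1 ≤ c i := lt_of_le_of_ne (hc0 i) (Ne.symm (Finset.mem_filter.1 hi).2)
      nlinarith
    refine ⟨i₁, b i₁ + 1, -1, Or.inr rfl, fun i => ?_⟩
    split_ifs with hi
    · rw [hi]; ring
    · have hiN : i ∈ N := Finset.mem_filter.2 ⟨Finset.mem_univ _, fun h0 => hi <|
        Finset.card_le_one.1 hzz.le i (Finset.mem_filter.2 ⟨Finset.mem_univ _, h0⟩) i₁
          (Finset.mem_filter.2 ⟨Finset.mem_univ _, sub_self _⟩)⟩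
      have := hall i hiN
      simp only [hc] at this
      linarith
  · obtain ⟨i₀, hi₀⟩ := Finset.card_eq_one.1 (show N.card = 1 by omega)
    rw [hqdef, hi₀, Finset.sum_singleton, Finset.sum_singleton] at hcn
    have h1 : 1 ≤ c i₀ := lt_of_le_of_ne (hc0 i₀) (Ne.symm
      (Finset.mem_filter.1 (show i₀ ∈ N by rw [hi₀]; exact Finset.mem_singleton_self _)).2)
    have hn2 : (2 : ℤ) ≤ n := by exact_mod_cast (show 2 ≤ n by omega)
    have hc1 : c i₀ = 1 := by
      have h0 : ((n : ℤ) - 1) * (c i₀ ^ 2 - 1) = 0 := by linear_combination hcn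
      have h2 : c i₀ ^ 2 - 1 = 0 := (mul_eq_zero.1 h0).resolve_left (by omega)
      nlinarith
    refine ⟨i₀, b i₁, 1, Or.inl rfl, fun i => ?_⟩
    split_ifs with hi
    · rw [hi]
      simp only [hc] at hc1
      linarith
    · have : c i = 0 := by
        by_contra h0
        have : i ∈ N := Finset.mem_filter.2 ⟨Finset.mem_univ _, h0⟩
        rw [hi₀, Finset.mem_singleton] at this
        exact hi this
      simp only [hc] at this
      linarith

variable {A : Type u} [CommGroup A] [Fintype A]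

/-- A periodic generalized character of modulus one off a subgroup is a signed linear character
there. -/
theorem exists_signed_linear (Q : Subgroup A) {H : A → ℂ} (hH : IsGeneralizedCharacter A H)
    (hper : ∀ v, v ∉ Q → ∀ q ∈ Q, H (v * q) = H v)
    (habs : ∀ v, v ∉ Q → ‖H v‖ = 1) :
    ∃ (l : A →* ℂˣ) (e : ℤ), (e = 1 ∨ e = -1) ∧ (∀ q ∈ Q, l q = 1) ∧
      ∀ v, v ∉ Q → H v = (e : ℂ) * (l v : ℂ) := by
  classical
  haveI : Fintype (A →* ℂˣ) := Fintype.ofFinite _
  haveI : Fintype Q := Fintype.ofFinite _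
  obtain ⟨co, hco, -⟩ := IsGeneralizedCharacter.exists_coeff hH
  let P : Finset (A →* ℂˣ) := Finset.univ.filter fun l => ∀ q ∈ Q, l q = 1
  let b : (A →* ℂˣ) → ℤ := fun l => co (linIrr l)
  have hexp : ∀ v, H v = ∑ l : A →* ℂˣ, (b l : ℂ) * (l v : ℂ) := fun v => by
    conv_lhs => rw [hco]
    rw [Finset.sum_apply]
    exact (Fintype.sum_bijective linIrr linIrr_bijective _ _ fun l => by simp [b]).symm
  set f : A → ℂ := fun v => ∑ l ∈ P, (b l : ℂ) * (l v : ℂ) with hf
  have hQ : (Nat.card Q : ℂ) ≠ 0 := Nat.cast_ne_zero.2 Nat.card_pos.ne'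
  have havg : ∀ v, ∑ q : Q, H (v * q) = (Nat.card Q : ℂ) * f v := by
    intro v
    simp only [hexp, map_mul, Units.val_mul, hf, Finset.mul_sum]
    rw [Finset.sum_comm, Finset.sum_filter]
    refine Finset.sum_congr rfl fun l _ => ?_
    have h1 := sum_lin (l.comp Q.subtype)
    simp only [MonoidHom.comp_apply, Subgroup.coe_subtype] at h1
    split_ifs with hl
    · rw [if_pos (show l.comp Q.subtype = 1 from MonoidHom.ext fun q => hl q.1 q.2)] at h1
      rw [← Finset.mul_sum, ← Finset.mul_sum, h1]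
      ring
    · rw [if_neg fun h => hl fun q hq => DFunLike.congr_fun h ⟨q, hq⟩] at h1
      rw [← Finset.mul_sum, ← Finset.mul_sum, h1, mul_zero, mul_zero]
  have hfH : ∀ v, v ∉ Q → f v = H v := fun v hv => by
    refine mul_left_cancel₀ hQ ?_
    rw [← havg, Finset.sum_congr rfl fun (q : Q) _ => hper v hv q q.2, Finset.sum_const,
      Finset.card_univ, nsmul_eq_mul, Nat.card_eq_fintype_card]
  have hfQ : ∀ v ∈ Q, f v = (((∑ l ∈ P, b l) : ℤ) : ℂ) := fun v hv => by
    rw [Int.cast_sum]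
    exact Finset.sum_congr rfl fun l hl => by
      rw [(Finset.mem_filter.1 hl).2 v hv, Units.val_one, mul_one]
  have hPn : P.Nonempty := ⟨1, Finset.mem_filter.2 ⟨Finset.mem_univ _, fun _ _ => rfl⟩⟩
  have hPcard : P.card = Q.index := by
    rw [Subgroup.index_eq_card, ← CommGroup.card_monoidHom_of_hasEnoughRootsOfUnity (A ⧸ Q) ℂ]
    haveI : Fintype ((A ⧸ Q) →* ℂˣ) := Fintype.ofFinite _
    rw [Nat.card_eq_fintype_card, ← Finset.card_univ]
    refine (Finset.card_bij (fun l _ => l.comp (QuotientGroup.mk' Q)) (fun l _ =>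
      Finset.mem_filter.2 ⟨Finset.mem_univ _, fun q hq => by
        rw [MonoidHom.comp_apply, QuotientGroup.mk'_apply, (QuotientGroup.eq_one_iff q).2 hq,
          map_one]⟩)
      (fun l _ l' _ h => QuotientGroup.monoidHom_ext _ h) fun l hl => ?_).symm
    exact ⟨QuotientGroup.lift Q l fun q hq => (Finset.mem_filter.1 hl).2 q hq, Finset.mem_univ _,
      MonoidHom.ext fun x => rfl⟩
  -- the norm of `f`
  have hnorm : (Nat.card A : ℂ) * ∑ l ∈ P, (b l : ℂ) ^ 2 =
      ((Nat.card A : ℂ) - Nat.card Q) + (Nat.card Q : ℂ) * ((∑ l ∈ P, b l : ℤ) : ℂ) ^ 2 := by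
    have h1 : ∑ v, f v * conj (f v) = (Nat.card A : ℂ) * ∑ l ∈ P, (b l : ℂ) ^ 2 := by
      simp only [hf, map_sum, map_mul, map_intCast, Finset.sum_mul_sum]
      rw [Finset.sum_comm, Finset.mul_sum]
      refine Finset.sum_congr rfl fun l hl => ?_
      rw [Finset.sum_comm, Finset.sum_eq_single l]
      · have : ∀ x, (b l : ℂ) * (l x : ℂ) * ((b l : ℂ) * conj (l x : ℂ)) = (b l : ℂ) ^ 2 := fun x => by
          rw [show (b l : ℂ) * (l x : ℂ) * ((b l : ℂ) * conj (l x : ℂ)) =
            (b l : ℂ) ^ 2 * ((l x : ℂ) * conj (l x : ℂ)) by ring, Complex.mul_conj', norm_lin]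
          simp
        simp [Finset.sum_congr rfl fun x _ => this x, Nat.card_eq_fintype_card]
      · intro l' hl' hne
        rw [Finset.sum_congr rfl fun x _ => show
          (b l : ℂ) * (l x : ℂ) * ((b l' : ℂ) * conj (l' x : ℂ)) =
            (b l : ℂ) * (b l' : ℂ) * ((l * l'⁻¹) x : ℂ) by
            rw [conj_lin, map_inv, MonoidHom.mul_apply, MonoidHom.inv_apply, Units.val_mul]; ring]
        rw [← Finset.mul_sum, sum_lin, if_neg fun h => hne (mul_inv_eq_one.1 h).symm, mul_zero]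
      · exact fun h => absurd hl h
    rw [← h1, ← Finset.sum_filter_add_sum_filter_not Finset.univ (· ∈ Q), add_comm]
    have hA : ((Finset.univ.filter (fun v => v ∈ Q)).card : ℂ) = Nat.card Q := by
      rw [Nat.card_eq_fintype_card, Fintype.card_subtype]
    have hA' : ((Finset.univ.filter (fun v => ¬ v ∈ Q)).card : ℂ) = (Nat.card A : ℂ) - Nat.card Q := by
      rw [← hA, eq_sub_iff_add_eq', ← Nat.cast_add, Finset.card_filter_add_card_filter_not,
        Nat.card_eq_fintype_card, Finset.card_univ]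
    rw [Finset.sum_congr rfl fun v hv => show f v * conj (f v) = 1 by
        rw [hfH v (Finset.mem_filter.1 hv).2, Complex.mul_conj', habs v (Finset.mem_filter.1 hv).2]
        simp,
      Finset.sum_congr rfl fun v hv => show f v * conj (f v) = ((∑ l ∈ P, b l : ℤ) : ℂ) ^ 2 by
        rw [hfQ v (Finset.mem_filter.1 hv).2, map_intCast, sq],
      Finset.sum_const, Finset.sum_const, nsmul_eq_mul, nsmul_eq_mul, mul_one, hA', hA]
  have hint : (P.card : ℤ) * ∑ l ∈ P, b l ^ 2 - (∑ l ∈ P, b l) ^ 2 = (P.card : ℤ) - 1 := by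
    have hidx : (Nat.card A : ℂ) = (P.card : ℂ) * Nat.card Q := by
      rw [hPcard, ← Subgroup.index_mul_card Q, Nat.cast_mul]
    rw [hidx] at hnorm
    have h2 : (((P.card : ℤ) * ∑ l ∈ P, b l ^ 2 - (∑ l ∈ P, b l) ^ 2 : ℤ) : ℂ) =
        (((P.card : ℤ) - 1 : ℤ) : ℂ) := by
      refine mul_left_cancel₀ hQ ?_
      push_cast at hnorm ⊢
      linear_combination hnorm
    exact_mod_cast h2
  obtain ⟨⟨l₀, hl₀⟩, t, e, he, hb⟩ := exists_shift_delta (fun l : P => b l.1) hPn.to_subtype (by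
    rw [Fintype.card_coe, Finset.sum_coe_sort P (fun l => b l ^ 2), Finset.sum_coe_sort P b]
    exact hint)
  refine ⟨l₀, e, he, (Finset.mem_filter.1 hl₀).2, fun v hv => ?_⟩
  have hS : ∑ l ∈ P, (l v : ℂ) = 0 := by
    obtain ⟨m, hm⟩ := CommGroup.exists_apply_ne_one_of_hasEnoughRootsOfUnity (A ⧸ Q) ℂ
      (a := QuotientGroup.mk v) (by rwa [Ne, QuotientGroup.eq_one_iff])
    let m' : A →* ℂˣ := m.comp (QuotientGroup.mk' Q)
    have hm' : ∀ q ∈ Q, m' q = 1 := fun q hq => by
      show m (QuotientGroup.mk q) = 1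
      rw [(QuotientGroup.eq_one_iff q).2 hq, map_one]
    have he : (m' v : ℂ) * ∑ l ∈ P, (l v : ℂ) = ∑ l ∈ P, (l v : ℂ) := by
      rw [Finset.mul_sum]
      refine Finset.sum_equiv (Equiv.mulLeft m') (fun l => ?_) fun l _ => by simp
      simp only [P, Finset.mem_filter, Finset.mem_univ, true_and, Equiv.coe_mulLeft,
        MonoidHom.mul_apply]
      exact ⟨fun h q hq => by rw [hm' q hq, h q hq, mul_one],
        fun h q hq => by simpa [hm' q hq] using h q hq⟩
    refine (mul_eq_zero.1 (?_ : ((m' v : ℂ) - 1) * ∑ l ∈ P, (l v : ℂ) = 0)).resolve_left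
      (sub_ne_zero.2 fun h => hm (Units.ext h))
    rw [sub_mul, he, one_mul, sub_self]
  rw [← hfH v hv]
  calc f v = ∑ l ∈ P, ((t : ℂ) * (l v : ℂ) + if l = l₀ then (e : ℂ) * (l v : ℂ) else 0) := by
        refine Finset.sum_congr rfl fun l hl => ?_
        have h1 := hb ⟨l, hl⟩
        simp only [Subtype.mk.injEq] at h1
        rw [h1]
        split_ifs <;> push_cast <;> ring
    _ = (e : ℂ) * (l₀ v : ℂ) := by
        rw [Finset.sum_add_distrib, ← Finset.mul_sum, hS, mul_zero, zero_add, Finset.sum_ite_eq',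
          if_pos hl₀]

end Torsion

end Cfsg.Agent.Abelian
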