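/-
Integer matrices without zero rows whose columns have inner products `δ + e`.
-/
import Cfsg.Agent.Lib.Star.Abelian.CharRing
import Mathlib.LinearAlgebra.FiniteDimensional.Basic

set_option linter.unusedSectionVars false
set_option linter.style.haveILetI false

namespace Cfsg.Agent.Abelian

universe w

/-- A nonconstant integer vector has spread at least one less than its length. -/
theorem spread_ge {ι : Type*} [Fintype ι] (b : ι → ℤ) (h : ∃ i i', b i ≠ b i') :
    (Fintype.card ι : ℤ) - 1 ≤ Fintype.card ι * ∑ i, b i ^ 2 - (∑ i, b i) ^ 2 := by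
  classical
  obtain ⟨j, j', hjj⟩ := h
  set n := Fintype.card ι with hn
  obtain ⟨i₁, -, hmin⟩ := Finset.exists_min_image Finset.univ b ⟨j, Finset.mem_univ j⟩
  set c : ι → ℤ := fun i => b i - b i₁ with hc
  have hc0 : ∀ i, 0 ≤ c i := fun i => sub_nonneg.2 (hmin i (Finset.mem_univ i))
  have heq : (n : ℤ) * ∑ i, b i ^ 2 - (∑ i, b i) ^ 2 =
      (n : ℤ) * ∑ i, c i ^ 2 - (∑ i, c i) ^ 2 := by
    simp only [hc, sub_sq, Finset.sum_add_distrib, Finset.sum_sub_distrib, Finset.sum_const,
      Finset.card_univ, nsmul_eq_mul, ← hn, ← Finset.sum_mul, ← Finset.mul_sum]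
    ring
  set Z := Finset.univ.filter fun i => c i = 0 with hZ
  set N := Finset.univ.filter fun i => ¬ c i = 0 with hN
  have hcard : Z.card + N.card = n := Finset.card_filter_add_card_filter_not _
  have hq : ∑ i, c i ^ 2 = ∑ i ∈ N, c i ^ 2 := by
    rw [hN, Finset.sum_filter]
    exact Finset.sum_congr rfl fun i _ => by split_ifs with h <;> simp_all
  have hs : ∑ i, c i = ∑ i ∈ N, c i := by
    rw [hN, Finset.sum_filter]
    exact Finset.sum_congr rfl fun i _ => by split_ifs with h <;> simp_all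
  have hcs : (∑ i ∈ N, c i) ^ 2 ≤ (N.card : ℤ) * ∑ i ∈ N, c i ^ 2 := sq_sum_le_card_mul_sum_sq
  have hlow : (N.card : ℤ) ≤ ∑ i ∈ N, c i ^ 2 := by
    rw [Finset.card_eq_sum_ones, Nat.cast_sum]
    refine Finset.sum_le_sum fun i hi => ?_
    have h1 : 1 ≤ c i := lt_of_le_of_ne (hc0 i) (Ne.symm (Finset.mem_filter.1 hi).2)
    push_cast
    nlinarith
  have hz1 : 1 ≤ Z.card :=
    Finset.card_pos.2 ⟨i₁, Finset.mem_filter.2 ⟨Finset.mem_univ _, sub_self _⟩⟩
  have hn1 : 1 ≤ N.card := by
    refine Finset.card_pos.2 ?_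
    by_cases hj : c j = 0
    · exact ⟨j', Finset.mem_filter.2 ⟨Finset.mem_univ _, fun h => hjj (by
        simp only [hc] at hj h; omega)⟩⟩
    · exact ⟨j, Finset.mem_filter.2 ⟨Finset.mem_univ _, hj⟩⟩
  rw [heq, hq, hs]
  have hz' : (1 : ℤ) ≤ Z.card := by exact_mod_cast hz1
  have hn' : (1 : ℤ) ≤ N.card := by exact_mod_cast hn1
  have hcard' : (Z.card : ℤ) + N.card = n := by exact_mod_cast hcard
  nlinarith [mul_nonneg (sub_nonneg.2 hz') (sub_nonneg.2 hn'), mul_le_mul_of_nonneg_left hlow
    (le_trans zero_le_one hz')]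

variable {β : Type w} [Fintype β]

/-- The rows constant along the columns, and the others. -/
theorem rows_cases {m e : ℕ} (hm : 1 ≤ m) (x : β → Fin m → ℤ)
    (hgram : ∀ i i', ∑ b, x b i * x b i' = (if i = i' then 1 else 0) + (e : ℤ))
    (hnz : ∀ b, ∃ i, x b i ≠ 0) (hk : m + 1 ≤ Fintype.card β) :
    Fintype.card β ≤ m + e ∧
      (e ≤ 3 → Fintype.card β = m + e ∨ (e = 3 ∧ m = 3) ∨
        (2 ≤ e ∧ m = e + 1 ∧ ∃ (b₁ b₂ : β) (u : ℤ), (u = 1 ∨ u = -1) ∧
          ∀ g : β → ℂ, (∀ i, ∑ b, (x b i : ℂ) * g b = 0) → g b₁ = (u : ℂ) * (e : ℂ) * g b₂)) := by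
  classical
  set i₀ : Fin m := ⟨0, hm⟩ with hi₀
  let C := Finset.univ.filter fun b : β => ∀ i, x b i = x b i₀
  let D := Finset.univ.filter fun b : β => ¬ ∀ i, x b i = x b i₀
  have hCD : C.card + D.card = Fintype.card β := Finset.card_filter_add_card_filter_not _
  have hsplit : ∀ f : β → ℤ, ∑ b, f b = ∑ b ∈ C, f b + ∑ b ∈ D, f b := fun f =>
    (Finset.sum_filter_add_sum_filter_not _ _ _).symm
  have hC : ∀ b ∈ C, ∀ i, x b i = x b i₀ := fun b hb => (Finset.mem_filter.1 hb).2
  have hCne : ∀ b ∈ C, 1 ≤ x b i₀ ^ 2 := fun b hb => by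
    obtain ⟨i, hi⟩ := hnz b
    rw [hC b hb i] at hi
    rcases lt_or_gt_of_ne hi with h | h <;> nlinarith
  set A := ∑ b ∈ C, x b i₀ ^ 2 with hA
  have hAC : (C.card : ℤ) ≤ A := by
    rw [Finset.card_eq_sum_ones, Nat.cast_sum]
    exact Finset.sum_le_sum fun b hb => by push_cast; exact hCne b hb
  set s : ℤ := (e : ℤ) - A with hs
  have hgD : ∀ i i', ∑ b ∈ D, x b i * x b i' = (if i = i' then 1 else 0) + s := by
    intro i i'
    have h := hgram i i'
    rw [hsplit, Finset.sum_congr rfl fun b hb => show x b i * x b i' = x b i₀ ^ 2 by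
      rw [hC b hb i, hC b hb i']; ring, ← hA] at h
    rw [hs]; linarith
  rcases Nat.lt_or_ge m 2 with hm1 | hm2
  · -- one column
    have hone : ∀ i : Fin m, i = i₀ := fun i => Fin.ext (by have := i.2; simp only [hi₀]; omega)
    have hall : ∀ b, b ∈ C := fun b =>
      Finset.mem_filter.2 ⟨Finset.mem_univ _, fun i => by rw [hone i]⟩
    have hCu : C = Finset.univ := Finset.eq_univ_of_forall hall
    have hA1 : A = (e : ℤ) + 1 := by
      have h := hgram i₀ i₀
      rw [if_pos rfl] at h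
      rw [hA, hCu, Finset.sum_congr rfl fun b _ => sq (x b i₀), h]
      ring
    have hcard : C.card = Fintype.card β := by rw [hCu, Finset.card_univ]
    refine ⟨by rw [hcard, hA1] at hAC; omega, fun he => Or.inl ?_⟩
    have hsq : ∀ b ∈ C, x b i₀ ^ 2 = 1 := by
      intro b hb
      have h1 := hCne b hb
      by_contra hne
      have h2 : 2 ≤ |x b i₀| := by
        by_contra hlt
        push Not at hlt
        have h3 := abs_lt.1 hlt
        have : x b i₀ = -1 ∨ x b i₀ = 0 ∨ x b i₀ = 1 := by omega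
        rcases this with h4 | h4 | h4 <;> rw [h4] at hne h1 <;> simp at hne h1
      have h4 : 4 ≤ x b i₀ ^ 2 := by nlinarith [sq_abs (x b i₀), abs_nonneg (x b i₀)]
      have h5 : 4 + ((C.erase b).card : ℤ) ≤ A := by
        rw [hA, ← Finset.add_sum_erase _ _ hb, Finset.card_eq_sum_ones, Nat.cast_sum]
        refine add_le_add h4 (Finset.sum_le_sum fun b' hb' => ?_)
        push_cast
        exact hCne b' (Finset.mem_of_mem_erase hb')
      rw [Finset.card_erase_of_mem hb, hcard, hA1] at h5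
      omega
    have : A = (C.card : ℤ) := by
      rw [hA, Finset.sum_congr rfl hsq, Finset.sum_const, nsmul_one]
    omega
  -- at least two columns
  have hdiff : ∀ i i', i ≠ i' → ∑ b ∈ D, (x b i - x b i') ^ 2 = 2 := by
    intro i i' hne
    have h1 := hgD i i
    have h2 := hgD i' i'
    have h3 := hgD i i'
    rw [if_pos rfl] at h1 h2
    rw [if_neg hne] at h3
    rw [Finset.sum_congr rfl fun b _ => show (x b i - x b i') ^ 2 =
      x b i * x b i - 2 * (x b i * x b i') + x b i' * x b i' by ring, Finset.sum_add_distrib,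
      Finset.sum_sub_distrib, ← Finset.mul_sum, h1, h2, h3]
    ring
  have hspread : ∑ b ∈ D, ((m : ℤ) * ∑ i, x b i ^ 2 - (∑ i, x b i) ^ 2) = (m : ℤ) * (m - 1) := by
    rw [Finset.sum_sub_distrib, ← Finset.mul_sum, Finset.sum_comm,
      Finset.sum_congr rfl fun i (_ : i ∈ Finset.univ) => show ∑ b ∈ D, x b i ^ 2 = 1 + s by
        rw [Finset.sum_congr rfl fun b _ => sq (x b i), hgD, if_pos rfl],
      Finset.sum_congr rfl fun b _ => show (∑ i, x b i) ^ 2 = ∑ i, ∑ i', x b i * x b i' by
        rw [sq, Finset.sum_mul_sum],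
      Finset.sum_comm, Finset.sum_congr rfl fun i _ => Finset.sum_comm,
      Finset.sum_congr rfl fun i _ => Finset.sum_congr rfl fun i' _ => hgD i i']
    simp only [Finset.sum_add_distrib, Finset.sum_ite_eq, Finset.mem_univ, if_true,
      Finset.sum_const, Finset.card_univ, Fintype.card_fin, nsmul_eq_mul]
    ring
  have hDge : ∀ b ∈ D, (m : ℤ) - 1 ≤ (m : ℤ) * ∑ i, x b i ^ 2 - (∑ i, x b i) ^ 2 := by
    intro b hb
    have h := spread_ge (x b) (by
      have h1 := (Finset.mem_filter.1 hb).2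
      push Not at h1
      obtain ⟨i, hi⟩ := h1
      exact ⟨i, i₀, hi⟩)
    rwa [Fintype.card_fin] at h
  have hm' : (2 : ℤ) ≤ m := by exact_mod_cast hm2
  have hDm : D.card ≤ m := by
    have h := Finset.sum_le_sum hDge
    rw [hspread, Finset.sum_const, nsmul_eq_mul] at h
    have : (D.card : ℤ) ≤ m := by nlinarith
    exact_mod_cast this
  have htot : ∑ b ∈ D, (∑ i, x b i) ^ 2 = (m : ℤ) * (1 + m * s) := by
    rw [Finset.sum_congr rfl fun b _ => show (∑ i, x b i) ^ 2 = ∑ i, ∑ i', x b i * x b i' by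
        rw [sq, Finset.sum_mul_sum], Finset.sum_comm,
      Finset.sum_congr rfl fun i _ => Finset.sum_comm,
      Finset.sum_congr rfl fun i _ => Finset.sum_congr rfl fun i' _ => hgD i i']
    simp only [Finset.sum_add_distrib, Finset.sum_ite_eq, Finset.mem_univ, if_true,
      Finset.sum_const, Finset.card_univ, Fintype.card_fin, nsmul_eq_mul]
    ring
  have hs0 : 0 ≤ s := by
    have h : 0 ≤ (m : ℤ) * (1 + m * s) := htot ▸ Finset.sum_nonneg fun b _ => sq_nonneg _
    by_contra hneg
    push Not at hneg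
    have h2 : (m : ℤ) * s ≤ -2 := by
      have := mul_le_mul_of_nonneg_left (show s ≤ -1 by omega) (show (0 : ℤ) ≤ m by omega)
      linarith
    have h3 := mul_le_mul_of_nonneg_left (show 1 + (m : ℤ) * s ≤ -1 by linarith)
      (show (0 : ℤ) ≤ m by omega)
    linarith
  refine ⟨by omega, fun he => ?_⟩
  have hDm' : D.card = m := by
    refine le_antisymm hDm ?_
    let L : (Fin m → ℚ) →ₗ[ℚ] ({b // b ∈ D} → ℚ) :=
      { toFun := fun c b => ∑ i, c i * (x b.1 i : ℚ)
        map_add' := fun c c' => funext fun b => by simp [add_mul, Finset.sum_add_distrib]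
        map_smul' := fun r c => funext fun b => by simp [Finset.mul_sum, mul_assoc] }
    have hL : Function.Injective L := by
      rw [← LinearMap.ker_eq_bot, LinearMap.ker_eq_bot']
      intro c hc
      have h0 : ∑ b ∈ D, (∑ i, c i * (x b i : ℚ)) ^ 2 = 0 := Finset.sum_eq_zero fun b hb => by
        have := congrFun hc ⟨b, hb⟩
        simp only [L, LinearMap.coe_mk, AddHom.coe_mk, Pi.zero_apply] at this
        rw [this, sq, zero_mul]
      have h1 : ∑ b ∈ D, (∑ i, c i * (x b i : ℚ)) ^ 2 =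
          ∑ i, c i ^ 2 + (s : ℚ) * (∑ i, c i) ^ 2 := by
        rw [Finset.sum_congr rfl fun b _ => show (∑ i, c i * (x b i : ℚ)) ^ 2 =
          ∑ i, ∑ i', c i * c i' * ((x b i * x b i' : ℤ) : ℚ) by
            rw [sq, Finset.sum_mul_sum]; push_cast
            exact Finset.sum_congr rfl fun i _ => Finset.sum_congr rfl fun i' _ => by ring,
          Finset.sum_comm, Finset.sum_congr rfl fun i _ => Finset.sum_comm,
          Finset.sum_congr rfl fun i _ => Finset.sum_congr rfl fun i' _ => by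
            rw [← Finset.mul_sum, ← Int.cast_sum, hgD i i']]
        push_cast
        simp only [mul_add, Finset.sum_add_distrib, mul_ite, mul_one, mul_zero, Finset.sum_ite_eq,
          Finset.mem_univ, if_true, sq]
        rw [Finset.sum_mul_sum, Finset.mul_sum]
        congr 1
        exact Finset.sum_congr rfl fun i _ => by
          rw [Finset.mul_sum]
          exact Finset.sum_congr rfl fun i' _ => by ring
      rw [h0] at h1
      have hsq : ∑ i, c i ^ 2 = 0 := by
        have h2 : (0 : ℚ) ≤ (s : ℚ) := by exact_mod_cast hs0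
        have h3 : (0 : ℚ) ≤ ∑ i, c i ^ 2 := Finset.sum_nonneg fun i _ => sq_nonneg _
        nlinarith [mul_nonneg h2 (sq_nonneg (∑ i, c i))]
      funext i
      exact pow_eq_zero_iff two_ne_zero |>.1
        ((Finset.sum_eq_zero_iff_of_nonneg fun i _ => sq_nonneg (c i)).1 hsq i (Finset.mem_univ i))
    have h := LinearMap.finrank_le_finrank_of_injective hL
    rwa [Module.finrank_fintype_fun_eq_card, Module.finrank_fintype_fun_eq_card, Fintype.card_fin,
      Fintype.card_coe] at h
  have hAe : A ≤ (e : ℤ) := by omega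
  have hC1 : ∀ b ∈ C, x b i₀ ^ 2 = 1 := by
    intro b hb
    have h1 := hCne b hb
    have h2 : x b i₀ ^ 2 ≤ A := Finset.single_le_sum (fun b' _ => sq_nonneg (x b' i₀)) hb
    have h3 : x b i₀ ^ 2 ≤ 3 := by omega
    have h4 : -1 ≤ x b i₀ ∧ x b i₀ ≤ 1 := by constructor <;> nlinarith
    have : x b i₀ = -1 ∨ x b i₀ = 0 ∨ x b i₀ = 1 := by omega
    rcases this with h5 | h5 | h5 <;> rw [h5] at h1 ⊢ <;> simp at h1 ⊢
  have hAcard : A = (C.card : ℤ) := by
    rw [hA, Finset.sum_congr rfl hC1, Finset.sum_const, nsmul_one]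
  rcases eq_or_lt_of_le hs0 with hs1 | hs1
  · left
    omega
  have hs2 : s ≤ 2 := by omega
  rcases Nat.lt_or_ge m 3 with hm3 | hm3
  · -- two columns
    exfalso
    have hm2' : m = 2 := by omega
    subst hm2'
    obtain ⟨d, d', hdd, hDe⟩ := Finset.card_eq_two.1 hDm'
    have g00 := hgD 0 0
    have g11 := hgD 1 1
    have g01 := hgD 0 1
    rw [hDe, Finset.sum_pair hdd] at g00 g11 g01
    simp at g00 g11 g01
    have hdet : (x d 0 * x d' 1 - x d' 0 * x d 1) ^ 2 = 1 + 2 * s := by
      have : (x d 0 * x d' 1 - x d' 0 * x d 1) ^ 2 =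
          (x d 0 * x d 0 + x d' 0 * x d' 0) * (x d 1 * x d 1 + x d' 1 * x d' 1) -
            (x d 0 * x d 1 + x d' 0 * x d' 1) ^ 2 := by ring
      rw [this, g00, g11, g01]
      ring
    have key : ∀ t σ : ℤ, 1 ≤ σ → σ ≤ 2 → t ^ 2 = 1 + 2 * σ → False := by
      intro t σ h1 h2 h3
      have hb : -2 ≤ t ∧ t ≤ 2 := ⟨by nlinarith only [h2, h3], by nlinarith only [h2, h3]⟩
      obtain ⟨h4, h5⟩ := hb
      interval_cases t <;> norm_num at h3 <;> omega
    exact key _ s (by omega) hs2 hdet
  -- at least three columns: every row has one outlier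
  have htight : ∀ b ∈ D, (m : ℤ) * ∑ i, x b i ^ 2 - (∑ i, x b i) ^ 2 = (m : ℤ) - 1 := by
    have h := (Finset.sum_eq_sum_iff_of_le hDge).1 (by
      rw [hspread, Finset.sum_const, nsmul_eq_mul, hDm'])
    exact fun b hb => (h b hb).symm
  have hform : ∀ b : {b // b ∈ D}, ∃ (i₁ : Fin m) (t ε : ℤ), (ε = 1 ∨ ε = -1) ∧
      ∀ i, x b.1 i = t + if i = i₁ then ε else 0 := fun b =>
    exists_shift_delta (x b.1) ⟨i₀⟩ (by rw [Fintype.card_fin]; exact htight b.1 b.2)
  choose out t ε hε hform using hform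
  have hε2 : ∀ b, ε b * ε b = 1 := fun b => by rcases hε b with h | h <;> rw [h] <;> norm_num
  let fib : Fin m → ℤ := fun i => ∑ b : {b // b ∈ D}, if out b = i then 1 else 0
  have hfib2 : ∀ i i', i ≠ i' → fib i + fib i' = 2 := by
    intro i i' hne
    rw [← hdiff i i' hne, ← Finset.sum_coe_sort D fun b => (x b i - x b i') ^ 2,
      ← Finset.sum_add_distrib]
    refine Finset.sum_congr rfl fun b _ => ?_
    rw [hform b i, hform b i']
    by_cases h1 : out b = i
    · have h2 : ¬ i' = out b := fun h => hne (h1.symm.trans h.symm)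
      rw [if_pos h1, if_neg (fun h => hne (h1.symm.trans h)), if_pos h1.symm, if_neg h2]
      linear_combination -(hε2 b)
    · rw [if_neg h1, if_neg (fun h : i = out b => h1 h.symm)]
      by_cases h2 : out b = i'
      · rw [if_pos h2, if_pos h2.symm]
        linear_combination -(hε2 b)
      · rw [if_neg h2, if_neg (fun h : i' = out b => h2 h.symm)]
        ring
  have hfib : ∀ i, fib i = 1 := by
    intro i
    obtain ⟨j, hj, l, hl, hjl⟩ : ∃ j, j ≠ i ∧ ∃ l, l ≠ i ∧ j ≠ l := by
      have hcard : 1 < (Finset.univ.erase i).card := by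
        rw [Finset.card_erase_of_mem (Finset.mem_univ i), Finset.card_univ, Fintype.card_fin]
        omega
      obtain ⟨j, hj, l, hl, hne⟩ := Finset.one_lt_card.1 hcard
      exact ⟨j, Finset.ne_of_mem_erase hj, l, Finset.ne_of_mem_erase hl, hne⟩
    have h1 := hfib2 j i hj
    have h2 := hfib2 l i hl
    have h3 := hfib2 j l hjl
    omega
  have hout : Function.Bijective out := by
    refine (Fintype.bijective_iff_surjective_and_card out).2 ⟨fun i => ?_, ?_⟩
    · by_contra hcon
      push Not at hcon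
      have := hfib i
      simp [fib, hcon] at this
    · rw [Fintype.card_coe, hDm', Fintype.card_fin]
  set a : {b // b ∈ D} → ℤ := fun b => t b * ε b with ha
  have hdiag : ∀ b₀, ∑ b, a b ^ 2 + 2 * a b₀ + 1 = 1 + s := by
    intro b₀
    have h := hgD (out b₀) (out b₀)
    rw [if_pos rfl, ← Finset.sum_coe_sort D fun b => x b (out b₀) * x b (out b₀),
      ← Finset.add_sum_erase _ _ (Finset.mem_univ b₀), hform b₀, if_pos rfl,
      Finset.sum_congr rfl fun b hb => show x b.1 (out b₀) * x b.1 (out b₀) = a b ^ 2 by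
        rw [hform b, if_neg fun h => (Finset.ne_of_mem_erase hb) (hout.1 h).symm]
        simp only [ha]
        linear_combination -(t b ^ 2) * hε2 b] at h
    rw [← Finset.add_sum_erase _ _ (Finset.mem_univ b₀)]
    simp only [ha] at h ⊢
    linear_combination h + (t b₀ ^ 2 - 1) * hε2 b₀
  obtain ⟨b₀, hb₀⟩ : ∃ b, b ∈ D := Finset.card_pos.1 (by omega)
  set q := a ⟨b₀, hb₀⟩ with hq
  have hall : ∀ b, a b = q := fun b => by
    have h1 := hdiag b
    have h2 := hdiag ⟨b₀, hb₀⟩
    rw [← hq] at h2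
    omega
  have hsq : s = (m : ℤ) * q ^ 2 + 2 * q := by
    have h := hdiag ⟨b₀, hb₀⟩
    rw [← hq, Finset.sum_congr rfl fun b _ => by rw [hall b], Finset.sum_const, Finset.card_univ,
      Fintype.card_coe, hDm', nsmul_eq_mul] at h
    linarith
  have hm3' : (3 : ℤ) ≤ m := by exact_mod_cast hm3
  have hqm : q = -1 := by
    rcases lt_trichotomy q 0 with h | h | h
    · by_contra hne
      have : q ≤ -2 := by omega
      nlinarith
    · rw [h] at hsq
      simp at hsq
      omega
    · nlinarith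
  have hsm : s = (m : ℤ) - 2 := by rw [hsq, hqm]; ring
  by_cases hme : m = e + 1
  · refine Or.inr (Or.inr ⟨by omega, hme, ?_⟩)
    obtain ⟨b₁, hb₁⟩ := Finset.card_eq_one.1 (show C.card = 1 by omega)
    set δ : {b // b ∈ D} := ⟨b₀, hb₀⟩
    have hc : x b₁ i₀ = 1 ∨ x b₁ i₀ = -1 :=
      sq_eq_one_iff.1 (hC1 b₁ (by rw [hb₁]; exact Finset.mem_singleton_self _))
    refine ⟨b₁, b₀, x b₁ i₀ * ε δ, ?_, fun g hg => ?_⟩
    · rcases hc with h | h <;> rcases hε δ with h' | h' <;> rw [h, h'] <;> norm_num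
    have hrel : ∀ b : {b // b ∈ D}, (ε b : ℂ) * g b.1 =
        ∑ b' : {b // b ∈ D}, (ε b' : ℂ) * g b'.1 - (x b₁ i₀ : ℂ) * g b₁ := by
      intro b
      have h := hg (out b)
      rw [← Finset.sum_filter_add_sum_filter_not Finset.univ (fun b : β => ∀ i, x b i = x b i₀)]
        at h
      change ∑ b' ∈ C, (x b' (out b) : ℂ) * g b' + ∑ b' ∈ D, (x b' (out b) : ℂ) * g b' = 0 at h
      rw [hb₁, Finset.sum_singleton, hC b₁ (by rw [hb₁]; exact Finset.mem_singleton_self _),
        ← Finset.sum_coe_sort D fun b' => (x b' (out b) : ℂ) * g b',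
        Finset.sum_congr rfl fun (b' : {b // b ∈ D}) _ => show (x b'.1 (out b) : ℂ) * g b'.1 =
          (if b' = b then (ε b : ℂ) * g b.1 else 0) - (ε b' : ℂ) * g b'.1 by
          have ht : t b' = -ε b' := by
            have h1 := hall b'
            simp only [ha, hqm] at h1
            rcases hε b' with h' | h' <;> rw [h'] at h1 ⊢ <;> omega
          rw [hform b', ht]
          by_cases hbb : b' = b
          · subst hbb
            rw [if_pos rfl, if_pos rfl]
            push_cast
            ring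
          · rw [if_neg (fun h => hbb (hout.1 h).symm), if_neg hbb]
            push_cast
            ring,
        Finset.sum_sub_distrib, Finset.sum_ite_eq', if_pos (Finset.mem_univ _)] at h
      linear_combination h
    have hsum : ∑ b' : {b // b ∈ D}, (ε b' : ℂ) * g b'.1 =
        (m : ℂ) * ((ε δ : ℂ) * g b₀) := by
      rw [Finset.sum_congr rfl fun b _ => (hrel b).trans (hrel δ).symm, Finset.sum_const,
        Finset.card_univ, Fintype.card_coe, hDm', nsmul_eq_mul]
    have hrel0 := hrel δ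
    rw [hsum, hme] at hrel0
    push_cast at hrel0 ⊢
    have hx2 : (x b₁ i₀ : ℂ) * (x b₁ i₀ : ℂ) = 1 := by
      rcases hc with h | h <;> rw [h] <;> norm_num
    linear_combination (x b₁ i₀ : ℂ) * hrel0 - g b₁ * hx2
  · refine Or.inr (Or.inl ?_)
    omega

end Cfsg.Agent.Abelian
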