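/-
The closure of the unramified coefficient ring inside the local ring, and group algebras over it.
-/
import Cfsg.Agent.Lib.DefOne.Order
import Cfsg.Agent.Lib.Star.Lift
import Cfsg.Agent.Lib.Star.Trace
import Mathlib.LinearAlgebra.Eigenspace.Charpoly

set_option linter.unusedSectionVars false
set_option linter.style.haveILetI false

namespace Cfsg.Agent.Abelian

open Cfsg MonoidAlgebra Cfsg.Agent.Blocks Cfsg.Agent.DefOne Cfsg.Agent.Star
open Polynomial (aeval)

universe u

variable {p : ℕ} {M : Ideal AlgInt} [M.IsPrime]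

theorem memLocalRing_natCast (n : ℕ) : MemLocalRing M (n : ℂ) :=
  mem_locRing.1 (natCast_mem (locRing M) n)

/-- The closure of the unramified ring. -/
def wHat (p : ℕ) (M : Ideal AlgInt) [M.IsPrime] : Subring ℂ where
  carrier := {z | MemLocalRing M z ∧
    ∀ N : ℕ, ∃ w ∈ rR p M, ∃ t ∈ locRing M, z - w = (p : ℂ) ^ N * t}
  mul_mem' := by
    rintro a b ⟨ha, ha'⟩ ⟨hb, hb'⟩
    refine ⟨mem_locRing.1 ((locRing M).mul_mem (mem_locRing.2 ha) (mem_locRing.2 hb)), fun N => ?_⟩
    obtain ⟨w, hw, t, ht, hwt⟩ := ha' N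
    obtain ⟨w', hw', t', ht', hwt'⟩ := hb' N
    exact ⟨w * w', (rR p M).mul_mem hw hw', a * t' + t * w', (locRing M).add_mem
      ((locRing M).mul_mem (mem_locRing.2 ha) ht') ((locRing M).mul_mem ht (rR_le p M hw')),
      by linear_combination a * hwt' + w' * hwt⟩
  one_mem' := ⟨mem_locRing.1 (one_mem _), fun N => ⟨1, one_mem _, 0, zero_mem _, by ring⟩⟩
  add_mem' := by
    rintro a b ⟨ha, ha'⟩ ⟨hb, hb'⟩
    refine ⟨mem_locRing.1 ((locRing M).add_mem (mem_locRing.2 ha) (mem_locRing.2 hb)), fun N => ?_⟩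
    obtain ⟨w, hw, t, ht, hwt⟩ := ha' N
    obtain ⟨w', hw', t', ht', hwt'⟩ := hb' N
    exact ⟨w + w', (rR p M).add_mem hw hw', t + t', (locRing M).add_mem ht ht',
      by linear_combination hwt + hwt'⟩
  zero_mem' := ⟨mem_locRing.1 (zero_mem _), fun N => ⟨0, zero_mem _, 0, zero_mem _, by ring⟩⟩
  neg_mem' := by
    rintro a ⟨ha, ha'⟩
    refine ⟨mem_locRing.1 ((locRing M).neg_mem (mem_locRing.2 ha)), fun N => ?_⟩
    obtain ⟨w, hw, t, ht, hwt⟩ := ha' N
    exact ⟨-w, (rR p M).neg_mem hw, -t, (locRing M).neg_mem ht, by linear_combination -hwt⟩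

theorem mem_wHat {z : ℂ} : z ∈ wHat p M ↔
    MemLocalRing M z ∧ ∀ N : ℕ, ∃ w ∈ rR p M, ∃ t ∈ locRing M, z - w = (p : ℂ) ^ N * t := Iff.rfl

theorem wHat_le (p : ℕ) (M : Ideal AlgInt) [M.IsPrime] : wHat p M ≤ locRing M :=
  fun _ h => mem_locRing.2 h.1

theorem rR_le_wHat : rR p M ≤ wHat p M := fun z hz =>
  ⟨(mem_rR.1 hz).2, fun _ => ⟨z, hz, 0, zero_mem _, by ring⟩⟩

/-- A limit of elements of the closure lies in it. -/
theorem mem_wHat_of_approx {z : ℂ} (hz : MemLocalRing M z)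
    (h : ∀ N : ℕ, ∃ w ∈ wHat p M, ∃ t ∈ locRing M, z - w = (p : ℂ) ^ N * t) : z ∈ wHat p M := by
  refine ⟨hz, fun N => ?_⟩
  obtain ⟨w, hw, t, ht, hwt⟩ := h N
  obtain ⟨w', hw', t', ht', hwt'⟩ := hw.2 N
  exact ⟨w', hw', t + t', (locRing M).add_mem ht ht', by linear_combination hwt + hwt'⟩

/-- The maximal ideal of the closure is generated by `p`. -/
theorem div_mem_wHat (hM : IsPModular p M) {z : ℂ} (hz : z ∈ wHat p M) (hm : MemLocalIdeal M z) :
    z / (p : ℂ) ∈ wHat p M := by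
  have hp : (p : ℂ) ≠ 0 := Nat.cast_ne_zero.2 hM.1.ne_zero
  have key : ∀ N : ℕ, ∃ y ∈ rR p M, ∃ t ∈ locRing M, z / (p : ℂ) - y = (p : ℂ) ^ N * t := by
    intro N
    obtain ⟨w, hw, t, ht, hwt⟩ := hz.2 (N + 1)
    have hwm : MemLocalIdeal M w := by
      have h1 : MemLocalIdeal M ((p : ℂ) ^ (N + 1) * t) := by
        rw [pow_succ', mul_assoc, mul_comm]
        exact MemLocalIdeal.mul_left (mem_locRing.1 ((locRing M).mul_mem
          (pow_mem (natCast_mem _ p) N) ht)) ((natCast_memLocalIdeal_iff hM p).2 dvd_rfl)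
      have := MemLocalIdeal.sub hm h1
      rwa [← hwt, sub_sub_cancel] at this
    obtain ⟨y, hy⟩ := exists_mul_prime hM (x := (⟨w, hw⟩ : rR p M)) (rRes_eq_zero_iff.2 hwm)
    have hy' : w = (p : ℂ) * (y : ℂ) := by simpa using congrArg Subtype.val hy
    refine ⟨(y : ℂ), y.2, t, ht, ?_⟩
    rw [sub_eq_iff_eq_add, div_eq_iff hp]
    linear_combination hwt + hy'
  refine ⟨?_, key⟩
  obtain ⟨y, hy, t, ht, hyt⟩ := key 0
  rw [sub_eq_iff_eq_add] at hyt
  rw [hyt]
  exact mem_locRing.1 ((locRing M).add_mem ((locRing M).mul_mem (pow_mem (natCast_mem _ p) 0) ht)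
    (rR_le p M hy))

/-- Every residue is a residue of an element of the closure. -/
theorem exists_wHat_res (hM : IsPModular p M) (c : resField M) :
    ∃ z : locRing M, (z : ℂ) ∈ wHat p M ∧ res M z = c := by
  obtain ⟨x, hx⟩ := rRes_surjective hM c
  exact ⟨rIncl p M x, rR_le_wHat x.2, hx⟩

/-- Inverses of units. -/
theorem inv_mem_wHat (hM : IsPModular p M) {z : ℂ} (hz : z ∈ wHat p M) (hu : ¬ MemLocalIdeal M z) :
    z⁻¹ ∈ wHat p M := by
  have hzi : MemLocalRing M z⁻¹ := memLocalRing_inv hz.1 hu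
  refine mem_wHat_of_approx hzi fun N => ?_
  obtain ⟨w, hw, t, ht, hwt⟩ := hz.2 (N + 1)
  have hwu : ¬ MemLocalIdeal M w := fun hwm => hu (by
    have h1 : MemLocalIdeal M ((p : ℂ) ^ (N + 1) * t) := by
      rw [pow_succ', mul_assoc, mul_comm]
      exact MemLocalIdeal.mul_left (mem_locRing.1 ((locRing M).mul_mem
        (pow_mem (natCast_mem _ p) N) ht)) ((natCast_memLocalIdeal_iff hM p).2 dvd_rfl)
    have := MemLocalIdeal.add h1 hwm
    rwa [← hwt, sub_add_cancel] at this)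
  obtain ⟨u, hu'⟩ := (isUnit_rR_iff (x := (⟨w, hw⟩ : rR p M))).2 fun h => hwu (rRes_eq_zero_iff.1 h)
  have hinv : w⁻¹ = ((↑u⁻¹ : rR p M) : ℂ) := by
    refine inv_eq_of_mul_eq_one_right ?_
    have := congrArg Subtype.val u.mul_inv
    rw [hu'] at this
    simpa using this
  refine ⟨w⁻¹, hinv ▸ rR_le_wHat (↑u⁻¹ : rR p M).2, -((p : ℂ) * t * z⁻¹ * w⁻¹),
    (locRing M).neg_mem ((locRing M).mul_mem ((locRing M).mul_mem ((locRing M).mul_mem
      (natCast_mem _ p) ht) (mem_locRing.2 hzi)) (hinv ▸ rR_le p M (↑u⁻¹ : rR p M).2)), ?_⟩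
  have hz0 : z ≠ 0 := fun h => hu (h ▸ memLocalIdeal_zero)
  have hw0 : w ≠ 0 := fun h => hwu (h ▸ memLocalIdeal_zero)
  field_simp
  rw [pow_succ] at hwt
  linear_combination -hwt

/-- An element of the local ring divisible by all powers of `p` vanishes. -/
theorem eq_zero_of_forall_div (hM : IsPModular p M) {z : ℂ}
    (h : ∀ N : ℕ, MemLocalRing M (z / (p : ℂ) ^ N)) : z = 0 := by
  classical
  by_contra hz0
  obtain ⟨a, b, hb, hab⟩ := (by simpa using h 0 : MemLocalRing M z)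
  have hb0 : (b : ℂ) ≠ 0 := by
    intro h0
    apply hb
    rw [show b = 0 from Subtype.ext h0]
    exact M.zero_mem
  have ha : (a : ℂ) = z * (b : ℂ) := by rw [← hab, div_mul_cancel₀ _ hb0]
  have ha0 : (a : ℂ) ≠ 0 := ha ▸ mul_ne_zero hz0 hb0
  have hai : IsIntegral ℤ (a : ℂ) := isIntegral_coe a
  set c0 := (minpoly ℤ (a : ℂ)).coeff 0 with hc
  have hc0 : c0 ≠ 0 := minpoly_coeff_zero_ne_zero hai ha0
  have hfac : (c0 : ℂ) = -(aeval (a : ℂ) (minpoly ℤ (a : ℂ)).divX) * (a : ℂ) := by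
    have h1 := congrArg (aeval (a : ℂ)) ((minpoly ℤ (a : ℂ)).divX_mul_X_add)
    rw [minpoly.aeval, map_add, map_mul, Polynomial.aeval_X, Polynomial.aeval_C, eq_intCast] at h1
    linear_combination h1
  have hg : IsIntegral ℤ (aeval (a : ℂ) (minpoly ℤ (a : ℂ)).divX) := by
    have hle : Algebra.adjoin ℤ ({(a : ℂ)} : Set ℂ) ≤ integralClosure ℤ ℂ :=
      Algebra.adjoin_le (Set.singleton_subset_iff.2 hai)
    exact hle (Polynomial.aeval_mem_adjoin_singleton ℤ _)
  have hdiv : ∀ N : ℕ, MemLocalRing M ((c0.natAbs : ℂ) / (p : ℂ) ^ N) := by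
    intro N
    have h1 : (c0 : ℂ) / (p : ℂ) ^ N ∈ locRing M := by
      rw [hfac, show ∀ g : ℂ, -g * (a : ℂ) / (p : ℂ) ^ N =
        -(g * (b : ℂ) * (z / (p : ℂ) ^ N)) from fun g => by rw [ha]; ring]
      exact (locRing M).neg_mem ((locRing M).mul_mem ((locRing M).mul_mem
        (mem_locRing_of_isIntegral hg) (mem_locRing.2 (memLocalRing_coe b))) (mem_locRing.2 (h N)))
    rcases Int.natAbs_eq c0 with e | e
    · rw [e, Int.cast_natCast] at h1; exact mem_locRing.1 h1
    · rw [e, Int.cast_neg, Int.cast_natCast, neg_div] at h1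
      exact mem_locRing.1 (by simpa using (locRing M).neg_mem h1)
  suffices H : ∀ n : ℕ, n ≠ 0 → (∀ N : ℕ, MemLocalRing M ((n : ℂ) / (p : ℂ) ^ N)) → False from
    H _ (Int.natAbs_ne_zero.2 hc0) hdiv
  intro n
  induction n using Nat.strong_induction_on with
  | _ n ih =>
  intro hn hN
  have hpC : (p : ℂ) ≠ 0 := Nat.cast_ne_zero.2 hM.1.ne_zero
  obtain ⟨m, hm⟩ : p ∣ n := (natCast_memLocalIdeal_iff hM n).1 (by
    have h1 := MemLocalIdeal.mul_left (hN 1) ((natCast_memLocalIdeal_iff hM p).2 dvd_rfl)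
    rwa [pow_one, div_mul_cancel₀ _ hpC] at h1)
  subst hm
  have hm0 : m ≠ 0 := fun h => hn (by rw [h, mul_zero])
  refine ih m (lt_mul_of_one_lt_left (Nat.pos_of_ne_zero hm0) hM.1.one_lt) hm0 fun N => ?_
  have h1 := hN (N + 1)
  rwa [Nat.cast_mul, pow_succ', mul_div_mul_left _ _ hpC] at h1

variable {G : Type u} [Group G] [Fintype G]

/-- The group algebra over the closure. -/
def wAlg (p : ℕ) (M : Ideal AlgInt) [M.IsPrime] (G : Type u) [Group G] [Fintype G] :
    Subring (MonoidAlgebra (locRing M) G) where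
  carrier := {x | ∀ g, (x.coeff g : ℂ) ∈ wHat p M}
  mul_mem' := fun {x y} hx hy g => by
    rw [coeff_mul_univ, AddSubmonoidClass.coe_finsetSum]
    exact (wHat p M).sum_mem fun a _ => by
      rw [MulMemClass.coe_mul]; exact (wHat p M).mul_mem (hx _) (hy _)
  one_mem' := fun g => by
    classical
    rw [MonoidAlgebra.one_def, coeff_single, Finsupp.single_apply]
    split_ifs <;> simp [one_mem, zero_mem]
  add_mem' := fun {x y} hx hy g => by
    rw [MonoidAlgebra.coeff_add, Finsupp.add_apply]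
    exact (wHat p M).add_mem (hx g) (hy g)
  zero_mem' := fun g => by simp [zero_mem]
  neg_mem' := fun {x} hx g => by
    rw [MonoidAlgebra.coeff_neg, Finsupp.neg_apply]
    exact (wHat p M).neg_mem (hx g)

theorem mem_wAlg {x : MonoidAlgebra (locRing M) G} :
    x ∈ wAlg p M G ↔ ∀ g, (x.coeff g : ℂ) ∈ wHat p M := Iff.rfl

theorem smul_mem_wAlg {c : locRing M} (hc : (c : ℂ) ∈ wHat p M)
    {x : MonoidAlgebra (locRing M) G} (hx : x ∈ wAlg p M G) : c • x ∈ wAlg p M G := fun g => by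
  rw [MonoidAlgebra.coeff_smul, Finsupp.smul_apply, smul_eq_mul, MulMemClass.coe_mul]
  exact (wHat p M).mul_mem hc (hx g)

theorem single_mem_wAlg (g : G) : MonoidAlgebra.single g (1 : locRing M) ∈ wAlg p M G := fun a => by
  classical
  rw [coeff_single, Finsupp.single_apply]
  split_ifs <;> simp [one_mem, zero_mem]

/-- A limit of elements of the algebra lies in it. -/
theorem mem_wAlg_of_approx {x : MonoidAlgebra (locRing M) G}
    (h : ∀ N : ℕ, ∃ w ∈ wAlg p M G, ∃ t, x - w = ((p : locRing M) ^ N) • t) :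
    x ∈ wAlg p M G := fun g =>
  mem_wHat_of_approx (mem_locRing.1 (x.coeff g).2) fun N => by
    obtain ⟨w, hw, t, ht⟩ := h N
    refine ⟨_, hw g, _, (t.coeff g).2, ?_⟩
    have := congrArg (fun y : MonoidAlgebra (locRing M) G => (y.coeff g : ℂ)) ht
    simpa using this

/-- An element of the algebra with vanishing residue is divisible by `p` in it. -/
theorem exists_div_wAlg (hM : IsPModular p M) {x : MonoidAlgebra (locRing M) G}
    (hx : x ∈ wAlg p M G) (h : resG x = 0) :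
    ∃ y ∈ wAlg p M G, x = (p : locRing M) • y := by
  have hp : (p : ℂ) ≠ 0 := Nat.cast_ne_zero.2 hM.1.ne_zero
  have hm : ∀ g, (x.coeff g : ℂ) / (p : ℂ) ∈ wHat p M := fun g => by
    refine div_mem_wHat hM (hx g) (res_eq_zero_iff.1 ?_)
    rw [← coeff_resG, h]
    simp
  refine ⟨gaOfFun fun g => ⟨_, wHat_le p M (hm g)⟩, fun g => ?_, gaExt fun g => ?_⟩
  · rw [coeff_gaOfFun]; exact hm g
  · rw [MonoidAlgebra.coeff_smul, Finsupp.smul_apply, coeff_gaOfFun]
    refine Subtype.ext ?_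
    simp only [smul_eq_mul, MulMemClass.coe_mul, SubringClass.coe_natCast]
    field_simp

/-- Every residual element has a representative in the algebra. -/
theorem exists_wAlg_res (hM : IsPModular p M) (y : MonoidAlgebra (resField M) G) :
    ∃ x ∈ wAlg p M G, resG x = y := by
  choose z hz1 hz2 using fun g => exists_wHat_res hM (y.coeff g)
  exact ⟨gaOfFun z, fun g => by rw [coeff_gaOfFun]; exact hz1 g,
    gaExt fun g => by rw [coeff_resG, coeff_gaOfFun, hz2]⟩

/-- The trace of an element with nilpotent residue lies in the ideal. -/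
theorem chiTr_mem_of_nilpotent (hM : IsPModular p M) (χ : IrrCharacter G)
    {x : MonoidAlgebra (locRing M) G} (hx : x ∈ wAlg p M G) (hn : IsNilpotent (resG x)) :
    MemLocalIdeal M (chiTr χ x 1) := by
  classical
  haveI : Module.Finite (locRing M) (MonoidAlgebra (locRing M) G) :=
    Module.Finite.equiv (MonoidAlgebra.coeffLinearEquiv (locRing M)).symm
  have hp : (p : ℂ) ≠ 0 := Nat.cast_ne_zero.2 hM.1.ne_zero
  obtain ⟨L, hL⟩ := hn
  obtain ⟨y, hy, hxy⟩ := exists_div_wAlg hM ((wAlg p M G).pow_mem hx L) (by rw [map_pow, hL])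
  let E : MonoidAlgebra (locRing M) G →+* Module.End ℂ (Fin χ.2.choose → ℂ) :=
    (repOf χ).asAlgebraHom.toRingHom.comp toC
  have hEsmul : ∀ (c : locRing M) w, E (c • w) = (c : ℂ) • E w := by
    intro c w
    have e : toC (c • w) = (c : ℂ) • toC w := gaExt fun g => by
      rw [MonoidAlgebra.coeff_smul, Finsupp.smul_apply, coeff_toC, coeff_toC,
        MonoidAlgebra.coeff_smul, Finsupp.smul_apply]
      rfl
    show (repOf χ).asAlgebraHom (toC (c • w)) = (c : ℂ) • (repOf χ).asAlgebraHom (toC w)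
    rw [e, map_smul]
  have hEpoly : ∀ (w : MonoidAlgebra (locRing M) G) (P : Polynomial (locRing M)) (ν : ℂ)
      (v : Fin χ.2.choose → ℂ), P.Monic → Polynomial.eval₂ (algebraMap _ _) w P = 0 →
      v ≠ 0 → E w v = ν • v → ν ∈ locRing M := by
    intro w P ν v hPm hP hv0 hv
    have hpow : ∀ i, (E w ^ i) v = ν ^ i • v := fun i => by
      induction i with
      | zero => simp
      | succ i ih => rw [pow_succ, Module.End.mul_apply, hv, map_smul, ih, smul_smul, pow_succ']
    refine mem_locRing_of_root (P := P) hPm ?_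
    have h0 : E (Polynomial.eval₂ (algebraMap (locRing M) _) w P) v = 0 := by
      rw [hP, map_zero, LinearMap.zero_apply]
    rw [Polynomial.eval₂_eq_sum_range, map_sum, LinearMap.sum_apply,
      Finset.sum_congr rfl fun i _ => show E (algebraMap (locRing M) _ (P.coeff i) * w ^ i) v =
        ((P.coeff i : ℂ) * ν ^ i) • v by
        rw [← Algebra.smul_def, hEsmul, map_pow, LinearMap.smul_apply, hpow, smul_smul],
      ← Finset.sum_smul] at h0
    rw [Polynomial.eval₂_eq_sum_range]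
    exact (smul_eq_zero.1 h0).resolve_right hv0
  have hroots : ∀ μ ∈ (E x).charpoly.roots, MemLocalIdeal M μ := by
    intro μ hμ
    obtain ⟨v, hv⟩ := ((Module.End.hasEigenvalue_iff_isRoot_charpoly _ μ).2
      (Polynomial.isRoot_of_mem_roots hμ)).exists_hasEigenvector
    have hy' : E y v = (μ ^ L / (p : ℂ)) • v := by
      have h1 : (E x ^ L) v = μ ^ L • v := hv.pow_apply L
      rw [← map_pow, hxy, hEsmul, LinearMap.smul_apply] at h1
      rw [div_eq_inv_mul, mul_smul, ← h1, smul_smul, SubringClass.coe_natCast,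
        inv_mul_cancel₀ hp, one_smul]
    obtain ⟨Py, hPm, hPy⟩ := (IsIntegral.of_finite (locRing M) y : IsIntegral (locRing M) y)
    obtain ⟨Px, hPxm, hPx⟩ := (IsIntegral.of_finite (locRing M) x : IsIntegral (locRing M) x)
    have hloc := hEpoly y Py _ v hPm hPy hv.2 hy'
    have hμloc := hEpoly x Px μ v hPxm hPx hv.2 hv.apply_eq_smul
    have hμL : MemLocalIdeal M (μ ^ L) := by
      have := MemLocalIdeal.mul_left (mem_locRing.1 hloc)
        ((natCast_memLocalIdeal_iff hM p).2 dvd_rfl)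
      rwa [div_mul_cancel₀ _ hp] at this
    by_contra hnot
    have hinv := memLocalRing_inv (mem_locRing.1 hμloc) hnot
    have hμ0 : μ ≠ 0 := fun h => hnot (h ▸ memLocalIdeal_zero)
    have h1 := MemLocalIdeal.mul_left
      (mem_locRing.1 ((locRing M).pow_mem (mem_locRing.2 hinv) L)) hμL
    rw [inv_pow, inv_mul_cancel₀ (pow_ne_zero _ hμ0)] at h1
    exact hM.1.not_dvd_one ((natCast_memLocalIdeal_iff hM 1).1 (by simpa using h1))
  have htr : chiTr χ x 1 = LinearMap.trace ℂ _ (E x) := by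
    show _ = LinearMap.trace ℂ _ ((repOf χ).asAlgebraHom (toC x))
    rw [asAlgebraHom_eq_sum, map_sum, chiTr]
    refine Finset.sum_congr rfl fun g _ => ?_
    rw [map_smul, smul_eq_mul, one_mul, coeff_toC, ← congrFun (repOf_char χ) g]
    rfl
  rw [htr, Module.End.trace_eq_sum_roots_charpoly_of_splits (IsAlgClosed.splits _)]
  exact Multiset.sum_induction (fun z => MemLocalIdeal M z) _
    (fun a b ha hb => MemLocalIdeal.add ha hb) memLocalIdeal_zero hroots

end Cfsg.Agent.Abelian
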