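/-
A projective indecomposable module contains a character of defect one at most once, when few
characters agree with it on the regular elements.
-/
import Cfsg.Agent.Lib.Star.Abelian.WHat
import Cfsg.Agent.Lib.Star.Points
import Cfsg.Agent.Lib.Star.Focal
import Cfsg.Agent.Lib.DefOne.Galois

set_option linter.unusedSectionVars false
set_option linter.style.haveILetI false

namespace Cfsg.Agent.Abelian

open Cfsg MonoidAlgebra Cfsg.Agent.Blocks Cfsg.Agent.DefOne Cfsg.Agent.Star Cfsg.Agent.Char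
open Polynomial (aeval)

universe u

/-! ## Local corners -/

section LocalCorner

variable {k : Type*} [Field k] {A : Type*} [Ring A] [Algebra k A] {ε : A}

theorem isNilpotent_swap {a b : A} (h : IsNilpotent (a * b)) : IsNilpotent (b * a) := by
  obtain ⟨L, hL⟩ := h
  have key : ∀ n : ℕ, (b * a) ^ (n + 1) = b * (a * b) ^ n * a := fun n => by
    induction n with
    | zero => simp
    | succ n ih => rw [pow_succ, ih, pow_succ (a * b)]; simp only [mul_assoc]
  exact ⟨L + 1, by rw [key, hL, mul_zero, zero_mul]⟩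

theorem not_right_inv_of_nilpotent (hε : ε * ε = ε) (h0 : ε ≠ 0) {n r : A}
    (h2 : n * ε = n) (hn : IsNilpotent n) : n * r ≠ ε := by
  intro h
  obtain ⟨L, hL⟩ := hn
  have key : ∀ j : ℕ, ∃ s, ε * s = s ∧ n ^ j * s = ε := by
    intro j
    induction j with
    | zero => exact ⟨ε, hε, by rw [pow_zero, one_mul]⟩
    | succ j ih =>
      obtain ⟨s, hs1, hs2⟩ := ih
      refine ⟨ε * r * s, by rw [← mul_assoc, ← mul_assoc, hε], ?_⟩
      calc n ^ (j + 1) * (ε * r * s) = n ^ j * (((n * ε) * r) * s) := by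
            rw [pow_succ]; simp only [mul_assoc]
        _ = n ^ j * (ε * s) := by rw [h2, h]
        _ = ε := by rw [hs1, hs2]
  obtain ⟨s, -, hs⟩ := key L
  rw [hL, zero_mul] at hs
  exact h0 hs.symm

theorem isNilpotent_corner_mul (hε : ε * ε = ε) (h0 : ε ≠ 0)
    (hloc : ∀ y, ∃ c : k, IsNilpotent (ε * y * ε - c • ε)) {n : A} (h1 : ε * n = n)
    (h2 : n * ε = n) (hn : IsNilpotent n) (y : A) : IsNilpotent (n * y * ε) := by
  obtain ⟨c, hc⟩ := hloc (n * y)
  rw [show ε * (n * y) * ε = n * y * ε by rw [← mul_assoc, h1]] at hc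
  by_cases hc0 : c = 0
  · rwa [hc0, zero_smul, sub_zero] at hc
  obtain ⟨w, -, -, hw, -⟩ := exists_corner_inv hε
    (show ε * (n * y * ε) = n * y * ε by rw [← mul_assoc, ← mul_assoc, h1])
    (show n * y * ε * ε = n * y * ε by rw [mul_assoc, hε]) hc0 hc
  exact absurd (by simpa only [mul_assoc] using hw : n * (y * (ε * w)) = ε)
    (not_right_inv_of_nilpotent hε h0 h2 hn)

theorem right_inv_is_left {A : Type*} [Ring A] [IsDedekindFiniteMonoid A] {F x v : A}
    (hF : F * F = F) (hx1 : F * x = x) (hx2 : x * F = x) (hv1 : F * v = v) (hv2 : v * F = v)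
    (h : x * v = F) : v * x = F := by
  have h1 : (x + (1 - F)) * (v + (1 - F)) = 1 := by
    simp only [add_mul, mul_add, sub_mul, mul_sub, one_mul, mul_one, hF, hx2, hv1, h]
    abel
  have h2 := mul_eq_one_symm h1
  simp only [add_mul, mul_add, sub_mul, mul_sub, one_mul, mul_one, hF, hx1, hv2] at h2
  have h3 : v * x + (1 - F) = v * x + (x - x) + (v + (1 - F) - (v + (F - F))) := by abel
  rw [h2] at h3
  rwa [← eq_sub_iff_add_eq, sub_sub_cancel] at h3

end LocalCorner

variable {G : Type u} [Group G] [Fintype G] {p : ℕ} {M : Ideal AlgInt} [M.IsPrime]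

/-! ## The algebra over the closure -/

theorem toC_smul (c : locRing M) (x : MonoidAlgebra (locRing M) G) :
    toC (c • x) = (c : ℂ) • toC x := gaExt fun g => by
  rw [MonoidAlgebra.coeff_smul, Finsupp.smul_apply, coeff_toC, coeff_toC,
    MonoidAlgebra.coeff_smul, Finsupp.smul_apply]
  rfl

theorem resG_natCast_smul [CharP (resField M) p] (x : MonoidAlgebra (locRing M) G) :
    resG ((p : locRing M) • x) = 0 := by
  rw [resG_smul, map_natCast, CharP.cast_eq_zero, zero_smul]

theorem pow_p_smul_mem {x : MonoidAlgebra (locRing M) G} (hx : x ∈ wAlg p M G) (N : ℕ) :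
    ((p : locRing M) ^ N) • x ∈ wAlg p M G :=
  smul_mem_wAlg (by rw [SubmonoidClass.coe_pow, SubringClass.coe_natCast]
                    exact pow_mem (natCast_mem _ p) N) hx

/-- Inverses of elements reducing to one. -/
theorem exists_inv_wAlg (hM : IsPModular p M) {x : MonoidAlgebra (locRing M) G}
    (hx : x ∈ wAlg p M G) (h : resG x = 1) :
    ∃ q ∈ wAlg p M G, q * x = 1 ∧ x * q = 1 := by
  obtain ⟨f, hf⟩ := exists_inv_poly x h
  have hf' : x * aeval x f = 1 := by rw [(aeval_commute (Commute.refl x) f).eq, hf]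
  obtain ⟨t, ht, hxt⟩ := exists_div_wAlg hM ((wAlg p M G).sub_mem (one_mem _) hx)
    (by rw [map_sub, map_one, h, sub_self])
  refine ⟨_, mem_wAlg_of_approx fun N => ?_, hf, hf'⟩
  refine ⟨∑ i ∈ Finset.range N, (1 - x) ^ i, (wAlg p M G).sum_mem fun i _ =>
    (wAlg p M G).pow_mem ((wAlg p M G).sub_mem (one_mem _) hx) i, t ^ N * aeval x f, ?_⟩
  have h1 := geom_sum_mul_neg (1 - x) N
  rw [sub_sub_cancel] at h1
  calc aeval x f - ∑ i ∈ Finset.range N, (1 - x) ^ i
      = aeval x f - (∑ i ∈ Finset.range N, (1 - x) ^ i) * x * aeval x f := by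
        rw [mul_assoc, hf', mul_one]
    _ = (1 - x) ^ N * aeval x f := by rw [h1, sub_mul, one_mul, sub_sub_cancel]
    _ = _ := by rw [hxt, smul_pow, smul_mul_assoc]

theorem newton_id {A : Type*} [Ring A] (y : A) :
    (y * y + y * y + y * y - (y * y * y + y * y * y)) *
        (y * y + y * y + y * y - (y * y * y + y * y * y)) -
        (y * y + y * y + y * y - (y * y * y + y * y * y)) =
      (y * y - y) * (y * y - y) *
        ((y * y - y) + (y * y - y) + (y * y - y) + (y * y - y) - 3) := by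
  have h : ∀ X : Polynomial ℤ,
      (X * X + X * X + X * X - (X * X * X + X * X * X)) *
          (X * X + X * X + X * X - (X * X * X + X * X * X)) -
          (X * X + X * X + X * X - (X * X * X + X * X * X)) =
        (X * X - X) * (X * X - X) *
          ((X * X - X) + (X * X - X) + (X * X - X) + (X * X - X) - 3) := fun X => by ring
  simpa only [map_mul, map_sub, map_add, Polynomial.aeval_X, map_ofNat] using
    congrArg (aeval y) (h Polynomial.X)

set_option maxHeartbeats 1000000 in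
/-- A residual idempotent lifts to an idempotent of the algebra. -/
theorem exists_idem_wAlg [CharP (resField M) p] (hM : IsPModular p M)
    {ε : MonoidAlgebra (resField M) G} (hε : ε * ε = ε) :
    ∃ e ∈ wAlg p M G, e * e = e ∧ resG e = ε := by
  obtain ⟨x, hx, rfl⟩ := exists_wAlg_res hM ε
  obtain ⟨f, h1, h2⟩ := exists_idem_poly x hε
  refine ⟨_, mem_wAlg_of_approx fun N => ?_, h1, h2⟩
  set e := aeval x f with he
  have key : ∀ n : ℕ, ∃ y ∈ wAlg p M G, Commute e y ∧ resG y = resG x ∧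
      ∃ t, y * y - y = ((p : locRing M) ^ (n + 1)) • t := by
    intro n
    induction n with
    | zero =>
      obtain ⟨t, -, ht⟩ := exists_div_wAlg hM
        ((wAlg p M G).sub_mem ((wAlg p M G).mul_mem hx hx) hx)
        (by rw [map_sub, map_mul, hε, sub_self])
      exact ⟨x, hx, (aeval_commute (Commute.refl x) f).symm, rfl, t, by rw [zero_add, pow_one, ht]⟩
    | succ n ih =>
      obtain ⟨y, hy, hey, hyr, t, ht⟩ := ih
      have hy2 := (wAlg p M G).mul_mem hy hy
      have hy3 := (wAlg p M G).mul_mem hy2 hy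
      refine ⟨y * y + y * y + y * y - (y * y * y + y * y * y),
        (wAlg p M G).sub_mem ((wAlg p M G).add_mem ((wAlg p M G).add_mem hy2 hy2) hy2)
          ((wAlg p M G).add_mem hy3 hy3), ?_, ?_,
        ((p : locRing M) ^ n) • (t * t) *
          ((y * y - y) + (y * y - y) + (y * y - y) + (y * y - y) - 3), ?_⟩
      · have c2 := hey.mul_right hey
        exact ((c2.add_right c2).add_right c2).sub_right
          ((c2.mul_right hey).add_right (c2.mul_right hey))
      · simp only [map_sub, map_add, map_mul, hyr, hε]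
        abel
      · have hid := newton_id y
        rw [hid]
        conv_lhs => arg 1; rw [ht, smul_mul_smul_comm]
        simp only [smul_mul_assoc, smul_smul]
        congr 1
        rw [← pow_add, ← pow_add]
        congr 1
        omega
  obtain ⟨y, hy, hey, hyr, t, ht⟩ := key N
  set w := e + y - 1 with hw
  have hw1 : resG (w * w) = 1 := by
    rw [map_mul, hw, map_sub, map_add, map_one, h2, hyr]
    simp only [add_mul, mul_add, sub_mul, mul_sub, one_mul, mul_one, hε]
    abel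
  obtain ⟨g, hg⟩ := exists_inv_poly (w * w) hw1
  have hg' : w * w * aeval (w * w) g = 1 := by
    rw [(aeval_commute (Commute.refl (w * w)) g).eq, hg]
  refine ⟨y, hy, (p : locRing M) • (-t * w * aeval (w * w) g), ?_⟩
  have h3 : (e - y) * w = -(y * y - y) := by
    rw [hw]
    simp only [sub_mul, mul_sub, mul_add, mul_one, h1, hey.eq]
    abel
  rw [← mul_one (e - y), ← hg', ← mul_assoc, ← mul_assoc, h3, ht, ← smul_neg, smul_mul_assoc,
    smul_mul_assoc, smul_smul, ← pow_succ]

/-! ## Sums of characters on the group algebra -/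

/-- The sum of the characters of a set. -/
noncomputable def omT (Ω : Finset (IrrCharacter G)) (X : MonoidAlgebra ℂ G) : ℂ :=
  ∑ ψ ∈ Ω, chiExt (ψ : G → ℂ) X

theorem omT_add (Ω : Finset (IrrCharacter G)) (X Y : MonoidAlgebra ℂ G) :
    omT Ω (X + Y) = omT Ω X + omT Ω Y := by
  simp [omT, chiExt_add, Finset.sum_add_distrib]

theorem omT_smul (Ω : Finset (IrrCharacter G)) (c : ℂ) (X : MonoidAlgebra ℂ G) :
    omT Ω (c • X) = c * omT Ω X := by
  simp [omT, chiExt_smul, Finset.mul_sum]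

theorem omT_sub (Ω : Finset (IrrCharacter G)) (X Y : MonoidAlgebra ℂ G) :
    omT Ω (X - Y) = omT Ω X - omT Ω Y :=
  map_sub (AddMonoidHom.mk' (omT Ω) (omT_add Ω)) X Y

theorem omT_sum {ι : Type*} (Ω : Finset (IrrCharacter G)) (s : Finset ι)
    (f : ι → MonoidAlgebra ℂ G) : omT Ω (∑ i ∈ s, f i) = ∑ i ∈ s, omT Ω (f i) :=
  map_sum (AddMonoidHom.mk' (omT Ω) (omT_add Ω)) f s

theorem chiExt_mul_comm (χ : IrrCharacter G) (X Y : MonoidAlgebra ℂ G) :
    chiExt (χ : G → ℂ) (X * Y) = chiExt (χ : G → ℂ) (Y * X) := by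
  obtain ⟨n, ρ, -, h⟩ := χ.2
  rw [← h, ← trace_asAlgebraHom, ← trace_asAlgebraHom, map_mul ρ.asAlgebraHom X Y,
    map_mul ρ.asAlgebraHom Y X, LinearMap.trace_mul_comm]

theorem omT_comm (Ω : Finset (IrrCharacter G)) (X Y : MonoidAlgebra ℂ G) :
    omT Ω (X * Y) = omT Ω (Y * X) :=
  Finset.sum_congr rfl fun ψ _ => chiExt_mul_comm ψ X Y

theorem omT_mul_blockElt (Ω : Finset (IrrCharacter G)) (X : MonoidAlgebra ℂ G) :
    omT Ω (X * blockElt (↑Ω : Set (IrrCharacter G))) = omT Ω X := by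
  classical
  refine Finset.sum_congr rfl fun ψ hψ => ?_
  rw [chiExt_mul_central ψ X (isClassElt_blockElt _), omega_blockElt,
    if_pos (Finset.mem_coe.2 hψ), one_mul]

theorem coeff_mul_of_inv (X : MonoidAlgebra ℂ G) (g : G) :
    (X * of ℂ G g⁻¹).coeff 1 = X.coeff g := by
  classical
  rw [coeff_mul_univ, Finset.sum_eq_single g]
  · simp [Finsupp.single_apply]
  · intro a _ ha
    simp [Finsupp.single_apply, ha, Ne.symm ha]
  · exact fun h => absurd (Finset.mem_univ _) h

theorem coeff_mul_blockElt (Ω : Finset (IrrCharacter G)) {d : ℂ}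
    (hd : ∀ ψ ∈ Ω, (ψ : G → ℂ) 1 = d) (X : MonoidAlgebra ℂ G) (g : G) :
    (X * blockElt (↑Ω : Set (IrrCharacter G))).coeff g =
      d / (Nat.card G : ℂ) * omT Ω (X * of ℂ G g⁻¹) := by
  classical
  have hE := isClassElt_blockElt (↑Ω : Set (IrrCharacter G))
  rw [← coeff_mul_of_inv, mul_assoc, hE.comm, ← mul_assoc,
    div_mul_eq_mul_div, eq_div_iff (Nat.cast_ne_zero.2 Nat.card_pos.ne'), mul_comm _ (Nat.card G : ℂ),
    card_mul_coeff_one, omT, Finset.mul_sum]
  rw [← Finset.sum_subset (Finset.subset_univ Ω) fun χ _ hχ => by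
    rw [chiExt_mul_central χ _ hE, omega_blockElt, if_neg (fun h => hχ (Finset.mem_coe.1 h)),
      zero_mul, mul_zero]]
  refine Finset.sum_congr rfl fun ψ hψ => ?_
  rw [chiExt_mul_central ψ _ hE, omega_blockElt, if_pos (Finset.mem_coe.2 hψ), one_mul, hd ψ hψ]

theorem chiExt_toC (χ : IrrCharacter G) (x : MonoidAlgebra (locRing M) G) :
    chiExt (χ : G → ℂ) (toC x) = chiTr χ x 1 := by
  simp [chiExt, chiTr, coeff_toC]

/-! ## The corner cut by the characters -/

/-- The data of the argument. -/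
structure CornerData (p : ℕ) (M : Ideal AlgInt) [M.IsPrime] (G : Type u) [Group G] [Fintype G] where
  hM : IsPModular p M
  Ω : Finset (IrrCharacter G)
  d : ℂ
  hd : ∀ ψ ∈ Ω, (ψ : G → ℂ) 1 = d
  scale : d / (Nat.card G : ℂ) * (p : ℂ) ∈ wHat p M
  hT : ∀ g, omT Ω (of ℂ G g) ∈ wHat p M
  ê : MonoidAlgebra (locRing M) G
  idem : ê * ê = ê
  mem : ê ∈ wAlg p M G
  ne : resG ê ≠ 0
  hloc : ∀ y, ∃ c : resField M, IsNilpotent (resG ê * y * resG ê - c • resG ê)
  unitT : ¬ MemLocalIdeal M (omT Ω (toC ê))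

namespace CornerData

variable (K : CornerData p M G)

/-- The elements of the corner. -/
def InA (x : MonoidAlgebra (locRing M) G) : Prop :=
  x ∈ wAlg p M G ∧ K.ê * x = x ∧ x * K.ê = x

/-- The elements of the radical of the corner. -/
def InJ (x : MonoidAlgebra (locRing M) G) : Prop := K.InA x ∧ IsNilpotent (resG x)

/-- The idempotent of the characters. -/
noncomputable def E : MonoidAlgebra ℂ G := blockElt (↑K.Ω : Set (IrrCharacter G))

theorem E_idem : K.E * K.E = K.E := blockElt_idem _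

theorem E_comm (X : MonoidAlgebra ℂ G) : K.E * X = X * K.E :=
  (isClassElt_blockElt (↑K.Ω : Set (IrrCharacter G))).comm X

theorem mul_E (X Y : MonoidAlgebra ℂ G) : X * Y * K.E = X * K.E * (Y * K.E) := by
  rw [mul_assoc X K.E, ← mul_assoc K.E Y, K.E_comm Y, mul_assoc Y, K.E_idem, mul_assoc]

theorem inA_ê : K.InA K.ê := ⟨K.mem, K.idem, K.idem⟩

theorem inA_corner {x : MonoidAlgebra (locRing M) G} (hx : x ∈ wAlg p M G) :
    K.InA (K.ê * x * K.ê) :=
  ⟨(wAlg p M G).mul_mem ((wAlg p M G).mul_mem K.mem hx) K.mem,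
    by rw [← mul_assoc, ← mul_assoc, K.idem], by rw [mul_assoc, K.idem]⟩

variable {K}

theorem InA.mul {x y : MonoidAlgebra (locRing M) G} (hx : K.InA x) (hy : K.InA y) :
    K.InA (x * y) :=
  ⟨(wAlg p M G).mul_mem hx.1 hy.1, by rw [← mul_assoc, hx.2.1], by rw [mul_assoc, hy.2.2]⟩

theorem InA.add {x y : MonoidAlgebra (locRing M) G} (hx : K.InA x) (hy : K.InA y) :
    K.InA (x + y) :=
  ⟨(wAlg p M G).add_mem hx.1 hy.1, by rw [mul_add, hx.2.1, hy.2.1],
    by rw [add_mul, hx.2.2, hy.2.2]⟩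

theorem InA.sub {x y : MonoidAlgebra (locRing M) G} (hx : K.InA x) (hy : K.InA y) :
    K.InA (x - y) :=
  ⟨(wAlg p M G).sub_mem hx.1 hy.1, by rw [mul_sub, hx.2.1, hy.2.1],
    by rw [sub_mul, hx.2.2, hy.2.2]⟩

theorem InA.smul {c : locRing M} (hc : (c : ℂ) ∈ wHat p M) {x : MonoidAlgebra (locRing M) G}
    (hx : K.InA x) : K.InA (c • x) :=
  ⟨smul_mem_wAlg hc hx.1, by rw [mul_smul_comm, hx.2.1], by rw [smul_mul_assoc, hx.2.2]⟩

theorem InA.pow_mul {x y : MonoidAlgebra (locRing M) G} (hx : K.InA x) (hy : K.InA y) (n : ℕ) :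
    K.InA (x ^ n * y) := by
  induction n with
  | zero => rwa [pow_zero, one_mul]
  | succ n ih => rw [pow_succ', mul_assoc]; exact hx.mul ih

theorem InA.res {x : MonoidAlgebra (locRing M) G} (hx : K.InA x) :
    resG K.ê * resG x = resG x ∧ resG x * resG K.ê = resG x := by
  rw [← map_mul, ← map_mul, hx.2.1, hx.2.2]
  exact ⟨rfl, rfl⟩

theorem InJ.mul_right {x y : MonoidAlgebra (locRing M) G} (hx : K.InJ x) (hy : K.InA y) :
    K.InJ (x * y) := by
  refine ⟨hx.1.mul hy, ?_⟩
  have := isNilpotent_corner_mul (by rw [← map_mul, K.idem]) K.ne K.hloc hx.1.res.1 hx.1.res.2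
    hx.2 (resG y)
  rwa [mul_assoc, hy.res.2, ← map_mul] at this

theorem InJ.mul_left {x y : MonoidAlgebra (locRing M) G} (hy : K.InA y) (hx : K.InJ x) :
    K.InJ (y * x) := by
  refine ⟨hy.mul hx.1, ?_⟩
  rw [map_mul]
  refine isNilpotent_swap ?_
  rw [← map_mul]
  exact (hx.mul_right hy).2

variable (K)

theorem omT_mem {x : MonoidAlgebra (locRing M) G} (hx : x ∈ wAlg p M G) :
    omT K.Ω (toC x) ∈ wHat p M := by
  rw [eq_sum_of (toC x), omT_sum]
  exact (wHat p M).sum_mem fun g _ => by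
    rw [omT_smul, coeff_toC]
    exact (wHat p M).mul_mem (hx g) (K.hT g)

theorem omT_div {x : MonoidAlgebra (locRing M) G} (hx : K.InJ x) :
    omT K.Ω (toC x) / (p : ℂ) ∈ wHat p M := by
  refine div_mem_wHat K.hM (K.omT_mem hx.1.1) (memLocalIdeal_sum _ _ fun ψ _ => ?_)
  rw [chiExt_toC]
  exact chiTr_mem_of_nilpotent K.hM ψ hx.1.1 hx.2

theorem omT_ne : omT K.Ω (toC K.ê) ≠ 0 := fun h => K.unitT (h ▸ memLocalIdeal_zero)

theorem exists_scalar {y : MonoidAlgebra (locRing M) G} (hy : K.InA y) :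
    ∃ c : locRing M, (c : ℂ) ∈ wHat p M ∧ K.InJ (y - c • K.ê) := by
  obtain ⟨c, hc⟩ := K.hloc (resG y)
  rw [hy.res.1, hy.res.2] at hc
  obtain ⟨z, hz, rfl⟩ := exists_wHat_res K.hM c
  exact ⟨z, hz, hy.sub (K.inA_ê.smul hz), by rwa [map_sub, resG_smul]⟩

set_option maxHeartbeats 1000000 in
/-- An element with divisible traces is divisible on the characters. -/
theorem exists_rep {X : MonoidAlgebra (locRing M) G} (hX : K.InA X)
    (h0 : omT K.Ω (toC X) / (p : ℂ) ∈ wHat p M)
    (h1 : ∀ b, K.InJ b → omT K.Ω (toC (X * b)) / (p : ℂ) ^ 2 ∈ wHat p M) :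
    ∃ w, K.InA w ∧ toC X * K.E = (p : ℂ) • (toC w * K.E) := by
  classical
  have hp : (p : ℂ) ≠ 0 := Nat.cast_ne_zero.2 K.hM.1.ne_zero
  set lam := omT K.Ω (toC X) / (p : ℂ) * (omT K.Ω (toC K.ê))⁻¹ with hlam
  have hlamM : lam ∈ wHat p M :=
    (wHat p M).mul_mem h0 (inv_mem_wHat K.hM (K.omT_mem K.mem) K.unitT)
  set l : locRing M := ⟨lam, wHat_le p M hlamM⟩ with hl
  set X' := X - ((p : locRing M) * l) • K.ê with hX'
  have hX'A : K.InA X' := hX.sub (K.inA_ê.smul ((wHat p M).mul_mem (natCast_mem _ p) hlamM))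
  have hT0 : omT K.Ω (toC X') = 0 := by
    rw [hX', map_sub, omT_sub, toC_smul, omT_smul, MulMemClass.coe_mul, SubringClass.coe_natCast]
    show _ - (p : ℂ) * lam * _ = 0
    rw [hlam]
    field_simp [K.omT_ne]
    ring
  have hy : ∀ y, K.InA y → omT K.Ω (toC (X' * y)) / (p : ℂ) ^ 2 ∈ wHat p M := by
    intro y hy
    obtain ⟨c, hc, hb⟩ := K.exists_scalar hy
    have e : X' * y = c • X' + (X * (y - c • K.ê) - ((p : locRing M) * l) • (y - c • K.ê)) := by
      rw [hX', sub_mul, smul_mul_assoc, hy.2.1]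
      simp only [mul_sub, mul_smul_comm, hX.2.2, smul_sub, smul_smul]
      rw [mul_comm c ((p : locRing M) * l)]
      abel
    rw [e, map_add, omT_add, toC_smul, omT_smul, hT0, mul_zero, zero_add, map_sub, omT_sub,
      toC_smul _ (y - c • K.ê), omT_smul, sub_div]
    refine (wHat p M).sub_mem (h1 _ hb) ?_
    have := (wHat p M).mul_mem hlamM (K.omT_div hb)
    convert this using 1
    rw [MulMemClass.coe_mul, SubringClass.coe_natCast]
    show (p : ℂ) * lam * _ / _ = _
    field_simp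
  have hcoef : ∀ g, (toC X' * K.E).coeff g / (p : ℂ) ∈ wHat p M := by
    intro g
    rw [E, coeff_mul_blockElt K.Ω K.hd]
    have e : omT K.Ω (toC X' * of ℂ G g⁻¹) =
        omT K.Ω (toC (X' * (K.ê * MonoidAlgebra.single g⁻¹ 1 * K.ê))) := by
      have hof : toC (MonoidAlgebra.single g⁻¹ (1 : locRing M)) = of ℂ G g⁻¹ := gaExt fun a => by
        rw [coeff_toC, MonoidAlgebra.of_apply, coeff_single, coeff_single, Finsupp.single_apply,
          Finsupp.single_apply]
        split_ifs <;> simp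
      rw [← mul_assoc, ← mul_assoc, hX'A.2.2, map_mul toC (X' * _) K.ê, omT_comm _ _ (toC K.ê),
        ← map_mul, ← mul_assoc, hX'A.2.1, map_mul, hof]
    rw [e]
    have := (wHat p M).mul_mem K.scale (hy _ (K.inA_corner (single_mem_wAlg g⁻¹)))
    convert this using 1
    field_simp
  set w0 : MonoidAlgebra (locRing M) G :=
    gaOfFun fun g => ⟨_, wHat_le p M (hcoef g)⟩ with hw0
  have hw0m : w0 ∈ wAlg p M G := fun g => by rw [hw0, coeff_gaOfFun]; exact hcoef g
  have hw0C : (p : ℂ) • toC w0 = toC X' * K.E := gaExt fun g => by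
    rw [MonoidAlgebra.coeff_smul, Finsupp.smul_apply, coeff_toC, hw0, coeff_gaOfFun, smul_eq_mul]
    exact mul_div_cancel₀ _ hp
  refine ⟨K.ê * w0 * K.ê + l • K.ê, (K.inA_corner hw0m).add (K.inA_ê.smul hlamM), ?_⟩
  have h3 : (p : ℂ) • (toC (K.ê * w0 * K.ê) * K.E) = toC X' * K.E := by
    rw [← smul_mul_assoc, map_mul, map_mul, ← smul_mul_assoc, ← mul_smul_comm, hw0C,
      ← mul_assoc (toC K.ê), ← map_mul, hX'A.2.1, mul_assoc, mul_assoc, ← mul_assoc K.E,
      K.E_comm, mul_assoc (toC K.ê), K.E_idem, ← mul_assoc, ← map_mul, hX'A.2.2]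
  rw [map_add, add_mul, smul_add, h3, hX', map_sub, sub_mul, toC_smul, toC_smul, smul_mul_assoc,
    smul_mul_assoc, smul_smul, MulMemClass.coe_mul, SubringClass.coe_natCast, sub_add_cancel]

set_option maxHeartbeats 1000000 in
/-- A corner generated by one element is commutative on the characters. -/
theorem comm_of_generator {π : MonoidAlgebra (locRing M) G} (hπ : K.InA π)
    (hnil : ∃ L t, K.InA t ∧ π ^ L = (p : locRing M) • t)
    (hgen : ∀ y, K.InA y → ∃ c : locRing M, (c : ℂ) ∈ wHat p M ∧ ∃ r, K.InA r ∧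
      toC y * K.E = toC (c • K.ê + π * r) * K.E)
    {X Y : MonoidAlgebra (locRing M) G} (hX : K.InA X) (hY : K.InA Y) :
    toC (X * Y - Y * X) * K.E = 0 := by
  classical
  set S := Algebra.adjoin ℂ ({toC π, toC K.ê} : Set (MonoidAlgebra ℂ G)) with hS
  have hpe : Commute (toC π) (toC K.ê) := by
    rw [commute_iff_eq, ← map_mul, ← map_mul, hπ.2.1, hπ.2.2]
  have hScomm : ∀ a ∈ S, ∀ b ∈ S, Commute a b := by
    have hgens : ∀ a ∈ ({toC π, toC K.ê} : Set (MonoidAlgebra ℂ G)), ∀ b ∈ ({toC π, toC K.ê} : Set (MonoidAlgebra ℂ G)), Commute a b := by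
      rintro a (rfl | rfl) b (rfl | rfl)
      exacts [Commute.refl _, hpe, hpe.symm, Commute.refl _]
    intro a ha b hb
    exact Algebra.commute_of_mem_adjoin_of_forall_mem_commute hb fun c hc =>
      (Algebra.commute_of_mem_adjoin_of_forall_mem_commute ha fun c' hc' => hgens c hc c' hc').symm
  have key : ∀ N : ℕ, ∀ y, K.InA y → ∃ P r, K.InA P ∧ toC P ∈ S ∧ K.InA r ∧
      toC y * K.E = toC (P + π ^ N * r) * K.E := by
    intro N
    induction N with
    | zero =>
      intro y hy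
      exact ⟨0, y, ⟨zero_mem _, mul_zero _, zero_mul _⟩, by simp, hy,
        by rw [zero_add, pow_zero, one_mul]⟩
    | succ N ih =>
      intro y hy
      obtain ⟨P, r, hP, hPS, hr, he⟩ := ih y hy
      obtain ⟨c, hc, r', hr', he'⟩ := hgen r hr
      refine ⟨P + c • (π ^ N * K.ê), r', hP.add ((hπ.pow_mul K.inA_ê N).smul hc), ?_, hr', ?_⟩
      · have h1 : toC π ∈ S := Algebra.subset_adjoin (Set.mem_insert _ _)
        have h2 : toC K.ê ∈ S := Algebra.subset_adjoin (Set.mem_insert_of_mem _ rfl)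
        have h3 : toC (π ^ N * K.ê) ∈ S := by
          rw [map_mul, map_pow]
          exact S.mul_mem (S.pow_mem h1 N) h2
        rw [map_add, toC_smul]
        exact S.add_mem hPS (S.smul_mem h3 _)
      · rw [he, map_add, add_mul, map_mul, mul_assoc, he', ← mul_assoc, ← map_mul, ← add_mul,
          ← map_add, pow_succ, mul_add, mul_smul_comm, mul_assoc, add_assoc]
  obtain ⟨L, t, ht, hL⟩ := hnil
  have hdeep : ∀ N : ℕ, ∀ y, K.InA y → ∃ P r, K.InA P ∧ toC P ∈ S ∧ K.InA r ∧
      toC y * K.E = (toC P + (p : ℂ) ^ N • toC r) * K.E := by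
    intro N y hy
    obtain ⟨P, r, hP, hPS, hr, he⟩ := key (L * N) y hy
    refine ⟨P, t ^ N * r, hP, hPS, ht.pow_mul hr N, ?_⟩
    rw [he, map_add, pow_mul, hL, smul_pow, smul_mul_assoc, toC_smul, SubmonoidClass.coe_pow,
      SubringClass.coe_natCast]
  have hzero : ∀ g, omT K.Ω (toC (X * Y - Y * X) * of ℂ G g) = 0 := by
    intro g
    refine eq_zero_of_forall_div K.hM fun N => ?_
    obtain ⟨P, r, hP, hPS, hr, hXe⟩ := hdeep N X hX
    obtain ⟨Q, s, hQ, hQS, hs, hYe⟩ := hdeep N Y hY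
    have hPQ : toC P * toC Q = toC Q * toC P := (hScomm _ hPS _ hQS).eq
    set W := P * s - s * P + (r * Q - Q * r) + ((p : locRing M) ^ N) • (r * s - s * r) with hW
    have hWm : W ∈ wAlg p M G := (wAlg p M G).add_mem ((wAlg p M G).add_mem
      ((hP.mul hs).sub (hs.mul hP)).1 ((hr.mul hQ).sub (hQ.mul hr)).1)
      (pow_p_smul_mem ((hr.mul hs).sub (hs.mul hr)).1 N)
    have e : toC (X * Y - Y * X) * K.E = (p : ℂ) ^ N • (toC W * K.E) := by
      rw [map_sub, sub_mul, map_mul, map_mul, K.mul_E, K.mul_E (toC Y), hXe, hYe, ← K.mul_E,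
        ← K.mul_E, ← sub_mul, ← smul_mul_assoc]
      congr 1
      rw [hW]
      simp only [map_add, map_sub, map_mul, toC_smul, SubmonoidClass.coe_pow,
        SubringClass.coe_natCast, mul_add, add_mul, smul_add, smul_sub, smul_mul_assoc,
        mul_smul_comm, hPQ]
      abel
    set o := MonoidAlgebra.single g (1 : locRing M) with ho
    have hog : toC o = of ℂ G g := gaExt fun a => by
      rw [coeff_toC, MonoidAlgebra.of_apply, ho, coeff_single, coeff_single, Finsupp.single_apply,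
        Finsupp.single_apply]
      split_ifs <;> simp
    have e2 : omT K.Ω (toC (X * Y - Y * X) * of ℂ G g) = (p : ℂ) ^ N * omT K.Ω (toC (W * o)) := by
      rw [← omT_mul_blockElt, ← E, mul_assoc, ← K.E_comm, ← mul_assoc, e, smul_mul_assoc, omT_smul,
        mul_assoc, K.E_comm, ← mul_assoc, E, omT_mul_blockElt, ← hog, ← map_mul]
    rw [e2, mul_div_cancel_left₀ _ (pow_ne_zero _ (Nat.cast_ne_zero.2 K.hM.1.ne_zero))]
    exact (K.omT_mem ((wAlg p M G).mul_mem hWm (single_mem_wAlg g))).1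
  refine gaExt fun g => ?_
  rw [E, coeff_mul_blockElt K.Ω K.hd, hzero, mul_zero]
  simp

set_option maxHeartbeats 2000000 in
/-- The corner is commutative on the characters. -/
theorem comm [CharP (resField M) p] {X Y : MonoidAlgebra (locRing M) G} (hX : K.InA X)
    (hY : K.InA Y) : toC (X * Y - Y * X) * K.E = 0 := by
  classical
  have hp : (p : ℂ) ≠ 0 := Nat.cast_ne_zero.2 K.hM.1.ne_zero
  have hεε : resG K.ê * resG K.ê = resG K.ê := by rw [← map_mul, K.idem]
  by_cases hI : ∀ a b, K.InJ a → K.InJ b → omT K.Ω (toC (a * b)) / (p : ℂ) ^ 2 ∈ wHat p M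
  · refine K.comm_of_generator (π := (p : locRing M) • K.ê)
      (K.inA_ê.smul (by rw [SubringClass.coe_natCast]; exact natCast_mem _ p))
      ⟨1, K.ê, K.inA_ê, pow_one _⟩ (fun y hy => ?_) hX hY
    obtain ⟨c, hc, hb⟩ := K.exists_scalar hy
    obtain ⟨w, hw, he⟩ := K.exists_rep hb.1 (K.omT_div hb) (fun b' hb' => hI _ _ hb hb')
    refine ⟨c, hc, w, hw, ?_⟩
    rw [smul_mul_assoc, hw.2.1, map_add, add_mul, toC_smul (p : locRing M), smul_mul_assoc,
      SubringClass.coe_natCast, ← he, ← add_mul, ← map_add, add_sub_cancel]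
  push Not at hI
  let rk : MonoidAlgebra (locRing M) G → ℕ := fun x =>
    Module.finrank (resField M) (LinearMap.range (LinearMap.mulLeft (resField M) (resG x)))
  have hex : ∃ n, ∃ x a, K.InJ x ∧ K.InJ a ∧
      omT K.Ω (toC (x * a)) / (p : ℂ) ^ 2 ∉ wHat p M ∧ rk x = n := by
    obtain ⟨x, a, h1, h2, h3⟩ := hI
    exact ⟨_, x, a, h1, h2, h3, rfl⟩
  obtain ⟨x, a, hx, ha, hxa, hrk⟩ := Nat.find_spec hex
  have hxne : resG x ≠ 0 := by
    intro h0
    obtain ⟨x', hx', hxx'⟩ := exists_div_wAlg K.hM hx.1.1 h0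
    have e : x = (p : locRing M) • (K.ê * x' * K.ê) := by
      rw [← smul_mul_assoc, ← mul_smul_comm, ← hxx', hx.1.2.1, hx.1.2.2]
    apply hxa
    rw [e, smul_mul_assoc, toC_smul, omT_smul, SubringClass.coe_natCast]
    have := K.omT_div (InJ.mul_left (K.inA_corner hx') ha)
    convert this using 1
    field_simp
  have hmin : ∀ b a', K.InJ b → K.InJ a' →
      omT K.Ω (toC (x * b * a')) / (p : ℂ) ^ 2 ∈ wHat p M := by
    intro b a' hb ha'
    by_contra hcon
    refine Nat.find_min hex (m := rk (x * b)) ?_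
      ⟨x * b, a', hx.mul_right hb.1, ha', hcon, rfl⟩
    rw [← hrk]
    haveI : Module.Finite (resField M) (MonoidAlgebra (resField M) G) :=
      Module.Finite.equiv (MonoidAlgebra.coeffLinearEquiv (resField M)).symm
    refine Submodule.finrank_lt_finrank_of_lt (lt_of_le_of_ne ?_ fun heq => hxne ?_)
    · rintro _ ⟨z, rfl⟩
      exact ⟨resG b * z, by simp [mul_assoc]⟩
    · have hmem : resG x ∈ LinearMap.range (LinearMap.mulLeft (resField M) (resG (x * b))) :=
        heq ▸ ⟨resG K.ê, hx.1.res.2⟩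
      obtain ⟨r, hr⟩ := hmem
      rw [LinearMap.mulLeft_apply] at hr
      have hn : IsNilpotent (resG b * r * resG K.ê) :=
        isNilpotent_corner_mul hεε K.ne K.hloc hb.1.res.1 hb.1.res.2 hb.2 r
      have hxn : resG x * (resG b * r * resG K.ê) = resG x := by
        rw [← mul_assoc, ← mul_assoc, ← map_mul, hr, hx.1.res.2]
      have : ∀ j : ℕ, resG x * (resG b * r * resG K.ê) ^ j = resG x := fun j => by
        induction j with
        | zero => rw [pow_zero, mul_one]
        | succ j ih => rw [pow_succ, ← mul_assoc, ih, hxn]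
      obtain ⟨L, hL⟩ := hn
      rw [← this L, hL, mul_zero]
  -- `x * a / p` is a unit of the corner on the characters
  have h0 : omT K.Ω (toC (x * a)) / (p : ℂ) ∈ wHat p M := K.omT_div (hx.mul_right ha.1)
  have hunit : ¬ MemLocalIdeal M (omT K.Ω (toC (x * a)) / (p : ℂ)) := fun h => hxa (by
    have := div_mem_wHat K.hM h0 h
    rwa [div_div, ← pow_two] at this)
  obtain ⟨y, hy, hxay⟩ := K.exists_rep (hx.1.mul ha.1) h0 (fun c hc => hmin a c ha hc)
  have hTy : omT K.Ω (toC y) = omT K.Ω (toC (x * a)) / (p : ℂ) := by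
    rw [← omT_mul_blockElt K.Ω (toC (x * a)), ← E, hxay, omT_smul, E, omT_mul_blockElt,
      mul_div_cancel_left₀ _ hp]
  obtain ⟨c, hc, hcn⟩ := K.exists_scalar hy
  have hc0 : res M c ≠ 0 := fun h => by
    refine hunit (hTy ▸ ?_)
    rw [show y = c • K.ê + (y - c • K.ê) from (add_sub_cancel _ _).symm, map_add, omT_add,
      toC_smul, omT_smul, mul_comm]
    refine MemLocalIdeal.add (MemLocalIdeal.mul_left (K.omT_mem K.mem).1
      (res_eq_zero_iff.1 h)) ?_
    have := MemLocalIdeal.mul_left (K.omT_div hcn).1 ((natCast_memLocalIdeal_iff K.hM p).2 dvd_rfl)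
    rwa [div_mul_cancel₀ _ hp] at this
  obtain ⟨w, hw1, hw2, hyw, hwy⟩ := exists_corner_inv hεε hy.res.1 hy.res.2 hc0
    (by have := hcn.2; rwa [map_sub, resG_smul] at this)
  obtain ⟨w₀, hw₀, hw₀r⟩ := exists_wAlg_res K.hM w
  obtain ⟨q, hq, -, hq2⟩ := exists_inv_wAlg K.hM
    (x := y * (K.ê * w₀ * K.ê) + (1 - K.ê))
    ((wAlg p M G).add_mem (hy.mul (K.inA_corner hw₀)).1 ((wAlg p M G).sub_mem (one_mem _) K.mem))
    (by rw [map_add, map_sub, map_one, map_mul, map_mul, map_mul, hw₀r, hw1, hw2, hyw,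
      add_sub_cancel])
  set y' := K.ê * w₀ * K.ê * (K.ê * q * K.ê) with hy'def
  have hy' : K.InA y' := (K.inA_corner hw₀).mul (K.inA_corner hq)
  have hyy' : y * y' = K.ê := by
    have e : K.ê * (y * (K.ê * w₀ * K.ê) + (1 - K.ê)) = y * (K.ê * w₀ * K.ê) * K.ê := by
      rw [mul_add, mul_sub, mul_one, K.idem, sub_self, add_zero, (hy.mul (K.inA_corner hw₀)).2.1,
        (hy.mul (K.inA_corner hw₀)).2.2]
    have h3 : K.ê = y * (K.ê * w₀ * K.ê) * (K.ê * q * K.ê) :=
      calc K.ê = K.ê * ((y * (K.ê * w₀ * K.ê) + (1 - K.ê)) * q) * K.ê := by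
            rw [hq2, mul_one, K.idem]
        _ = K.ê * (y * (K.ê * w₀ * K.ê) + (1 - K.ê)) * q * K.ê := by
            rw [← mul_assoc K.ê]
        _ = y * (K.ê * w₀ * K.ê) * K.ê * q * K.ê := by rw [e]
        _ = _ := by simp only [mul_assoc]
    rw [hy'def, ← mul_assoc y]
    exact h3.symm
  set F := toC K.ê * K.E with hF
  have hEe : ∀ Z, K.InA Z → F * (toC Z * K.E) = toC Z * K.E ∧
      toC Z * K.E * F = toC Z * K.E := fun Z hZ =>
    ⟨by rw [hF, ← K.mul_E, ← map_mul, hZ.2.1], by rw [hF, ← K.mul_E, ← map_mul, hZ.2.2]⟩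
  have hright : (toC x * K.E) * ((p : ℂ)⁻¹ • (toC (a * y') * K.E)) = F := by
    rw [mul_smul_comm, ← K.mul_E, ← map_mul, ← mul_assoc, map_mul toC (x * a), K.mul_E, hxay,
      smul_mul_assoc, inv_smul_smul₀ hp, ← K.mul_E, ← map_mul, hyy', hF]
  haveI : IsDedekindFiniteMonoid (MonoidAlgebra ℂ G) := inferInstance
  have hleft : ((p : ℂ)⁻¹ • (toC (a * y') * K.E)) * (toC x * K.E) = F :=
    right_inv_is_left (hEe _ K.inA_ê).1 (hEe x hx.1).1 (hEe x hx.1).2
      (by rw [mul_smul_comm, (hEe _ (ha.1.mul hy')).1])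
      (by rw [smul_mul_assoc, (hEe _ (ha.1.mul hy')).2]) hright
  refine K.comm_of_generator ha.1 ?_ (fun z hz => ?_) hX hY
  · obtain ⟨L, hL⟩ := ha.2
    obtain ⟨t, ht, hat⟩ := exists_div_wAlg K.hM
      ((wAlg p M G).pow_mem ha.1.1 (L + 1)) (by rw [map_pow, pow_succ, hL, zero_mul])
    refine ⟨L + 1, K.ê * t * K.ê, K.inA_corner ht, ?_⟩
    rw [← smul_mul_assoc, ← mul_smul_comm, ← hat]
    conv_rhs => arg 1; rw [pow_succ', ← mul_assoc, ha.1.2.1, ← pow_succ']
    rw [pow_succ, mul_assoc, ha.1.2.2]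
  · obtain ⟨c, hc, hb⟩ := K.exists_scalar hz
    obtain ⟨v, hv, hxb⟩ := K.exists_rep (hx.1.mul hb.1) (K.omT_div (hx.mul_right hb.1))
      (fun c' hc' => hmin _ c' hb hc')
    refine ⟨c, hc, y' * v, hy'.mul hv, ?_⟩
    have hbE : toC (z - c • K.ê) * K.E = toC (a * (y' * v)) * K.E := by
      rw [← (hEe _ hb.1).1, ← hleft, mul_assoc, ← K.mul_E (toC x), ← map_mul, hxb, mul_smul_comm,
        smul_mul_assoc, smul_inv_smul₀ hp, ← K.mul_E, ← map_mul, mul_assoc a]
    rw [map_add, add_mul, ← hbE, ← add_mul, ← map_add, add_sub_cancel]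

end CornerData

/-! ## The multiplicity -/

theorem fixed_on_regular (hp : p.Prime) {σ : ℂ ≃+* ℂ} (hσ : FixesP p σ) (χ : IrrCharacter G)
    {s : G} (hs : ¬ p ∣ orderOf s) : σ ((χ : G → ℂ) s) = (χ : G → ℂ) s := by
  classical
  have h := CharGalois.map_char
    (IsCharacter.restrict (irr_isCharacter χ) (Subgroup.zpowers s)) σ.toRingHom (k := 1)
    (fun z hz => by
      rw [pow_one]
      exact hσ z ⟨_, by rw [Nat.card_zpowers]; exact hs, hz⟩) ⟨s, Subgroup.mem_zpowers s⟩
  simpa using h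

set_option maxHeartbeats 2000000 in
/-- A projective indecomposable contains a character of defect one at most once. -/
theorem chiTr_eq_one [Fact p.Prime] [CharP (resField M) p] (hM : IsPModular p M)
    (χ : IrrCharacter G) (hdef : ∃ d : ℕ, (χ : G → ℂ) 1 = d ∧
      d.factorization p + 1 = (Nat.card G).factorization p)
    (hcard : Nat.card {ψ : IrrCharacter G //
      ∀ g, ¬ p ∣ orderOf g → (ψ : G → ℂ) g = (χ : G → ℂ) g} < p)
    {ê : MonoidAlgebra (locRing M) G} (hê : ê * ê = ê) (hprim : IsPrim (resG ê)) {z : ℕ}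
    (hz : chiTr χ ê 1 = (z : ℂ)) (hzp : ¬ p ∣ z) : z = 1 := by
  classical
  have hp : p.Prime := Fact.out
  obtain ⟨e, hem, hee, her⟩ := exists_idem_wAlg hM hprim.idem
  have hze : chiTr χ e 1 = (z : ℂ) := by
    rw [← hz]
    have hinv : ∀ w : MonoidAlgebra (locRing M) G, IsInvElt (⊥ : Subgroup G) w := fun w u hu g => by
      rw [Subgroup.mem_bot.1 hu]; simp
    have := chiTr_congr hM (u := (1 : G)) (s := 1) ⟨0, by simp⟩ (by simp [hp.ne_one])
      (Commute.refl _) (one_mem (⊥ : Subgroup G)) (one_mem _) hee hê (hinv e) (hinv ê)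
      (fun g _ => by rw [← coeff_resG, ← coeff_resG, her]) χ
    rwa [mul_one] at this
  set Ω : Finset (IrrCharacter G) :=
    Finset.univ.filter fun ψ => ∀ g, ¬ p ∣ orderOf g → (ψ : G → ℂ) g = (χ : G → ℂ) g with hΩ
  have hΩc : Ω.card < p := by rwa [hΩ, ← Fintype.card_subtype, ← Nat.card_eq_fintype_card]
  obtain ⟨d, hd, hdfac⟩ := hdef
  have hd0 : d ≠ 0 := fun h => irr_one_ne_zero χ (by rw [hd, h, Nat.cast_zero])
  have hdψ : ∀ ψ ∈ Ω, (ψ : G → ℂ) 1 = (d : ℂ) := fun ψ hψ => by
    rw [(Finset.mem_filter.1 hψ).2 1 (by simp [hp.ne_one]), hd]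
  have hbot : IsInvElt (Subgroup.zpowers (1 : G)) e := fun u hu g => by
    rw [Subgroup.zpowers_one_eq_bot, Subgroup.mem_bot] at hu
    rw [hu]; simp
  have hTψ : ∀ ψ ∈ Ω, chiExt (ψ : G → ℂ) (toC e) = (z : ℂ) := fun ψ hψ => by
    have h0 := sum_coeff_mul_eq_zero hM (s := (1 : G)) (by simp [hp.ne_one]) hee hbot
      (g := fun w => (ψ : G → ℂ) w - (χ : G → ℂ) w)
      (fun a b => by simp only [irr_conj_invariant])
      (fun w hw => by rw [(Finset.mem_filter.1 hψ).2 w hw, sub_self])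
    rw [chiExt_toC, ← hze, ← sub_eq_zero, ← h0]
    simp only [chiTr, one_mul, mul_sub, Finset.sum_sub_distrib]
  haveI := DefOne.isAlgClosed_resField (M := M)
  haveI : Module.Finite (resField M) (MonoidAlgebra (resField M) G) :=
    Module.Finite.equiv (MonoidAlgebra.coeffLinearEquiv (resField M)).symm
  obtain ⟨Spl⟩ := nonempty_splitting (k := resField M) (A := MonoidAlgebra (resField M) G)
  have hgal : ∀ σ : ℂ ≃+* ℂ, FixesP p σ → ∀ ψ ∈ Ω, galT σ ψ ∈ Ω := fun σ hσ ψ hψ => by
    refine Finset.mem_filter.2 ⟨Finset.mem_univ _, fun g hg => ?_⟩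
    rw [galT_apply, fixed_on_regular hp hσ ψ hg, (Finset.mem_filter.1 hψ).2 g hg]
  let K : CornerData p M G :=
    { hM := hM
      Ω := Ω
      d := d
      hd := hdψ
      scale := by
        have hG := Nat.card_pos (α := G) |>.ne'
        have hm := Nat.ordProj_mul_ordCompl_eq_self (Nat.card G) p
        have hd' := Nat.ordProj_mul_ordCompl_eq_self d p
        have hmu : ¬ MemLocalIdeal M ((Nat.card G / p ^ (Nat.card G).factorization p : ℕ) : ℂ) :=
          fun h => Nat.not_dvd_ordCompl hp hG ((natCast_memLocalIdeal_iff hM _).1 h)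
        have e : (d : ℂ) / (Nat.card G : ℂ) * (p : ℂ) =
            ((d / p ^ d.factorization p : ℕ) : ℂ) *
              ((Nat.card G / p ^ (Nat.card G).factorization p : ℕ) : ℂ)⁻¹ := by
          generalize d / p ^ d.factorization p = d₁ at hd' ⊢
          generalize Nat.card G / p ^ (Nat.card G).factorization p = m₁ at hm hmu ⊢
          have hm0 : (m₁ : ℂ) ≠ 0 := fun h => hmu (h ▸ memLocalIdeal_zero)
          have hp0 : (p : ℂ) ≠ 0 := Nat.cast_ne_zero.2 hp.ne_zero
          generalize (Nat.card G).factorization p = b at hm hdfac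
          generalize d.factorization p = a at hd' hdfac
          subst hdfac
          rw [← hm, ← hd', pow_succ]
          push_cast
          field_simp
        rw [e]
        exact (wHat p M).mul_mem (natCast_mem _ _) (inv_mem_wHat hM (natCast_mem _ _) hmu)
      hT := fun g => by
        have hint : IsIntegral ℤ (omT Ω (of ℂ G g)) :=
          IsIntegral.sum _ fun ψ _ => by rw [chiExt_of]; exact irr_isIntegral ψ g
        refine rR_le_wHat (mem_rR.2 ⟨mem_EField_of_fixed hp.ne_zero hint.tower_top.isAlgebraic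
          fun σ hσ => ?_, mem_locRing.1 (mem_locRing_of_isIntegral hint)⟩)
        simp only [omT, chiExt_of, map_sum]
        exact Finset.sum_nbij' (galT σ) (galT σ.symm) (fun ψ h => hgal σ hσ ψ h)
          (fun ψ h => hgal _ hσ.symm ψ h) (fun ψ _ => galT_symm σ ψ)
          (fun ψ _ => by simpa using galT_symm σ.symm ψ) (fun ψ _ => rfl)
      ê := e
      idem := hee
      mem := hem
      ne := her ▸ hprim.ne_zero
      hloc := fun y => her ▸ Spl.corner_scalar hprim y
      unitT := by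
        rw [omT, Finset.sum_congr rfl hTψ, Finset.sum_const, nsmul_eq_mul, ← Nat.cast_mul]
        intro h
        rcases hp.dvd_mul.1 ((natCast_memLocalIdeal_iff hM _).1 h) with h' | h'
        · have h1 : 0 < Ω.card := Finset.card_pos.2 ⟨χ, Finset.mem_filter.2
            ⟨Finset.mem_univ _, fun _ _ => rfl⟩⟩
          exact absurd (Nat.le_of_dvd h1 h') (not_le.2 hΩc)
        · exact hzp h' }
  have hχΩ : χ ∈ Ω := Finset.mem_filter.2 ⟨Finset.mem_univ _, fun _ _ => rfl⟩
  have hχT : chiExt (χ : G → ℂ) (toC e) = (z : ℂ) := hTψ χ hχΩ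
  obtain ⟨n, ρ, hρ, hρχ⟩ := χ.2
  haveI := hρ
  have hρE : ρ.asAlgebraHom K.E = 1 := by
    have hsub : (⟨ρ.character, n, ρ, hρ, rfl⟩ : IrrCharacter G) = χ := Subtype.ext hρχ
    rw [CornerData.E, asAlgebraHom_classElt ρ hρ (isClassElt_blockElt _), hsub, omega_blockElt,
      if_pos (Finset.mem_coe.2 hχΩ), one_smul, Module.End.one_eq_id]
  set P := ρ.asAlgebraHom (toC e) with hP
  have hPP : P * P = P := by rw [hP, ← map_mul, ← map_mul, hee]
  have hPt : LinearMap.trace ℂ _ P = (z : ℂ) := by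
    rw [hP, trace_asAlgebraHom, hρχ, hχT]
  have hsingle : ∀ g : G, ρ.asAlgebraHom (toC (MonoidAlgebra.single g (1 : locRing M))) = ρ g := by
    intro g
    rw [show toC (MonoidAlgebra.single g (1 : locRing M)) = of ℂ G g from gaExt fun a => by
      rw [coeff_toC, MonoidAlgebra.of_apply, coeff_single, coeff_single, Finsupp.single_apply,
        Finsupp.single_apply]
      split_ifs <;> simp, Representation.asAlgebraHom_of]
  have hcomm : ∀ b c : G, P * ρ b * P * (P * ρ c * P) = P * ρ c * P * (P * ρ b * P) := by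
    intro b c
    have h := congrArg ρ.asAlgebraHom (K.comm (X := e * MonoidAlgebra.single b 1 * e)
      (Y := e * MonoidAlgebra.single c 1 * e) (K.inA_corner (single_mem_wAlg b))
      (K.inA_corner (single_mem_wAlg c)))
    rw [map_mul, hρE, mul_one, map_zero, map_sub, map_sub, sub_eq_zero] at h
    simpa only [map_mul, hsingle, ← hP] using h
  have havg : ∀ S : Module.End ℂ (Fin n → ℂ),
      ∃ κ : ℂ, ∑ b : G, ρ b * S * ρ b⁻¹ = κ • (1 : Module.End ℂ (Fin n → ℂ)) ∧
        κ * n = (Nat.card G : ℂ) * LinearMap.trace ℂ _ S := by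
    intro S
    obtain ⟨κ, hκ⟩ := schur_scalar ρ (∑ b : G, ρ b * S * ρ b⁻¹) fun g v => by
      have hg : (∑ b : G, ρ b * S * ρ b⁻¹) * ρ g = ρ g * ∑ b : G, ρ b * S * ρ b⁻¹ := by
        rw [Finset.mul_sum, Finset.sum_mul]
        refine Fintype.sum_equiv (Equiv.mulLeft g⁻¹) _ _ fun b => ?_
        simp only [Equiv.coe_mulLeft, ← mul_assoc, ← map_mul, mul_inv_rev, inv_inv]
        simp only [mul_assoc, ← map_mul, mul_inv_cancel_left]
      exact LinearMap.congr_fun hg v
    refine ⟨κ, by rw [hκ, Module.End.one_eq_id], ?_⟩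
    have ht := congrArg (LinearMap.trace ℂ _) hκ
    rw [map_smul, LinearMap.trace_id, smul_eq_mul, Module.finrank_fin_fun, map_sum,
      Finset.sum_congr rfl fun b _ => show LinearMap.trace ℂ _ (ρ b * S * ρ b⁻¹) =
        LinearMap.trace ℂ _ S by
        rw [LinearMap.trace_mul_comm, ← mul_assoc, ← map_mul, inv_mul_cancel, map_one, one_mul],
      Finset.sum_const, Finset.card_univ, ← Nat.card_eq_fintype_card, nsmul_eq_mul] at ht
    exact ht.symm
  obtain ⟨κ, hκ, hκn⟩ := havg P
  have hκ0 : κ ≠ 0 := fun h => by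
    rw [h, zero_mul, hPt] at hκn
    have hz0 : (z : ℂ) = 0 :=
      (mul_eq_zero.1 hκn.symm).resolve_left (Nat.cast_ne_zero.2 Nat.card_pos.ne')
    exact hzp (by rw [Nat.cast_eq_zero] at hz0; simp [hz0])
  have hscal : ∀ c : G, ∃ t : ℂ, P * ρ c * P = t • P := by
    intro c
    obtain ⟨κc, hκc, -⟩ := havg (P * ρ c * P)
    refine ⟨κ⁻¹ * κc, ?_⟩
    have e1 : ∀ b : G, P * ρ b * P * (P * ρ c * P) * (P * ρ b⁻¹ * P) =
        P * (ρ b * (P * ρ c * P) * ρ b⁻¹) * P := fun b => by
      simp only [mul_assoc]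
      simp only [← mul_assoc P P, hPP]
    have e2 : ∀ b : G, P * ρ c * P * (P * ρ b * P) * (P * ρ b⁻¹ * P) =
        P * ρ c * P * (ρ b * P * ρ b⁻¹) * P := fun b => by
      simp only [mul_assoc]
      simp only [← mul_assoc P P, hPP]
    have h := Finset.sum_congr rfl fun b (_ : b ∈ (Finset.univ : Finset G)) =>
      ((e1 b).symm.trans (by rw [hcomm b c])).trans (e2 b)
    rw [← Finset.sum_mul, ← Finset.mul_sum, hκc, ← Finset.sum_mul, ← Finset.mul_sum, hκ] at h
    simp only [mul_smul_comm, smul_mul_assoc, mul_one, hPP] at h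
    rw [mul_assoc (P * ρ c), hPP] at h
    rw [mul_smul, h, inv_smul_smul₀ hκ0]
  obtain ⟨v, hv⟩ : ∃ v, P v ≠ 0 := by
    by_contra hc
    push Not at hc
    rw [show P = 0 from LinearMap.ext hc, map_zero] at hPt
    exact hzp (by rw [eq_comm, Nat.cast_eq_zero] at hPt; simp [hPt])
  let W := Submodule.span ℂ (Set.range fun c : G => ρ c (P v))
  have hWinv : ∀ g : G, ∀ w ∈ W, ρ g w ∈ W := by
    intro g w hw
    induction hw using Submodule.span_induction with
    | mem x hx =>
      obtain ⟨c, rfl⟩ := hx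
      exact Submodule.subset_span ⟨g * c, by simp [map_mul]⟩
    | zero => simp
    | add x y _ _ hx hy => rw [map_add]; exact W.add_mem hx hy
    | smul t x _ hx => rw [map_smul]; exact W.smul_mem t hx
  have hWtop : W = ⊤ := by
    let sub : Subrepresentation ρ := ⟨W, fun g w hw => hWinv g w hw⟩
    haveI : IsSimpleOrder (Subrepresentation ρ) := ‹ρ.IsIrreducible›
    rcases eq_bot_or_eq_top sub with h | h
    · exfalso
      have h1 : P v ∈ W := Submodule.subset_span ⟨1, by simp⟩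
      have h2 : W = ⊥ := congrArg Subrepresentation.toSubmodule h
      rw [h2, Submodule.mem_bot] at h1
      exact hv h1
    · exact congrArg Subrepresentation.toSubmodule h
  have hrange : LinearMap.range P ≤ Submodule.span ℂ {P v} := by
    rintro _ ⟨w, rfl⟩
    have hw : w ∈ W := hWtop ▸ Submodule.mem_top
    induction hw using Submodule.span_induction with
    | mem x hx =>
      obtain ⟨c, rfl⟩ := hx
      obtain ⟨t, ht⟩ := hscal c
      have := LinearMap.congr_fun ht v
      simp only [Module.End.mul_apply, LinearMap.smul_apply] at this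
      exact Submodule.mem_span_singleton.2 ⟨t, this.symm⟩
    | zero => simp
    | add x y _ _ hx hy => rw [map_add]; exact Submodule.add_mem _ hx hy
    | smul t x _ hx => rw [map_smul]; exact Submodule.smul_mem _ t hx
  have hproj : LinearMap.IsProj (LinearMap.range P) P :=
    ⟨fun x => ⟨x, rfl⟩, by rintro _ ⟨w, rfl⟩; exact LinearMap.congr_fun hPP w⟩
  rw [hproj.trace] at hPt
  have hle : Module.finrank ℂ (LinearMap.range P) ≤ 1 :=
    (Submodule.finrank_mono hrange).trans (finrank_span_singleton hv).le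
  have hzle : z ≤ 1 := by
    have := Nat.cast_injective (R := ℂ) hPt
    omega
  have hz0 : z ≠ 0 := fun h => hzp (h ▸ dvd_zero p)
  omega

end Cfsg.Agent.Abelian
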