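/-
A minimal invariant idempotent with nonzero Brauer image on which a character of height zero has
trace prime to `p`.
-/
import Cfsg.Agent.Lib.Star.Focal
import Cfsg.Agent.Lib.Blocks.Reynolds

set_option linter.unusedSectionVars false
set_option linter.style.haveILetI false

namespace Cfsg.Agent.Abelian

open Cfsg MonoidAlgebra Cfsg.Agent.Blocks Cfsg.Agent.BrauerPairs Cfsg.Agent.Char Cfsg.Agent.Star
open scoped ComplexConjugate

universe u

variable {G : Type u} [Group G] [Fintype G] {p : ℕ} [Fact p.Prime] {M : Ideal AlgInt} [M.IsPrime]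
  [CharP (resField M) p] {B : Set (IrrCharacter G)} {P : Subgroup G}
  {e : Set (IrrCharacter (Subgroup.centralizer (P : Set G)))}

/-- A character of height zero has a block value prime to `p` at a regular element of the
centraliser. -/
theorem exists_block_value_not_mem (hM : IsPModular p M) (hB : IsPBlock M B) (he : IsPBlock M e)
    (hmax : IsMax p (Ek M B) (zI M ⟨P, e⟩)) {χ : IrrCharacter G} (hχ : χ ∈ B)
    (h0 : blockHeight p B (χ : G → ℂ) = 0) :
    ∃ s : G, s ∈ Subgroup.centralizer (P : Set G) ∧ ¬ p ∣ orderOf s ∧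
      ¬ MemLocalIdeal M (chiTr χ
        (emb (Subgroup.centralizer (P : Set G)) (blockEltR M e)) s) := by
  classical
  by_contra hneg
  push Not at hneg
  have hind := induced_of_zI hM hB he hmax.pairOf
  obtain ⟨ψ, hψ⟩ := isPBlock_nonempty he
  refine (restrict_mult_congr (p := p) hM hind χ hψ).1 ?_ ⟨hχ, h0⟩
  set w : (Subgroup.centralizer (P : Set G)) → ℂ := fun c => chiTr χ (emb (Subgroup.centralizer (P : Set G)) (blockEltR M e)) (c : G) with hw
  have hinvC : IsInvElt (Subgroup.centralizer (P : Set G)) (emb (Subgroup.centralizer (P : Set G)) (blockEltR M e)) := by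
    intro t ht g
    by_cases hg : g ∈ (Subgroup.centralizer (P : Set G))
    · rw [coeff_emb_mem (Subgroup.centralizer (P : Set G)) _ hg, coeff_emb_mem (Subgroup.centralizer (P : Set G)) _ (mul_mem (mul_mem ht hg) (inv_mem ht))]
      exact isClassElt_blockEltR e ⟨g, hg⟩ ⟨t, ht⟩
    · rw [coeff_emb_notMem (Subgroup.centralizer (P : Set G)) _ hg, coeff_emb_notMem (Subgroup.centralizer (P : Set G))]
      exact fun h => hg (by simpa [mul_assoc] using mul_mem (mul_mem (inv_mem ht) h) ht)
  have hwc : IsCharacter (Subgroup.centralizer (P : Set G)) w := isCharacter_chiTr χ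
    (by rw [← map_mul, Cfsg.Agent.Blocks.blockEltR_idem he]) hinvC
  set r : (Subgroup.centralizer (P : Set G)) → ℂ := fun c => (χ : G → ℂ) (c : G) with hr
  have hsec1 : secFun 1 (Subgroup.centralizer (P : Set G)) (χ : G → ℂ) = r := funext fun c => by rw [secFun, one_mul]
  have hrcl : IsClassFunction (Subgroup.centralizer (P : Set G)) r :=
    IsCharacter.isClassFunction (IsCharacter.restrict (irr_isCharacter χ) (Subgroup.centralizer (P : Set G)))
  have hwb : blockPart e r = w := funext fun c => by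
    have h1 := chiTr_emb_mul_blockEltR he χ 1 1 (by rw [hsec1]; exact hrcl) c
    rw [one_mul, one_mul, hsec1] at h1
    rw [hw]
    show _ = chiTr χ (emb (Subgroup.centralizer (P : Set G)) (blockEltR M e)) (c : G)
    rw [h1, Finset.sum_eq_single 1]
    · simp [MonoidAlgebra.one_def]
    · intro a _ ha
      simp [MonoidAlgebra.one_def, Ne.symm ha]
    · simp
  have hψv : blockPart e (ψ : (Subgroup.centralizer (P : Set G)) → ℂ) = (ψ : (Subgroup.centralizer (P : Set G)) → ℂ) := by
    rw [← bcomb_single e hψ, blockPart_bcomb]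
  have hpair := regPair_blockPart (p := p) hM he 1 r hψv
  rw [hwb, regPair_eq_sum, regPair_eq_sum] at hpair
  simp only [Complex.ofReal_one, one_mul] at hpair
  have heq : classInner (regTr p r) (ψ : (Subgroup.centralizer (P : Set G)) → ℂ) = classInner (regTr p w) (ψ : (Subgroup.centralizer (P : Set G)) → ℂ) := by
    rw [classInner_regTr hM.1, classInner_regTr hM.1, hpair]
  show MemLocalIdeal M (classInner (regTr p r) (ψ : (Subgroup.centralizer (P : Set G)) → ℂ) / (ψ : (Subgroup.centralizer (P : Set G)) → ℂ) 1)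
  rw [heq, classInner_regTr_eq hM hwc ψ]
  have hψ1 := irr_one_ne_zero ψ
  rw [show omegaR ψ (regElt M p w hwc) * (ψ : (Subgroup.centralizer (P : Set G)) → ℂ) 1 * (ordPrime p (Subgroup.centralizer (P : Set G)) : ℂ)⁻¹ / (ψ : (Subgroup.centralizer (P : Set G)) → ℂ) 1 =
    (ordPrime p (Subgroup.centralizer (P : Set G)) : ℂ)⁻¹ * omegaR ψ (regElt M p w hwc) by field_simp]
  refine MemLocalIdeal.mul_left (inv_ordPrime_mem hM)
    (omegaR_mem_of_resG_eq_zero ψ (isClassElt_regElt hwc) (gaExt fun c => ?_))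
  rw [coeff_resG, MonoidAlgebra.coeff_zero, Finsupp.coe_zero, Pi.zero_apply, res_eq_zero_iff,
    coeff_regElt]
  by_cases hc : p ∣ orderOf c
  · rw [if_pos hc]; exact memLocalIdeal_zero
  · rw [if_neg hc]
    refine hneg _ (c⁻¹).2 ?_
    rwa [Subgroup.orderOf_coe, orderOf_inv]

/-- The idempotent of a character of a cyclic group of order prime to `p`, times a block of a
centraliser. -/
theorem exists_spectral_value_not_mem (hM : IsPModular p M) {C : Subgroup G}
    {b : Set (IrrCharacter C)} (hb : IsPBlock M b) {χ : IrrCharacter G} {s : G} (hs : s ∈ C)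
    (hsr : ¬ p ∣ orderOf s)
    (hval : ¬ MemLocalIdeal M (chiTr χ (emb C (blockEltR M b)) s)) :
    ∃ y : MonoidAlgebra (locRing M) C, y * y = y ∧ y * blockEltR M b = y ∧
      ¬ MemLocalIdeal M (chiTr χ (emb C y) 1) := by
  classical
  set S := Subgroup.zpowers s with hSdef
  have hSC : S ≤ C := Subgroup.zpowers_le.2 hs
  have hScard : ¬ p ∣ Nat.card S := by rw [hSdef, Nat.card_zpowers]; exact hsr
  have hScomm : ∀ a b : S, a * b = b * a := fun a b => by
    obtain ⟨i, hi⟩ := Subgroup.mem_zpowers_iff.1 a.2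
    obtain ⟨j, hj⟩ := Subgroup.mem_zpowers_iff.1 b.2
    exact Subtype.ext (by simp [← hi, ← hj, ← zpow_add, add_comm])
  have hψ1 : ∀ ψ : IrrCharacter S, (ψ : S → ℂ) 1 = 1 := fun ψ => by
    rw [irr_one_eq_charDegree, Cfsg.Agent.Blocks.charDegree_eq_one_of_comm hScomm, Nat.cast_one]
  have hmem : ∀ (ψ : IrrCharacter S) (c : S),
      MemLocalRing M (blockCoeff ({ψ} : Set (IrrCharacter S)) c) := fun ψ c => by
    rw [blockCoeff_eq_sum]
    refine (locRing M).mul_mem (inv_natCast_memLocalRing hM hScard) ((locRing M).sum_mem ?_)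
    intro φ _
    exact (locRing M).mul_mem (mem_locRing_of_isIntegral (irr_isIntegral φ 1))
      (mem_locRing_of_isIntegral ((irr_isIntegral φ c).map (starRingEnd ℂ).toIntAlgHom))
  set f : IrrCharacter S → MonoidAlgebra (locRing M) S :=
    fun ψ => blockEltR M ({ψ} : Set (IrrCharacter S)) with hf
  have hfC : ∀ (ψ : IrrCharacter S) (c : S),
      (((f ψ).coeff c : locRing M) : ℂ) = blockCoeff ({ψ} : Set (IrrCharacter S)) c := fun ψ c => by
    rw [← coeff_toC, toC_blockEltR_of_mem (hmem ψ), coeff_blockElt]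
  set E := emb C (blockEltR M b) with hE
  set F : G → S → ℂ := fun a σ => (χ : G → ℂ) ((σ : G) * a) with hF
  have hFc : ∀ a, IsClassFunction S (F a) := fun a g h => by
    rw [hScomm h g, mul_inv_cancel_right]
  set Z : IrrCharacter S → ℂ :=
    fun ψ => ∑ a, (E.coeff a : ℂ) * classInner (F a) (ψ : S → ℂ) with hZ
  have htot : chiTr χ E s = ∑ ψ : IrrCharacter S, (ψ : S → ℂ) ⟨s, Subgroup.mem_zpowers s⟩ * Z ψ := by
    simp only [chiTr, hZ, Finset.mul_sum]
    rw [Finset.sum_comm]
    refine Finset.sum_congr rfl fun a _ => ?_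
    have h := congrFun (classFunction_eq_sum (hFc a)) ⟨s, Subgroup.mem_zpowers s⟩
    simp only [Finset.sum_apply, Pi.smul_apply, smul_eq_mul] at h
    rw [show (χ : G → ℂ) (s * a) = F a ⟨s, Subgroup.mem_zpowers s⟩ from rfl, h, Finset.mul_sum]
    exact Finset.sum_congr rfl fun ψ _ => by ring
  have hpiece : ∀ ψ, chiTr χ (emb S (f ψ) * E) 1 = Z ψ := by
    intro ψ
    have e1 : ∀ v, (((emb S (f ψ) * E).coeff v : locRing M) : ℂ) =
        ∑ σ : S, (((f ψ).coeff σ : locRing M) : ℂ) * (E.coeff ((σ : G)⁻¹ * v) : ℂ) := by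
      intro v
      rw [coeff_mul_univ, AddSubmonoidClass.coe_finsetSum,
        ← Finset.sum_subset (Finset.subset_univ ((Finset.univ : Finset S).image Subtype.val))
          fun g _ hg => by
            rw [coeff_emb_notMem S _ fun h => hg (Finset.mem_image.2 ⟨⟨g, h⟩, Finset.mem_univ _, rfl⟩)]
            simp,
        Finset.sum_image fun a _ b _ h => Subtype.ext h]
      exact Finset.sum_congr rfl fun σ _ => by rw [coeff_emb_coe, MulMemClass.coe_mul]
    simp only [chiTr, e1, Finset.sum_mul, hZ, one_mul]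
    rw [Finset.sum_comm]
    have e2 : ∀ a, ∑ σ : S, blockCoeff ({ψ} : Set (IrrCharacter S)) σ * F a σ =
        classInner (F a) (ψ : S → ℂ) := fun a => by
      have h := sum_blockCoeff_shift ({ψ} : Set (IrrCharacter S)) (hFc a) 1
      simp only [one_mul] at h
      rw [h, blockPart_eq_sum, show (Finset.univ.filter (· ∈ ({ψ} : Set (IrrCharacter S)))) = {ψ}
        by ext; simp, Finset.sum_singleton, hψ1, mul_one]
    refine Eq.trans ?_ (Finset.sum_congr rfl fun a (_ : a ∈ Finset.univ) => by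
      rw [← e2 a, Finset.mul_sum])
    conv_rhs => rw [Finset.sum_comm]
    refine Finset.sum_congr rfl fun σ _ => ?_
    refine Fintype.sum_equiv (Equiv.mulLeft (σ : G)⁻¹) _ _ fun v => ?_
    simp only [Equiv.coe_mulLeft, hfC, hF, mul_inv_cancel_left]
    ring
  obtain ⟨ψ, hψ⟩ : ∃ ψ, ¬ MemLocalIdeal M (Z ψ) := by
    by_contra hcon
    push Not at hcon
    refine hval (htot ▸ memLocalIdeal_sum _ _ fun ψ _ => ?_)
    exact MemLocalIdeal.mul_left (mem_locRing_of_isIntegral (irr_isIntegral ψ _)) (hcon ψ)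
  have hidem : f ψ * f ψ = f ψ :=
    toC_injective (by rw [map_mul, toC_blockEltR_of_mem (hmem ψ), blockElt_idem])
  have hsupp : ∀ g, g ∉ C → (emb S (f ψ)).coeff g = 0 := fun g hg =>
    coeff_emb_notMem _ _ fun h => hg (hSC h)
  set x := restr C (emb S (f ψ)) with hx
  have hxe : emb C x = emb S (f ψ) := emb_restr hsupp
  have hxx : x * x = x := emb_injective C (by rw [map_mul, hxe, ← map_mul, hidem])
  refine ⟨x * blockEltR M b, ?_, ?_, ?_⟩
  · rw [mul_assoc x, ← mul_assoc (blockEltR M b), (isClassElt_blockEltR (M := M) b).comm x,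
      mul_assoc x, ← mul_assoc, ← mul_assoc, hxx, mul_assoc,
      Cfsg.Agent.Blocks.blockEltR_idem hb]
  · rw [mul_assoc, Cfsg.Agent.Blocks.blockEltR_idem hb]
  · rw [map_mul, hxe, hpiece]
    exact hψ

/-- A minimal invariant idempotent with nonzero Brauer image selected by the pair, on which a
character of height zero has trace prime to `p`. -/
theorem exists_fix_idem (hM : IsPModular p M) (hB : IsPBlock M B) (he : IsPBlock M e)
    (hmax : IsMax p (Ek M B) (zI M ⟨P, e⟩)) (hPC : P ≤ Subgroup.centralizer (P : Set G))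
    {χ : IrrCharacter G} (hχ : χ ∈ B) (h0 : blockHeight p B (χ : G → ℂ) = 0) :
    ∃ j : MonoidAlgebra (resField M) G, j * j = j ∧ IsInvElt P j ∧
      (∀ (Q : Subgroup G) (f : MonoidAlgebra (resField M) G),
        SubLE p ⊤ ((Q, f) : Pr (resField M) G)
          (P, zB M (Subgroup.centralizer (P : Set G)) e) →
          brTrunc Q j * f = brTrunc Q j) ∧
      ∃ ê : MonoidAlgebra (locRing M) G, ê * ê = ê ∧ IsInvElt P ê ∧ resG ê = j ∧
        ¬ MemLocalIdeal M (chiTr χ ê 1) := by
  classical
  haveI := DefOne.isAlgClosed_resField (M := M)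
  obtain ⟨s, hs, hsr, hval⟩ := exists_block_value_not_mem hM hB he hmax hχ h0
  obtain ⟨y, hyy, hye, hyv⟩ := exists_spectral_value_not_mem hM he hs hsr hval
  have hP : IsPGroup p P := hmax.pairOf.pair.pgroup
  have hzB : IsBlk (Subgroup.centralizer (P : Set G))
      (zB M (Subgroup.centralizer (P : Set G)) e) := isBlk_zB _ he
  have hbotC : (⊥ : Subgroup G) ≤ Subgroup.centralizer (P : Set G) := bot_le
  have hbotS : ∀ t ∈ (⊥ : Subgroup G), ¬ p ∣ orderOf t := fun t ht => by
    rw [Subgroup.mem_bot.1 ht, orderOf_one]; exact (Fact.out : p.Prime).not_dvd_one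
  set Y := emb (Subgroup.centralizer (P : Set G)) y with hY
  have hYY : Y * Y = Y := by rw [hY, ← map_mul, hyy]
  have hYi : IsInvElt (P ⊔ ⊥) Y := by
    intro v hv g
    have hvP : v ∈ P := by rwa [sup_bot_eq] at hv
    have hvC := hPC hvP
    by_cases hg : g ∈ Subgroup.centralizer (P : Set G)
    · rw [show v * g * v⁻¹ = g by
        rw [Subgroup.mem_centralizer_iff.1 hg v hvP, mul_inv_cancel_right]]
    · rw [hY, coeff_emb_notMem _ _ hg, coeff_emb_notMem]
      exact fun h => hg (by simpa [mul_assoc] using mul_mem (mul_mem (inv_mem hvC) h) hvC)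
  have hεi : IsInvElt (P ⊔ ⊥) (resG Y) := fun v hv g => by
    rw [coeff_resG, coeff_resG, hYi v hv g]
  obtain ⟨Spl⟩ := nonempty_splitting (k := resField M) (A := invAlg (resField M) (P ⊔ ⊥))
  obtain ⟨D, hD, hO, hsum⟩ := Spl.exists_decomp ⟨resG Y, hεi⟩
    (Subtype.ext (show resG Y * resG Y = resG Y by rw [← map_mul, hYY]))
  have hsum' : ∑ j ∈ D, (j : MonoidAlgebra (resField M) G) = resG Y := by
    rw [← AddSubmonoidClass.coe_finsetSum, hsum]
  have hεz : resG Y * zB M (Subgroup.centralizer (P : Set G)) e = resG Y := by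
    rw [← resG_emb_blockEltR, hY, ← map_mul, ← map_mul, hye]
  have h11 : IsSec p (1 : G) 1 :=
    ⟨⟨0, by simp⟩, by simp [(Fact.out : p.Prime).ne_one], Commute.one_left 1⟩
  have hsecle : secGrp (1 : G) 1 ≤ P ⊔ ⊥ := secGrp_le (one_mem _) (one_mem _)
  have htot : chiTr χ Y 1 = ∑ j ∈ D, tau χ 1 1 (j : MonoidAlgebra (resField M) G) := by
    rw [← tau_sum hM h11 χ D (fun j => (j : MonoidAlgebra (resField M) G))
      (fun j hj => congrArg Subtype.val (hD j hj).1.idem)
      (fun j _ => isInvElt_mono hsecle j.2)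
      (fun j hj j' hj' hne => congrArg Subtype.val (hO j hj j' hj' hne)), hsum',
      tau_eq hM h11 (H := P ⊔ ⊥) (one_mem _) (one_mem _) χ hYY hYi
        (by rw [← map_mul, hYY]) (isInvElt_mono hsecle hεi)
        (fun g _ => by rw [coeff_resG]), one_mul]
  obtain ⟨j, hj, hjnot⟩ : ∃ j ∈ D, ¬ MemLocalIdeal M
      (tau χ 1 1 (j : MonoidAlgebra (resField M) G)) := by
    by_contra hcon
    push Not at hcon
    exact hyv (htot ▸ memLocalIdeal_sum _ _ hcon)
  obtain ⟨hjP, hjY, hYj⟩ := hD j hj
  have hjj : (j : MonoidAlgebra (resField M) G) * j = j := congrArg Subtype.val hjP.idem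
  obtain ⟨ê, hê, hêi, hêr⟩ := exists_idem_lift hjj j.2
  rw [tau_eq hM h11 (one_mem _) (one_mem _) χ hê hêi hjj (isInvElt_mono hsecle j.2)
    (fun g _ => by rw [← hêr, coeff_resG]), one_mul] at hjnot
  have hne : brTrunc P (j : MonoidAlgebra (resField M) G) ≠ 0 := by
    intro hne
    apply hjnot
    obtain ⟨V, u₀, α, -, -, hu₀, -, -, -, -, -, hαsum⟩ :=
      exists_trace_of_br_eq_zero (k := resField M) hP hbotC hbotS hjP hne
    have hsec := isSec_of_mem hP hbotC hbotS hu₀ (one_mem (⊥ : Subgroup G))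
    have h0 : chiTr χ ê (u₀ * 1) = 0 := by
      rw [chiTr_congr hM hsec.pow hsec.reg hsec.comm (H := P ⊔ ⊥) (Subgroup.mem_sup_left hu₀)
        (one_mem _) hê (mul_zero 0) hêi (fun _ _ _ => by simp) (fun g hg => ?_) χ, chiTr_zero]
      rw [← coeff_resG, hêr, ← hαsum, MonoidAlgebra.coeff_sum, Finset.sum_apply',
        MonoidAlgebra.coeff_zero, Finsupp.coe_zero, Pi.zero_apply, map_zero]
      have hconst : ∀ m ∈ Finset.range p, (cj (u₀ ^ m) α).coeff g = α.coeff g := by
        intro m _
        have hc : Commute g (u₀ ^ m) :=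
          Commute.pow_right (Subgroup.mem_centralizer_singleton_iff.1 hg) m
        rw [coeff_cj, mul_assoc, hc.eq, inv_mul_cancel_left]
      rw [Finset.sum_congr rfl hconst, Finset.sum_const, Finset.card_range, nsmul_eq_mul,
        CharP.cast_eq_zero, zero_mul]
    obtain ⟨k, hk⟩ := IsPGroup.iff_orderOf.1 hP ⟨u₀, hu₀⟩
    rw [← Subgroup.orderOf_coe] at hk
    have h := char_congr_regular hM (isCharacter_chiTr χ hê hêi)
      (x := (⟨u₀, Subgroup.mem_sup_left hu₀⟩ : ↥(P ⊔ ⊥))) (y := 1) (Commute.one_right _)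
      (by rw [← Subgroup.orderOf_coe]; exact hk) (by simp [hM.1.ne_one])
    simp only [mul_one, Subgroup.coe_one] at h h0
    rw [h0, zero_sub] at h
    simpa using MemLocalIdeal.neg h
  have hjz : (j : MonoidAlgebra (resField M) G) * zB M (Subgroup.centralizer (P : Set G)) e = j := by
    conv_lhs => rw [← show (j : MonoidAlgebra (resField M) G) * resG Y = j from
      congrArg Subtype.val hYj]
    rw [mul_assoc, hεz]
    exact congrArg Subtype.val hYj
  have hzs : ∀ g, g ∉ Subgroup.centralizer (P : Set G) →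
      (zB M (Subgroup.centralizer (P : Set G)) e).coeff g = 0 := hzB.inZ.supp
  have hzi : IsInvElt P (zB M (Subgroup.centralizer (P : Set G)) e) :=
    fun t ht => hzB.inZ.inv t (hPC ht)
  have hjz' : brTrunc P (j : MonoidAlgebra (resField M) G) *
      zB M (Subgroup.centralizer (P : Set G)) e = brTrunc P (j : MonoidAlgebra (resField M) G) := by
    conv_rhs => rw [← hjz]
    rw [brTrunc_mul hP (isInvElt_mono le_sup_left j.2) hzi, brTrunc_eq_self hzs]
  refine ⟨(j : MonoidAlgebra (resField M) G), hjj, isInvElt_mono le_sup_left j.2,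
    brTrunc_mul_below hP hbotC hjP hne hmax.pairOf.pair hjz', ê, hê,
    isInvElt_mono le_sup_left hêi, hêr, hjnot⟩

end Cfsg.Agent.Abelian
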