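/-
Norms of the values of the characters at sections, measured by an idempotent of the centraliser.
-/
import Cfsg.Agent.Lib.Star.Focal

set_option linter.unusedSectionVars false
set_option linter.style.haveILetI false

namespace Cfsg.Agent.Abelian

open Cfsg MonoidAlgebra Cfsg.Agent.Blocks Cfsg.Agent.Char Cfsg.Agent.Star
open scoped ComplexConjugate

universe u

section Hom

variable {K : Type u} [Group K] [Fintype K] {H : Type u} [Group H] [Fintype H] {p : ℕ}
  {M : Ideal AlgInt} [M.IsPrime]

/-- The functional of an element of the group algebra. -/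
noncomputable def lsum (y : MonoidAlgebra (locRing M) H) (F : H → ℂ) : ℂ :=
  ∑ a, (y.coeff a : ℂ) * F a

theorem lsum_eq_chiTr (y : MonoidAlgebra (locRing M) H) (ψ : IrrCharacter H) :
    lsum y (ψ : H → ℂ) = chiTr ψ y 1 := by
  simp [lsum, chiTr]

theorem isClassFunction_sectionComp (ι : H →* K) {v : K} (hv : ∀ a, Commute v (ι a)) {F : K → ℂ}
    (hF : IsClassFunction K F) : IsClassFunction H fun a => F (v * ι a) := by
  intro a b
  show F (v * ι (b * a * b⁻¹)) = F (v * ι a)
  rw [← hF (v * ι a) (ι b)]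
  congr 1
  rw [map_mul, map_mul, map_inv, ← mul_assoc (ι b), ← (hv b).eq]
  simp only [mul_assoc]

/-- An idempotent only sees the values on the regular elements. -/
theorem lsum_congr_regular (hM : IsPModular p M) {y : MonoidAlgebra (locRing M) H}
    (hy : y * y = y) {F F' : H → ℂ} (hF : IsClassFunction H F) (hF' : IsClassFunction H F')
    (h : ∀ a, ¬ p ∣ orderOf a → F a = F' a) : lsum y F = lsum y F' := by
  classical
  have h0 := sum_coeff_mul_eq_zero hM (s := (1 : H)) (by simp [hM.1.ne_one]) hy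
    (fun v hv g => by
      rw [Subgroup.zpowers_one_eq_bot, Subgroup.mem_bot] at hv
      simp [hv])
    (g := fun a => F a - F' a)
    (fun a b => by show F (b * a * b⁻¹) - F' (b * a * b⁻¹) = F a - F' a; rw [hF a b, hF' a b])
    (fun w hw => sub_eq_zero.2 (h w hw))
  simp only [one_mul, mul_sub, Finset.sum_sub_distrib] at h0
  exact sub_eq_zero.1 h0

theorem lsum_regular (hM : IsPModular p M) {y : MonoidAlgebra (locRing M) H} (hy : y * y = y)
    {F : H → ℂ} (hF : IsClassFunction H F) :
    lsum y F = ∑ a ∈ Finset.univ.filter (fun a => ¬ p ∣ orderOf a), (y.coeff a : ℂ) * F a := by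
  classical
  have hF' : IsClassFunction H fun a => if ¬ p ∣ orderOf a then F a else 0 := fun a b => by
    show (if ¬ p ∣ orderOf (b * a * b⁻¹) then F (b * a * b⁻¹) else 0) = _
    rw [hF a b, show orderOf (b * a * b⁻¹) = orderOf a by
      rw [← MulAut.conj_apply, MulEquiv.orderOf_eq]]
  rw [lsum_congr_regular hM hy hF hF' fun a ha => (if_pos ha).symm, lsum, Finset.sum_filter]
  exact Finset.sum_congr rfl fun a _ => by split_ifs <;> simp

/-- The squared norms of the section values depend only on the centraliser of the section. -/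
theorem sum_norm_lsum (hM : IsPModular p M) [Fact p.Prime] (ι : H →* K)
    (hι : Function.Injective ι) {v : K} (hv : ∃ i, orderOf v = p ^ i)
    (hrange : ι.range = Subgroup.centralizer ({v} : Set K)) {y : MonoidAlgebra (locRing M) H}
    (hy : y * y = y) :
    ∑ θ : IrrCharacter K, ‖lsum y fun a => (θ : K → ℂ) (v * ι a)‖ ^ 2 =
      ∑ ψ : IrrCharacter H, ‖lsum y (ψ : H → ℂ)‖ ^ 2 := by
  classical
  set R := Finset.univ.filter (fun a : H => ¬ p ∣ orderOf a)
  have hcomm : ∀ a, Commute v (ι a) := fun a =>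
    (Subgroup.mem_centralizer_singleton_iff.1 (hrange ▸ (⟨a, rfl⟩ : ι a ∈ ι.range))).symm
  have hcount : ∀ a ∈ R, ∀ b ∈ R,
      (Finset.univ.filter fun k : K => k * (v * ι b) * k⁻¹ = v * ι a).card =
        (Finset.univ.filter fun h : H => h * b * h⁻¹ = a).card := by
    intro a ha b hb
    have hreg : ∀ {z : H}, z ∈ R → ¬ p ∣ orderOf (ι z) := fun {z} hz => by
      rw [orderOf_injective ι hι]; exact (Finset.mem_filter.1 hz).2
    have hsec : ∀ {z : H}, z ∈ R → IsSec p v (ι z) := fun {z} hz => ⟨hv, hreg hz, hcomm z⟩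
    have hmove : ∀ h : H, ι h * v * (ι h)⁻¹ = v := fun h => by
      rw [← (hcomm h).eq, mul_inv_cancel_right]
    refine (Finset.card_bij (fun h _ => ι h) (fun h hh => ?_) (fun h _ h' _ e => hι e)
      fun k hk => ?_).symm
    · rw [Finset.mem_filter] at hh ⊢
      refine ⟨Finset.mem_univ _, ?_⟩
      rw [← hh.2, map_mul, map_mul, map_inv, ← mul_assoc (ι h), ← (hcomm h).eq]
      simp only [mul_assoc]
    · rw [Finset.mem_filter] at hk
      have h1 := congrArg (pp p) hk.2
      rw [pp_conj, (hsec hb).pp_eq, (hsec ha).pp_eq] at h1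
      have hkc : k ∈ ι.range := by
        rw [hrange, Subgroup.mem_centralizer_singleton_iff]
        exact mul_inv_eq_iff_eq_mul.1 h1
      obtain ⟨h, rfl⟩ := hkc
      refine ⟨h, Finset.mem_filter.2 ⟨Finset.mem_univ _, hι ?_⟩, rfl⟩
      have h2 := hk.2
      rw [← mul_assoc (ι h), ← (hcomm h).eq, mul_assoc v (ι h), mul_assoc v (ι h * ι b)] at h2
      rw [map_mul, map_mul, map_inv]
      exact mul_left_cancel h2
  have hexp : ∀ {L : Type u} [Group L] [Fintype L] (f : IrrCharacter L → H → ℂ)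
      (cnt : H → H → ℕ),
      (∀ a b, ∑ θ : IrrCharacter L, f θ a * conj (f θ b) = (cnt a b : ℂ)) →
      ((∑ θ : IrrCharacter L, ‖∑ a ∈ R, (y.coeff a : ℂ) * f θ a‖ ^ 2 : ℝ) : ℂ) =
        ∑ a ∈ R, ∑ b ∈ R, (y.coeff a : ℂ) * conj (y.coeff b : ℂ) * (cnt a b : ℂ) := by
    intro L _ _ f cnt hf
    push_cast
    simp only [← Complex.mul_conj', map_sum, map_mul, Finset.sum_mul_sum]
    rw [Finset.sum_comm]
    refine Finset.sum_congr rfl fun a _ => ?_
    rw [Finset.sum_comm]
    refine Finset.sum_congr rfl fun b _ => ?_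
    rw [← hf, Finset.mul_sum]
    exact Finset.sum_congr rfl fun θ _ => by ring
  refine Complex.ofReal_injective ?_
  rw [show (∑ θ : IrrCharacter K, ‖lsum y fun a => (θ : K → ℂ) (v * ι a)‖ ^ 2) =
      ∑ θ : IrrCharacter K, ‖∑ a ∈ R, (y.coeff a : ℂ) * (θ : K → ℂ) (v * ι a)‖ ^ 2 from
    Finset.sum_congr rfl fun θ _ => by
      rw [lsum_regular hM hy (isClassFunction_sectionComp ι hcomm
        (IsCharacter.isClassFunction (irr_isCharacter θ)))],
    show (∑ ψ : IrrCharacter H, ‖lsum y (ψ : H → ℂ)‖ ^ 2) =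
      ∑ ψ : IrrCharacter H, ‖∑ a ∈ R, (y.coeff a : ℂ) * (ψ : H → ℂ) a‖ ^ 2 from
    Finset.sum_congr rfl fun ψ _ => by
      rw [lsum_regular hM hy (IsCharacter.isClassFunction (irr_isCharacter ψ))],
    hexp _ (fun a b => _) (fun a b => column_orth_count (v * ι a) (v * ι b)),
    hexp _ (fun a b => _) (fun a b => column_orth_count a b)]
  exact Finset.sum_congr rfl fun a ha => Finset.sum_congr rfl fun b hb => by
    rw [hcount a ha b hb]

end Hom

end Cfsg.Agent.Abelian
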