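/-
The multiplicity of a set of characters in a section and its integrality.
-/
import Cfsg.Agent.Lib.Star.Abelian.Norms

set_option linter.unusedSectionVars false
set_option linter.style.haveILetI false

namespace Cfsg.Agent.Abelian

open Cfsg MonoidAlgebra Cfsg.Agent.Blocks Cfsg.Agent.Char Cfsg.Agent.Star
open scoped ComplexConjugate

universe u

variable {K : Type u} [Group K] [Fintype K] {H : Type u} [Group H] [Fintype H]
  {M : Ideal AlgInt} [M.IsPrime]

/-- The total multiplicity of the members of a set in a class function. -/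
noncomputable def muF (f : Set (IrrCharacter H)) (F : H → ℂ) : ℂ := by
  classical
  exact ∑ ψ ∈ Finset.univ.filter (· ∈ f), classInner F (ψ : H → ℂ)

theorem classInner_section_integral (ι : H →* K) (v : H) (hv : v ∈ Subgroup.center H)
    (θ : IrrCharacter K) (ψ : IrrCharacter H) :
    IsIntegral ℤ (classInner (fun a => (θ : K → ℂ) (ι v * ι a)) (ψ : H → ℂ)) := by
  classical
  obtain ⟨c, -, hc, -⟩ := IsIrrCharacter.exists_central_scalar ψ.2 (inv_mem hv)
  have hpow : ∀ k : ℕ, ∀ g, (ψ : H → ℂ) (v⁻¹ ^ k * g) = c ^ k * (ψ : H → ℂ) g := by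
    intro k
    induction k with
    | zero => simp
    | succ k ih => intro g; rw [pow_succ', mul_assoc, hc, ih, pow_succ', mul_assoc]
  have hcN : c ^ orderOf v⁻¹ = 1 := by
    have h := hpow (orderOf v⁻¹) 1
    rw [pow_orderOf_eq_one, one_mul] at h
    exact mul_right_cancel₀ (irr_one_ne_zero ψ) (h.symm.trans (one_mul _).symm)
  have hci : IsIntegral ℤ c :=
    IsIntegral.of_pow (orderOf_pos v⁻¹) (hcN ▸ isIntegral_one)
  obtain ⟨n, hn⟩ := IsCharacter.exists_classInner_nat
    (IsCharacter.comp (irr_isCharacter θ) ι) (irr_isCharacter ψ)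
  have e : classInner (fun a => (θ : K → ℂ) (ι v * ι a)) (ψ : H → ℂ) = conj c * (n : ℂ) := by
    rw [← hn, classInner, classInner, mul_left_comm]
    congr 1
    rw [Finset.mul_sum]
    refine Fintype.sum_equiv (Equiv.mulLeft v) _ _ fun a => ?_
    simp only [Equiv.coe_mulLeft, map_mul]
    have h := congrArg conj (hc (v * a))
    rw [inv_mul_cancel_left, map_mul] at h
    rw [h]
    ring
  rw [e]
  exact (IsIntegral.map (starRingEnd ℂ).toIntAlgHom hci).mul
    (by exact_mod_cast isIntegral_algebraMap (R := ℤ) (A := ℂ) (x := (n : ℤ)))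

theorem muF_integral (ι : H →* K) (v : H) (hv : v ∈ Subgroup.center H) (θ : IrrCharacter K)
    (f : Set (IrrCharacter H)) :
    IsIntegral ℤ (muF f fun a => (θ : K → ℂ) (ι v * ι a)) :=
  IsIntegral.sum _ fun ψ _ => classInner_section_integral ι v hv θ ψ

/-- A functional living on a set of characters on which it is constant. -/
theorem lsum_eq_muF {y : MonoidAlgebra (locRing M) H} {f : Set (IrrCharacter H)} {r : ℂ}
    (h1 : ∀ ψ ∈ f, lsum y (ψ : H → ℂ) = r) (h0 : ∀ ψ, ψ ∉ f → lsum y (ψ : H → ℂ) = 0)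
    {F : H → ℂ} (hF : IsClassFunction H F) : lsum y F = r * muF f F := by
  classical
  have e : lsum y F = ∑ ψ : IrrCharacter H, classInner F (ψ : H → ℂ) * lsum y (ψ : H → ℂ) := by
    have hexp : ∀ a, F a = ∑ ψ : IrrCharacter H, classInner F (ψ : H → ℂ) * (ψ : H → ℂ) a :=
      fun a => by
        conv_lhs => rw [classFunction_eq_sum hF]
        simp
    conv_lhs => rw [lsum]; arg 2; ext a; rw [hexp a, Finset.mul_sum]
    rw [Finset.sum_comm]
    refine Finset.sum_congr rfl fun ψ _ => ?_
    rw [lsum, Finset.mul_sum]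
    exact Finset.sum_congr rfl fun a _ => by ring
  rw [e, muF, Finset.mul_sum, Finset.sum_filter]
  refine Finset.sum_congr rfl fun ψ _ => ?_
  split_ifs with h
  · rw [h1 ψ h, mul_comm]
  · rw [h0 ψ h, mul_zero]

end Cfsg.Agent.Abelian
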