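/-
The local blocks below a pair with abelian defect group and free inertia, and their idempotents.
-/
import Cfsg.Agent.Lib.Star.Abelian.MuInt
import Cfsg.Agent.Lib.BrauerPairs.FreeInertia
import Cfsg.Agent.Lib.BrauerPairs.CartanOne

set_option linter.unusedSectionVars false
set_option linter.style.haveILetI false

namespace Cfsg.Agent.Abelian

open Cfsg MonoidAlgebra Cfsg.Agent.Blocks Cfsg.Agent.BrauerPairs Cfsg.Agent.Char Cfsg.Agent.Star
open scoped ComplexConjugate

universe u

variable {G : Type u} [Group G] [Fintype G] {p : ℕ} [Fact p.Prime] {M : Ideal AlgInt} [M.IsPrime]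
  {B : Set (IrrCharacter G)} {P : Subgroup G}
  {c : Set (IrrCharacter (Subgroup.centralizer (P : Set G)))}

/-- The centraliser of a subgroup inside the whole group. -/
abbrev CX (X : Subgroup G) : Subgroup G := ⊤ ⊓ Subgroup.centralizer (X : Set G)

theorem mem_CX {X : Subgroup G} {g : G} : g ∈ CX X ↔ g ∈ Subgroup.centralizer (X : Set G) :=
  ⟨fun h => h.2, fun h => ⟨Subgroup.mem_top g, h⟩⟩

theorem le_CX (hPC : P ≤ Subgroup.centralizer (P : Set G)) {X : Subgroup G} (hX : X ≤ P) :
    P ≤ CX X :=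
  fun _ hu => mem_CX.2 (Subgroup.centralizer_le hX (hPC hu))

theorem CX_mono {Q X : Subgroup G} (h : Q ≤ X) : CX X ≤ CX Q :=
  fun _ hu => mem_CX.2 (Subgroup.centralizer_le h (mem_CX.1 hu))

/-- The block below the maximal pair at a nontrivial subgroup: it has as many characters as the
defect group has elements, and all agree on the regular elements. -/
theorem exists_below (hM : IsPModular p M) (hPD : IsDefectGroup p M B P)
    (hPC : P ≤ Subgroup.centralizer (P : Set G))
    (hc : IsInducedBlock M (Subgroup.centralizer (P : Set G)) c B)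
    (hfree : FreeInertia P (zB M (Subgroup.centralizer (P : Set G)) c))
    {X : Subgroup G} (hX : X ≤ P) (hX1 : X ≠ ⊥) :
    ∃ f : Set (IrrCharacter (CX X)), IsPBlock M f ∧
      SubLE p ⊤ ((X, zB M (CX X) f) : Pr (resField M) G)
        (P, zB M (Subgroup.centralizer (P : Set G)) c) ∧
      Nat.card f = Nat.card P ∧
      ∀ θ ∈ f, ∀ θ' ∈ f, ∀ w : CX X, ¬ p ∣ orderOf w →
        (θ : CX X → ℂ) w = (θ' : CX X → ℂ) w := by
  classical
  haveI : CharP (resField M) p := resField_charP hM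
  obtain ⟨hpB, -⟩ := abelian_pair hM hPD hPC hc
  have hD := (isDefectGroup_iff hc.2.1 P).1 hPD
  have hCH : Subgroup.centralizer (P : Set G) ≤ CX X := fun _ hu =>
    mem_CX.2 (Subgroup.centralizer_le hX hu)
  have hPH : P ≤ CX X := le_CX hPC hX
  obtain ⟨z, hz, -⟩ := existsUnique_below hpB.pair hX
  obtain ⟨f, hf, hfz⟩ := exists_eq_zB (H := CX X) (hz.left hpB.pair).blk
  replace hfz : zB M (CX X) f = z := hfz
  subst hfz
  have hN : P ≤ Subgroup.normalizer (X : Set G) :=
    hPH.trans (inf_le_right.trans (Subgroup.centralizer_le_normalizer _))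
  have hns := hz.nsub hpB.pair hN
  have hp := pairOf_self (M := M) hc.1 hD.pgroup hPC rfl
  have hpH : IsPairOf p (CX X) (zB M (CX X) f)
      (P, zB M (Subgroup.centralizer (P : Set G)) c) :=
    ⟨(isPair_sub_iff hCH).2 ⟨hpB.pair, hPH⟩, isBlk_zB _ hf, hns.occ⟩
  have hind : IsInducedBlockIn M (CX X) (Subgroup.centralizer (P : Set G)) c f :=
    inducedIn_of_pairOf hM hCH hc.1 hf hp inf_le_right hpH
  obtain ⟨x, hx, hx1⟩ : ∃ x ∈ X, x ≠ (1 : G) := by
    by_contra hcon
    push Not at hcon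
    exact hX1 ((Subgroup.eq_bot_iff_forall X).2 hcon)
  have hnil : IsNilpotentBlock p M f :=
    (local_nilpotent_iff hM hPD hPC hc hCH hind).2 fun g hg =>
      hfree g hg.1 x (hX hx) hx1 (by
        rw [← Subgroup.mem_centralizer_iff.1 (mem_CX.1 hg.2) x hx, mul_inv_cancel_right])
  have hnoT := hpB.noExt hD
  have hnoH : NoExt p (CX X) (P, zB M (Subgroup.centralizer (P : Set G)) c) := fun b hb => by
    have hCb : Subgroup.centralizer (b.1 : Set G) ≤ CX X :=
      (Subgroup.centralizer_le hb.le).trans hCH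
    exact hnoT b
      ⟨hpB.pair, ((isPair_sub_iff hCb).1 hb.right).1, hb.le, hb.normal, hb.inv, hb.occ⟩
  have hdf : IsDefectGroup p M f (P.subgroupOf (CX X)) :=
    (isDefectGroup_subgroupOf_iff hf hPH).2 (hnoH.isDefGrp hpH)
  have hPC' : P.subgroupOf (CX X) ≤
      Subgroup.centralizer ((P.subgroupOf (CX X) : Subgroup (CX X)) : Set (CX X)) := by
    intro y hy
    rw [Subgroup.mem_centralizer_iff]
    exact fun z hz => Subtype.ext (Subgroup.mem_centralizer_iff.1
      (hPC (Subgroup.mem_subgroupOf.1 hy)) z hz)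
  have hcard : Nat.card f = Nat.card P := by
    rw [card_eq_of_nilpotent_abelian hM hnil hdf hPC']
    exact Nat.card_congr (Subgroup.subgroupOfEquivOfLe hPH).toEquiv
  refine ⟨f, hf, hz, hcard, ?_⟩
  have hl := blockRank_eq_one_of_nilpotent_abelian hM hnil hdf hPC'
  obtain ⟨φ, d, -, hd, hsum⟩ := exists_cartan_rank_one hM hf hl
  have hdef : p ^ blockDefect p f = Nat.card f := by
    rw [hcard, ← card_defectGroup hM hf hdf]
    exact (Nat.card_congr (Subgroup.subgroupOfEquivOfLe hPH).toEquiv)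
  have hpos : ∀ θ ∈ f, 1 ≤ d θ := fun θ hθ => Nat.pos_of_ne_zero fun h0 => irr_one_ne_zero θ (by
    rw [hd θ hθ 1 (by simp [IsPRegular, hM.1.ne_one]), h0, Nat.cast_zero, zero_mul])
  have h1 : ∀ θ ∈ f, d θ = 1 := by
    rw [hdef, finsum_mem_eq_finite_toFinset_sum _ (Set.toFinite f), Nat.card_coe_set_eq,
      Set.ncard_eq_toFinset_card f (Set.toFinite f), Finset.card_eq_sum_ones] at hsum
    intro θ hθ
    have := (Finset.sum_eq_sum_iff_of_le fun θ hθ => by
      have := hpos θ ((Set.Finite.mem_toFinset _).1 hθ)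
      nlinarith).1 hsum.symm θ ((Set.Finite.mem_toFinset _).2 hθ)
    nlinarith [hpos θ hθ]
  intro θ hθ θ' hθ' w hw
  rw [hd θ hθ w hw, hd θ' hθ' w hw, h1 θ hθ, h1 θ' hθ']

/-- The data attached to a nontrivial subgroup of the defect group by an idempotent. -/
structure LocDatum (p : ℕ) (M : Ideal AlgInt) [M.IsPrime] (P : Subgroup G)
    (z j : MonoidAlgebra (resField M) G) (X : Subgroup G) where
  f : Set (IrrCharacter (CX X))
  blk : IsPBlock M f
  below : SubLE p ⊤ ((X, zB M (CX X) f) : Pr (resField M) G) (P, z)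
  card : Nat.card f = Nat.card P
  y : MonoidAlgebra (locRing M) (CX X)
  idem : y * y = y
  inv : IsInvElt (P.subgroupOf (CX X)) y
  res : resG (emb (CX X) y) = brTrunc X j
  r : ℕ
  value : ∀ ψ ∈ f, lsum y (ψ : CX X → ℂ) = r
  outside : ∀ ψ, ψ ∉ f → lsum y (ψ : CX X → ℂ) = 0

theorem exists_locDatum (hM : IsPModular p M) (hPD : IsDefectGroup p M B P)
    (hPC : P ≤ Subgroup.centralizer (P : Set G))
    (hc : IsInducedBlock M (Subgroup.centralizer (P : Set G)) c B)
    (hfree : FreeInertia P (zB M (Subgroup.centralizer (P : Set G)) c))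
    {j : MonoidAlgebra (resField M) G} (hjj : j * j = j) (hji : IsInvElt P j)
    (hjb : ∀ (Q : Subgroup G) (f : MonoidAlgebra (resField M) G),
      SubLE p ⊤ ((Q, f) : Pr (resField M) G) (P, zB M (Subgroup.centralizer (P : Set G)) c) →
        brTrunc Q j * f = brTrunc Q j)
    {X : Subgroup G} (hX : X ≤ P) (hX1 : X ≠ ⊥) :
    Nonempty (LocDatum p M P (zB M (Subgroup.centralizer (P : Set G)) c) j X) := by
  classical
  haveI : CharP (resField M) p := resField_charP hM
  obtain ⟨f, hf, hle, hcard, hreg⟩ := exists_below hM hPD hPC hc hfree hX hX1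
  have hP : IsPGroup p P := ((isDefectGroup_iff hc.2.1 P).1 hPD).pgroup
  have hXp : IsPGroup p X := hP.to_le hX
  have hPN : P ≤ Subgroup.normalizer (X : Set G) :=
    (le_CX hPC hX).trans (inf_le_right.trans (Subgroup.centralizer_le_normalizer _))
  set ε := brTrunc X j with hεdef
  have hεi : IsInvElt P ε := isInvElt_brTrunc hPN hji
  have hεε : ε * ε = ε := by
    rw [hεdef, ← brTrunc_mul hXp (isInvElt_mono hX hji) (isInvElt_mono hX hji), hjj]
  have hεs : ∀ g, g ∉ CX X → ε.coeff g = 0 := fun g hg =>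
    coeff_brTrunc_neg fun hh => hg (mem_CX.2 hh)
  set ε' := restr (CX X) ε with hε'def
  have hε'emb : emb (CX X) ε' = ε := emb_restr hεs
  have hε'ε : ε' * ε' = ε' := emb_injective (CX X) (by rw [map_mul, hε'emb, hεε])
  have hε'i : IsInvElt (P.subgroupOf (CX X)) ε' := fun v hv g => hεi (v : G) hv (g : G)
  obtain ⟨x, hx, hxi, hxr⟩ := exists_idem_lift hε'ε hε'i
  set y := x * blockEltR M f with hy
  have hcl := isClassElt_blockEltR (M := M) f
  have hyy : y * y = y := by
    rw [hy, mul_assoc x, ← mul_assoc (blockEltR M f), hcl.comm x, mul_assoc x, ← mul_assoc,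
      ← mul_assoc, hx, mul_assoc, Cfsg.Agent.Blocks.blockEltR_idem hf]
  have hyi : IsInvElt (P.subgroupOf (CX X)) y :=
    isInvElt_mul' hxi (IsClassElt.isInvElt hcl _)
  have hyr : resG (emb (CX X) y) = ε := by
    rw [hy, map_mul, map_mul, resG_emb_blockEltR, BrauerPairs.resG_emb, hxr, hε'emb]
    exact hjb X _ hle
  have hsum : ∀ ψ : IrrCharacter (CX X),
      lsum y (ψ : CX X → ℂ) = ∑ a, (x.coeff a : ℂ) * blockPart f (ψ : CX X → ℂ) a := by
    intro ψ
    simp only [lsum, hy, coeff_mul_univ, AddSubmonoidClass.coe_finsetSum, MulMemClass.coe_mul,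
      Finset.sum_mul]
    rw [Finset.sum_comm]
    refine Finset.sum_congr rfl fun a _ => ?_
    rw [← sum_blockCoeff_shift f (IsCharacter.isClassFunction (irr_isCharacter ψ)) a,
      Finset.mul_sum]
    refine Fintype.sum_equiv (Equiv.mulLeft a⁻¹) _ _ fun b => ?_
    simp only [Equiv.coe_mulLeft, coeff_blockEltR hf, mul_assoc, mul_inv_cancel_left]
  have hout : ∀ ψ, ψ ∉ f → lsum y (ψ : CX X → ℂ) = 0 := fun ψ hψ => by
    rw [hsum]
    refine Finset.sum_eq_zero fun a _ => ?_
    rw [blockPart_eq_sum, Finset.sum_eq_zero, mul_zero]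
    intro φ hφ
    rw [classInner_irr_of_ne ψ.2 φ.2 fun e => hψ (by
      rw [Subtype.ext e]; exact (Finset.mem_filter.1 hφ).2), zero_mul]
  obtain ⟨θ₀, hθ₀⟩ := isPBlock_nonempty hf
  have hr : ∃ r : ℕ, lsum y (θ₀ : CX X → ℂ) = r := by
    obtain ⟨m, ρ, hρ⟩ := isCharacter_chiTr θ₀ hyy (isInvElt_mono (bot_le (a := P.subgroupOf (CX X))) hyi)
    refine ⟨m, ?_⟩
    rw [lsum_eq_chiTr]
    have h := congrFun hρ 1
    simpa using h.symm
  obtain ⟨r, hr⟩ := hr
  refine ⟨⟨f, hf, hle, hcard, y, hyy, hyi, hyr, r, fun ψ hψ => ?_, hout⟩⟩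
  rw [← hr]
  exact lsum_congr_regular hM hyy (IsCharacter.isClassFunction (irr_isCharacter ψ))
    (IsCharacter.isClassFunction (irr_isCharacter θ₀)) (hreg ψ hψ θ₀ hθ₀)

variable {z j : MonoidAlgebra (resField M) G}

theorem LocDatum.lsum_class {X : Subgroup G} (D : LocDatum p M P z j X) {F : CX X → ℂ}
    (hF : IsClassFunction (CX X) F) : lsum D.y F = D.r * muF D.f F :=
  lsum_eq_muF D.value D.outside hF

theorem LocDatum.norm_sum {X : Subgroup G} (D : LocDatum p M P z j X) :
    ∑ ψ : IrrCharacter (CX X), ‖lsum D.y (ψ : CX X → ℂ)‖ ^ 2 = Nat.card P * (D.r : ℝ) ^ 2 := by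
  classical
  rw [← Finset.sum_subset (Finset.subset_univ (Finset.univ.filter (· ∈ D.f))) fun ψ _ hψ => by
    rw [D.outside ψ fun h => hψ (Finset.mem_filter.2 ⟨Finset.mem_univ _, h⟩)]; simp]
  rw [Finset.sum_congr rfl fun ψ hψ => by
    rw [D.value ψ (Finset.mem_filter.1 hψ).2, Complex.norm_natCast],
    Finset.sum_const, nsmul_eq_mul, ← D.card, Nat.card_eq_fintype_card, Fintype.card_subtype]

end Cfsg.Agent.Abelian
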