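/-
The characters of the defect group attached to the local blocks and their values of modulus one.
-/
import Cfsg.Agent.Lib.Star.Abelian.Local

set_option linter.unusedSectionVars false
set_option linter.style.haveILetI false

namespace Cfsg.Agent.Abelian

open Cfsg MonoidAlgebra Cfsg.Agent.Blocks Cfsg.Agent.BrauerPairs Cfsg.Agent.Char Cfsg.Agent.Star
open scoped ComplexConjugate

universe u

variable {G : Type u} [Group G] [Fintype G] {p : ℕ} [Fact p.Prime] {M : Ideal AlgInt} [M.IsPrime]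
  {P : Subgroup G} {z j : MonoidAlgebra (resField M) G} {Q X : Subgroup G}

/-- The character of the defect group cut from a character by an idempotent of a centraliser. -/
noncomputable def locChar (DQ : LocDatum p M P z j Q) (hPQ : P ≤ CX Q) (θ : IrrCharacter (CX Q))
    (v : P) : ℂ :=
  chiTr θ DQ.y ⟨(v : G), hPQ v.2⟩

theorem isCharacter_locChar (DQ : LocDatum p M P z j Q) (hPQ : P ≤ CX Q)
    (θ : IrrCharacter (CX Q)) : IsCharacter P (locChar DQ hPQ θ) :=
  Char.IsCharacter.comp (isCharacter_chiTr θ DQ.idem DQ.inv)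
    ((Subgroup.subgroupOfEquivOfLe hPQ).symm.toMonoidHom)

theorem locChar_one (DQ : LocDatum p M P z j Q) (hPQ : P ≤ CX Q) (θ : IrrCharacter (CX Q)) :
    locChar DQ hPQ θ 1 = lsum DQ.y (θ : CX Q → ℂ) :=
  (lsum_eq_chiTr DQ.y θ).symm

theorem locChar_eq_zero (DQ : LocDatum p M P z j Q) (hPQ : P ≤ CX Q) {θ : IrrCharacter (CX Q)}
    (hθ : θ ∉ DQ.f) (v : P) : locChar DQ hPQ θ v = 0 := by
  obtain ⟨n, ρ, hρ⟩ := isCharacter_locChar DQ hPQ θ
  have h1 := congrFun hρ 1
  rw [locChar_one, DQ.outside θ hθ] at h1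
  simp at h1
  subst h1
  rw [← hρ]
  haveI : Subsingleton (Module.End ℂ (Fin 0 → ℂ)) := ⟨fun a b => LinearMap.ext fun x => Subsingleton.elim _ _⟩
  show LinearMap.trace ℂ _ (ρ v) = 0
  rw [Subsingleton.elim (ρ v) 0, map_zero]

/-- The centre acts by a character. -/
theorem locChar_mul (DQ : LocDatum p M P z j Q) (hQ : Q ≤ P) (hPQ : P ≤ CX Q)
    (θ : IrrCharacter (CX Q)) :
    ∃ w : Q → ℂ, ∀ (q : Q) (v : P),
      locChar DQ hPQ θ (v * ⟨q, hQ q.2⟩) = w q * locChar DQ hPQ θ v := by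
  refine ⟨fun q => (θ : CX Q → ℂ) ⟨(q : G), hPQ (hQ q.2)⟩ / (θ : CX Q → ℂ) 1, fun q v => ?_⟩
  have hcen : (⟨(q : G), hPQ (hQ q.2)⟩ : CX Q) ∈ Subgroup.center (CX Q) :=
    Subgroup.mem_center_iff.2 fun g => Subtype.ext
      ((Subgroup.mem_centralizer_iff.1 (mem_CX.1 g.2) q q.2).symm)
  obtain ⟨c, -, hc, -⟩ := IsIrrCharacter.exists_central_scalar θ.2 hcen
  have hc1 := hc 1
  rw [mul_one] at hc1
  have hw : (θ : CX Q → ℂ) ⟨(q : G), hPQ (hQ q.2)⟩ / (θ : CX Q → ℂ) 1 = c := by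
    rw [hc1, mul_div_cancel_right₀ c (irr_one_ne_zero θ)]
  simp only [hw, locChar, chiTr, Finset.mul_sum]
  refine Finset.sum_congr rfl fun a _ => ?_
  have e : (⟨((v * ⟨q, hQ q.2⟩ : P) : G), hPQ (v * ⟨q, hQ q.2⟩ : P).2⟩ : CX Q) =
      ⟨(q : G), hPQ (hQ q.2)⟩ * ⟨(v : G), hPQ v.2⟩ := Subtype.ext (by
    show (v : G) * q = q * v
    exact (Subgroup.mem_centralizer_iff.1 (mem_CX.1 (hPQ v.2)) q q.2).symm)
  rw [e, mul_assoc, hc]
  ring

section Step

variable (DQ : LocDatum p M P z j Q) (DX : LocDatum p M P z j X) (hQX : Q ≤ X)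

/-- The section function of a character of a local centraliser. -/
noncomputable def secX (θ : IrrCharacter (CX Q)) (v : CX Q) : CX X → ℂ :=
  fun a => (θ : CX Q → ℂ) (v * Subgroup.inclusion (CX_mono hQX) a)

theorem range_inclusion_eq {v : CX Q} (hX : Q ⊔ Subgroup.zpowers (v : G) = X) :
    (Subgroup.inclusion (CX_mono hQX)).range = Subgroup.centralizer ({v} : Set (CX Q)) := by
  ext k
  rw [Subgroup.inclusion_range, Subgroup.mem_subgroupOf, Subgroup.mem_centralizer_singleton_iff]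
  constructor
  · intro hk
    exact Subtype.ext (Subgroup.mem_centralizer_iff.1 (mem_CX.1 hk) (v : G)
      (hX.le (Subgroup.mem_sup_right (Subgroup.mem_zpowers _)))).symm
  · intro hk
    have h1 : Q ≤ Subgroup.centralizer ({(k : G)} : Set G) := fun q hq =>
      Subgroup.mem_centralizer_singleton_iff.2 (Subgroup.mem_centralizer_iff.1 (mem_CX.1 k.2) q hq)
    have h2 : Subgroup.zpowers (v : G) ≤ Subgroup.centralizer ({(k : G)} : Set G) :=
      Subgroup.zpowers_le.2 (Subgroup.mem_centralizer_singleton_iff.2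
        (congrArg Subtype.val hk).symm)
    refine mem_CX.2 (Subgroup.mem_centralizer_iff.2 fun x hx => ?_)
    rw [← hX] at hx
    exact Subgroup.mem_centralizer_singleton_iff.1 (sup_le h1 h2 hx)

theorem locChar_eq_lsum (hM : IsPModular p M) (hP : IsPGroup p P) (hPQ : P ≤ CX Q)
    (hPX : P ≤ CX X) (θ : IrrCharacter (CX Q)) (v : P)
    (hX : Q ⊔ Subgroup.zpowers (v : G) = X) :
    locChar DQ hPQ θ v = lsum DX.y (secX hQX θ ⟨(v : G), hPQ v.2⟩) := by
  classical
  let vK : CX Q := ⟨(v : G), hPQ v.2⟩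
  have hle : CX X ≤ CX Q := CX_mono hQX
  set E := emb (CX X) DX.y with hE
  have hEs : ∀ g, g ∉ (CX Q) → E.coeff g = 0 := fun g hg =>
    coeff_emb_notMem _ _ fun h => hg (hle h)
  set e' := restr (CX Q) E with he'
  have hemb : emb (CX Q) e' = E := emb_restr hEs
  have he : e' * e' = e' := emb_injective (CX Q) (by rw [map_mul, hemb, hE, ← map_mul, DX.idem])
  have hei : IsInvElt (P.subgroupOf (CX Q)) e' := by
    intro u hu g
    show E.coeff ((u : G) * g * (u : G)⁻¹) = E.coeff (g : G)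
    have huX : (u : G) ∈ CX X := hPX hu
    by_cases hg : (g : G) ∈ CX X
    · rw [hE, coeff_emb_mem _ _ hg, coeff_emb_mem _ _ (mul_mem (mul_mem huX hg) (inv_mem huX))]
      exact DX.inv ⟨(u : G), huX⟩ hu ⟨(g : G), hg⟩
    · rw [hE, coeff_emb_notMem _ _ hg, coeff_emb_notMem]
      exact fun h => hg (by simpa [mul_assoc] using mul_mem (mul_mem (inv_mem huX) h) huX)
  obtain ⟨i, hi⟩ := IsPGroup.iff_orderOf.1 hP v
  rw [← Subgroup.orderOf_coe] at hi
  have hres : ∀ g ∈ Subgroup.centralizer ({vK} : Set (CX Q)),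
      res M (DQ.y.coeff g) = res M (e'.coeff g) := by
    intro g hg
    rw [← range_inclusion_eq hQX (v := vK) hX, Subgroup.inclusion_range, Subgroup.mem_subgroupOf] at hg
    have h1 : res M (DQ.y.coeff g) = j.coeff (g : G) := by
      rw [← coeff_emb_coe (CX Q) DQ.y g, ← coeff_resG, DQ.res, coeff_brTrunc_pos (mem_CX.1 g.2)]
    have h2 : res M (e'.coeff g) = j.coeff (g : G) := by
      show res M (E.coeff (g : G)) = _
      rw [← coeff_resG, hE, DX.res, coeff_brTrunc_pos (mem_CX.1 hg)]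
    rw [h1, h2]
  have hc := chiTr_congr hM (u := vK) (s := (1 : (CX Q))) ⟨i, by rw [← Subgroup.orderOf_coe]; exact hi⟩
    (by simp [hM.1.ne_one]) (Commute.one_right _) (H := P.subgroupOf (CX Q)) v.2 (one_mem _) DQ.idem he
    DQ.inv hei hres θ
  rw [mul_one] at hc
  rw [show locChar DQ hPQ θ v = chiTr θ DQ.y vK from rfl, hc, chiTr, lsum]
  rw [← Finset.sum_subset (Finset.subset_univ ((Finset.univ : Finset (CX X)).image
    (Subgroup.inclusion hle))) fun g _ hg => by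
      have : (g : G) ∉ CX X := fun h =>
        hg (Finset.mem_image.2 ⟨⟨(g : G), h⟩, Finset.mem_univ _, Subtype.ext rfl⟩)
      rw [show e'.coeff g = E.coeff (g : G) from rfl, hE, coeff_emb_notMem _ _ this]
      simp,
    Finset.sum_image fun a _ b _ h => Subgroup.inclusion_injective hle h]
  refine Finset.sum_congr rfl fun a _ => ?_
  rw [show e'.coeff (Subgroup.inclusion hle a) = E.coeff (a : G) from rfl, hE, coeff_emb_coe]
  rfl

theorem isClassFunction_secX (hX : ∀ v : CX Q, Q ⊔ Subgroup.zpowers (v : G) = X →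
    ∀ a, Commute v (Subgroup.inclusion (CX_mono hQX) a)) (θ : IrrCharacter (CX Q)) {v : CX Q}
    (hv : Q ⊔ Subgroup.zpowers (v : G) = X) : IsClassFunction (CX X) (secX hQX θ v) :=
  isClassFunction_sectionComp _ (hX v hv) (IsCharacter.isClassFunction (irr_isCharacter θ))

theorem commute_inclusion {v : CX Q} (hv : Q ⊔ Subgroup.zpowers (v : G) = X) (a : CX X) :
    Commute v (Subgroup.inclusion (CX_mono hQX) a) :=
  Subtype.ext (Subgroup.mem_centralizer_iff.1 (mem_CX.1 a.2) (v : G)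
    (hv.le (Subgroup.mem_sup_right (Subgroup.mem_zpowers _))))

theorem locChar_eq_mu (hM : IsPModular p M) (hP : IsPGroup p P) (hPQ : P ≤ CX Q)
    (hPX : P ≤ CX X) (θ : IrrCharacter (CX Q)) (v : P)
    (hX : Q ⊔ Subgroup.zpowers (v : G) = X) :
    locChar DQ hPQ θ v = DX.r * muF DX.f (secX hQX θ ⟨(v : G), hPQ v.2⟩) := by
  rw [locChar_eq_lsum DQ DX hQX hM hP hPQ hPX θ v hX]
  exact DX.lsum_class (isClassFunction_secX hQX (fun w hw => commute_inclusion hQX hw) θ
    (v := (⟨(v : G), hPQ v.2⟩ : CX Q)) hX)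

theorem secX_integral (hPX : P ≤ CX X) (θ : IrrCharacter (CX Q)) (v : P) (hPQ : P ≤ CX Q)
    (hX : Q ⊔ Subgroup.zpowers (v : G) = X) (f : Set (IrrCharacter (CX X))) :
    IsIntegral ℤ (muF f (secX hQX θ ⟨(v : G), hPQ v.2⟩)) := by
  have hcen : (⟨(v : G), hPX v.2⟩ : CX X) ∈ Subgroup.center (CX X) :=
    Subgroup.mem_center_iff.2 fun g => Subtype.ext (Subgroup.mem_centralizer_iff.1 (mem_CX.1 g.2)
      (v : G) (hX.le (Subgroup.mem_sup_right (Subgroup.mem_zpowers _)))).symm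
  exact muF_integral (Subgroup.inclusion (CX_mono hQX)) ⟨(v : G), hPX v.2⟩ hcen θ f

include hQX in
theorem sum_norm_locChar (hM : IsPModular p M) (hP : IsPGroup p P) (hPQ : P ≤ CX Q)
    (hPX : P ≤ CX X) (v : P) (hX : Q ⊔ Subgroup.zpowers (v : G) = X) :
    ∑ θ : IrrCharacter (CX Q), ‖locChar DQ hPQ θ v‖ ^ 2 = Nat.card P * (DX.r : ℝ) ^ 2 := by
  obtain ⟨i, hi⟩ := IsPGroup.iff_orderOf.1 hP v
  rw [← Subgroup.orderOf_coe] at hi
  rw [← DX.norm_sum, ← sum_norm_lsum hM (Subgroup.inclusion (CX_mono hQX))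
    (Subgroup.inclusion_injective _) (v := (⟨(v : G), hPQ v.2⟩ : CX Q))
    ⟨i, by rw [← Subgroup.orderOf_coe]; exact hi⟩ (range_inclusion_eq hQX (v := (⟨(v : G), hPQ v.2⟩ : CX Q)) hX) DX.idem]
  exact Finset.sum_congr rfl fun θ _ => by rw [locChar_eq_lsum DQ DX hQX hM hP hPQ hPX θ v hX]; rfl

end Step

end Cfsg.Agent.Abelian
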