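/-
The local degrees are prime to `p` and the local characters have constant modulus.
-/
import Cfsg.Agent.Lib.Star.Abelian.LocalChar
import Cfsg.Agent.Lib.Blocks.AlgGalois
import Cfsg.Agent.Lib.Blocks.Reynolds
import Mathlib.Analysis.SpecialFunctions.Log.Basic

set_option linter.unusedSectionVars false
set_option linter.style.haveILetI false

namespace Cfsg.Agent.Abelian

open Cfsg MonoidAlgebra Cfsg.Agent.Blocks Cfsg.Agent.BrauerPairs Cfsg.Agent.Char Cfsg.Agent.Star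
  Cfsg.Agent.CharGalois
open scoped ComplexConjugate

universe u

/-- Nonnegative reals of mean one and product at least one are all one. -/
theorem eq_one_of_sum_of_prod {ι : Type*} (s : Finset ι) (a : ι → ℝ) (h0 : ∀ i ∈ s, 0 ≤ a i)
    (hsum : ∑ i ∈ s, a i = s.card) (hprod : 1 ≤ ∏ i ∈ s, a i) : ∀ i ∈ s, a i = 1 := by
  have hpos : ∀ i ∈ s, 0 < a i := fun i hi => lt_of_le_of_ne (h0 i hi) fun h => by
    rw [Finset.prod_eq_zero hi h.symm] at hprod
    linarith
  have h1 : 0 ≤ ∑ i ∈ s, Real.log (a i) := by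
    rw [← Real.log_prod (fun i hi => (hpos i hi).ne')]
    exact Real.log_nonneg hprod
  have h2 : ∀ i ∈ s, Real.log (a i) ≤ a i - 1 := fun i hi => Real.log_le_sub_one_of_pos (hpos i hi)
  have h3 : ∑ i ∈ s, (a i - 1) = 0 := by
    rw [Finset.sum_sub_distrib, hsum, Finset.sum_const, nsmul_one, sub_self]
  have h4 : ∑ i ∈ s, Real.log (a i) = ∑ i ∈ s, (a i - 1) :=
    le_antisymm (Finset.sum_le_sum h2) (h3 ▸ h1)
  intro i hi
  by_contra hne
  exact (Real.log_lt_sub_one_of_pos (hpos i hi) hne).ne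
    ((Finset.sum_eq_sum_iff_of_le h2).1 h4 i hi)

variable {G : Type u} [Group G] [Fintype G] {p : ℕ} [Fact p.Prime] {M : Ideal AlgInt} [M.IsPrime]
  {P : Subgroup G} {z j : MonoidAlgebra (resField M) G}

/-- A family of local data indexed by the nontrivial subgroups of the defect group. -/
abbrev LocFamily (p : ℕ) (M : Ideal AlgInt) [M.IsPrime] (P : Subgroup G)
    (z j : MonoidAlgebra (resField M) G) :=
  ∀ X : Subgroup P, X ≠ ⊥ → LocDatum p M P z j (X.map P.subtype)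

open scoped Classical in
/-- The degree at a subgroup. -/
noncomputable def rdeg (D : LocFamily p M P z j) (X : Subgroup P) : ℕ :=
  if h : X ≠ ⊥ then (D X h).r else 1

variable (D : LocFamily p M P z j)

theorem rdeg_eq {X : Subgroup P} (h : X ≠ ⊥) : rdeg D X = (D X h).r := dif_pos h

theorem sup_ne_bot {Q : Subgroup P} (hQ : Q ≠ ⊥) (v : P) : Q ⊔ Subgroup.zpowers v ≠ ⊥ :=
  fun h => hQ (le_bot_iff.1 (h ▸ le_sup_left))

theorem map_sup_zpowers (Q : Subgroup P) (v : P) :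
    Q.map P.subtype ⊔ Subgroup.zpowers (v : G) = (Q ⊔ Subgroup.zpowers v).map P.subtype := by
  rw [Subgroup.map_sup, MonoidHom.map_zpowers]
  rfl

variable (hM : IsPModular p M) (hP : IsPGroup p P)
  (hPC : P ≤ Subgroup.centralizer (P : Set G))

include hM hP hPC

theorem locChar_value (Q : Subgroup P) (hQ : Q ≠ ⊥) (θ : IrrCharacter (CX (Q.map P.subtype)))
    (v : P) : ∃ μ : ℂ, IsIntegral ℤ μ ∧
      locChar (D Q hQ) (le_CX hPC (Subgroup.map_subtype_le Q)) θ v =
        rdeg D (Q ⊔ Subgroup.zpowers v) * μ := by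
  have hle : Q.map P.subtype ≤ (Q ⊔ Subgroup.zpowers v).map P.subtype :=
    Subgroup.map_mono le_sup_left
  refine ⟨_, secX_integral hle (le_CX hPC (Subgroup.map_subtype_le _)) θ v
    (le_CX hPC (Subgroup.map_subtype_le _)) (map_sup_zpowers Q v) (D _ (sup_ne_bot hQ v)).f, ?_⟩
  rw [rdeg_eq D (sup_ne_bot hQ v)]
  exact locChar_eq_mu (D Q hQ) (D _ (sup_ne_bot hQ v)) hle hM hP _
    (le_CX hPC (Subgroup.map_subtype_le _)) θ v (map_sup_zpowers Q v)

/-- All degrees are prime to `p` once those at the cyclic subgroups are. -/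
theorem not_dvd_rdeg (hbase : ∀ v : P, v ≠ 1 → ¬ p ∣ rdeg D (Subgroup.zpowers v)) :
    ∀ X : Subgroup P, ¬ p ∣ rdeg D X := by
  classical
  haveI : Finite P := Subtype.finite
  suffices H : ∀ (n : ℕ) (X : Subgroup P), Nat.card X ≤ n → ¬ p ∣ rdeg D X from
    fun X => H _ X le_rfl
  intro n
  induction n using Nat.strong_induction_on with
  | _ n ih =>
  intro X hn
  by_cases hX : X = ⊥
  · rw [rdeg, dif_neg (not_not.2 hX)]
    exact (Fact.out : p.Prime).not_dvd_one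
  obtain ⟨v, hv, hv1⟩ : ∃ v ∈ X, v ≠ (1 : P) := by
    by_contra hcon
    push Not at hcon
    exact hX ((Subgroup.eq_bot_iff_forall X).2 hcon)
  by_cases hcyc : Subgroup.zpowers v = X
  · exact hcyc ▸ hbase v hv1
  haveI : Fintype (Subgroup P) := Fintype.ofFinite _
  obtain ⟨Q, hQm, hmax⟩ := Finset.exists_max_image
    (Finset.univ.filter fun R : Subgroup P => Subgroup.zpowers v ≤ R ∧ R < X)
    (fun R : Subgroup P => Nat.card R)
    ⟨Subgroup.zpowers v, Finset.mem_filter.2 ⟨Finset.mem_univ _, le_rfl,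
      lt_of_le_of_ne (Subgroup.zpowers_le.2 hv) hcyc⟩⟩
  simp only [Finset.mem_filter, Finset.mem_univ, true_and] at hQm hmax
  obtain ⟨w, hwX, hwQ⟩ := SetLike.exists_of_lt hQm.2
  have hsup : Q ⊔ Subgroup.zpowers w = X := by
    by_contra hne
    have hlt : Q < Q ⊔ Subgroup.zpowers w :=
      lt_of_le_of_ne le_sup_left fun h => hwQ (h.ge (Subgroup.mem_sup_right (Subgroup.mem_zpowers w)))
    exact hlt.ne (Subgroup.eq_of_le_of_card_ge hlt.le (hmax _ ⟨hQm.1.trans le_sup_left,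
      lt_of_le_of_ne (sup_le hQm.2.le (Subgroup.zpowers_le.2 hwX)) hne⟩))
  have hQ : Q ≠ ⊥ := fun h => hv1 (Subgroup.mem_bot.1 (h ▸ hQm.1 (Subgroup.mem_zpowers v)))
  have hlt : Nat.card Q < Nat.card X := lt_of_le_of_ne (Subgroup.card_le_of_le hQm.2.le)
    fun h => hQm.2.ne (Subgroup.eq_of_le_of_card_ge hQm.2.le h.ge)
  have hrQ := ih (n - 1) (by have := Nat.card_pos (α := Q); omega) Q (by omega)
  intro hdiv
  apply hrQ
  obtain ⟨θ, hθ⟩ := isPBlock_nonempty (D Q hQ).blk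
  obtain ⟨μ, hμ, heq⟩ := locChar_value D hM hP hPC Q hQ θ w
  rw [hsup] at heq
  obtain ⟨i, hi⟩ := IsPGroup.iff_orderOf.1 hP w
  have hc := char_congr_regular hM (isCharacter_locChar (D Q hQ)
    (le_CX hPC (Subgroup.map_subtype_le Q)) θ) (x := w) (y := 1) (Commute.one_right w) hi
    (by simp [hM.1.ne_one])
  rw [mul_one, heq, locChar_one, (D Q hQ).value θ hθ, ← rdeg_eq D hQ] at hc
  have h2 : MemLocalIdeal M ((rdeg D X : ℂ) * μ) := by
    rw [mul_comm]
    exact MemLocalIdeal.mul_left (mem_locRing_of_isIntegral hμ)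
      ((natCast_memLocalIdeal_iff hM _).2 hdiv)
  have h3 := MemLocalIdeal.sub h2 hc
  rw [sub_sub_cancel] at h3
  exact (natCast_memLocalIdeal_iff hM _).1 h3

/-- The local characters have the degree of the join as modulus. -/
theorem norm_locChar (hunit : ∀ X : Subgroup P, ¬ p ∣ rdeg D X) {Q : Subgroup P} (hQ : Q ≠ ⊥)
    {θ : IrrCharacter (CX (Q.map P.subtype))} (hθ : θ ∈ (D Q hQ).f) (v : P) :
    ‖locChar (D Q hQ) (le_CX hPC (Subgroup.map_subtype_le Q)) θ v‖ =
      rdeg D (Q ⊔ Subgroup.zpowers v) := by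
  classical
  letI : CommGroup P :=
    { (inferInstance : Group P) with
      mul_comm := fun a b => Subtype.ext (Subgroup.mem_centralizer_iff.1 (hPC b.2) a a.2) }
  obtain ⟨a, ha⟩ := hP.exists_card_eq
  set N := Nat.card P with hN
  set Λ : IrrCharacter (CX (Q.map P.subtype)) → P → ℂ :=
    fun θ => locChar (D Q hQ) (le_CX hPC (Subgroup.map_subtype_le Q)) θ with hΛ
  set r := rdeg D (Q ⊔ Subgroup.zpowers v) with hr
  have hr0 : (r : ℂ) ≠ 0 := Nat.cast_ne_zero.2 fun h => hunit (Q ⊔ Subgroup.zpowers v) (by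
    rw [← hr, h]; exact dvd_zero p)
  set S : Finset P := ((Finset.range N).filter fun k => k.Coprime N).image fun k => v ^ k with hS
  have hzp : ∀ w ∈ S, Subgroup.zpowers w = Subgroup.zpowers v := by
    intro w hw
    obtain ⟨k, hk, rfl⟩ := Finset.mem_image.1 hw
    obtain ⟨m, hm⟩ := exists_pow_eq_self_of_coprime (x := v)
      (Nat.Coprime.coprime_dvd_right (orderOf_dvd_natCard v) (Finset.mem_filter.1 hk).2)
    have hvk : v ∈ Subgroup.zpowers (v ^ k) := by
      have h := pow_mem (Subgroup.mem_zpowers (v ^ k)) m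
      rwa [hm] at h
    exact le_antisymm (Subgroup.zpowers_le.2 (pow_mem (Subgroup.mem_zpowers v) k))
      (Subgroup.zpowers_le.2 hvk)
  have hvS : ∀ k : ℕ, k.Coprime N → v ^ k ∈ S := by
    intro k hk
    refine Finset.mem_image.2 ⟨k % N, Finset.mem_filter.2
      ⟨Finset.mem_range.2 (Nat.mod_lt _ Nat.card_pos), ?_⟩, (pow_mod_natCard v k)⟩
    rw [Nat.Coprime, ← Nat.gcd_rec, Nat.gcd_comm]
    exact hk
  have hv1 : v ∈ S := by simpa using hvS 1 (Nat.coprime_one_left N)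
  set T := (Finset.univ.filter fun θ => θ ∈ (D Q hQ).f) ×ˢ S with hT
  have hch : ∀ θ, IsCharacter P (Λ θ) := fun θ =>
    isCharacter_locChar (D Q hQ) (le_CX hPC (Subgroup.map_subtype_le Q)) θ
  have hne : ∀ x ∈ T, Λ x.1 x.2 ≠ 0 := by
    intro x hx
    obtain ⟨hx1, -⟩ := Finset.mem_product.1 hx
    intro h0
    obtain ⟨i, hi⟩ := IsPGroup.iff_orderOf.1 hP x.2
    have hc := char_congr_regular hM (hch x.1) (x := x.2) (y := 1) (Commute.one_right _) hi
      (by simp [hM.1.ne_one])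
    rw [mul_one, h0, zero_sub] at hc
    have hc' := MemLocalIdeal.neg hc
    rw [neg_neg] at hc'
    revert hc'
    show ¬ MemLocalIdeal M (Λ x.1 1)
    rw [hΛ]
    simp only
    rw [locChar_one, (D Q hQ).value x.1 (Finset.mem_filter.1 hx1).2, ← rdeg_eq D hQ,
      natCast_memLocalIdeal_iff hM]
    exact hunit Q
  set b : IrrCharacter (CX (Q.map P.subtype)) × P → ℂ :=
    fun x => Λ x.1 x.2 * Λ x.1 x.2⁻¹ / (r : ℂ) ^ 2 with hb
  have hnorm : ∀ x, b x = ((‖Λ x.1 x.2‖ ^ 2 / (r : ℝ) ^ 2 : ℝ) : ℂ) := fun x => by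
    simp only [hb]
    rw [Char.IsCharacter.inv (hch x.1), Complex.mul_conj']
    push_cast
    rfl
  have hbint : ∀ x ∈ T, IsIntegral ℤ (b x) := by
    intro x hx
    obtain ⟨-, hxS⟩ := Finset.mem_product.1 hx
    obtain ⟨μ, hμ, hμe⟩ := locChar_value D hM hP hPC Q hQ x.1 x.2
    obtain ⟨μ', hμ', hμe'⟩ := locChar_value D hM hP hPC Q hQ x.1 x.2⁻¹
    rw [hzp _ hxS] at hμe
    rw [Subgroup.zpowers_inv, hzp _ hxS] at hμe'
    simp only [hb, hΛ]
    rw [hμe, hμe', ← hr, show (r : ℂ) * μ * ((r : ℂ) * μ') / (r : ℂ) ^ 2 = μ * μ' by field_simp]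
    exact hμ.mul hμ'
  have hfix : ∀ σ : ℂ ≃+* ℂ, σ (∏ x ∈ T, b x) = ∏ x ∈ T, b x := by
    intro σ
    obtain ⟨k, hk, hσ⟩ := exists_exponent σ.toRingHom (Nat.card_pos (α := P)).ne'
    rw [map_prod]
    have hbij : Function.Bijective fun g : P => g ^ k := (powCoprime hk.symm).bijective
    have hmaps : ∀ w ∈ S, w ^ k ∈ S := by
      intro w hw
      obtain ⟨i, hi, rfl⟩ := Finset.mem_image.1 hw
      rw [← pow_mul]
      exact hvS _ ((Finset.mem_filter.1 hi).2.mul_left hk)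
    have himg : S.image (fun g => g ^ k) = S :=
      Finset.eq_of_subset_of_card_le (Finset.image_subset_iff.2 hmaps)
        (by rw [Finset.card_image_of_injective _ hbij.1])
    refine Finset.prod_bij (fun x _ => (x.1, x.2 ^ k)) (fun x hx => ?_) (fun x _ y _ h => ?_)
      (fun x hx => ?_) fun x hx => ?_
    · obtain ⟨h1, h2⟩ := Finset.mem_product.1 hx
      exact Finset.mem_product.2 ⟨h1, hmaps _ h2⟩
    · rw [Prod.mk.injEq] at h
      exact Prod.ext h.1 (hbij.1 h.2)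
    · obtain ⟨h1, h2⟩ := Finset.mem_product.1 hx
      rw [← himg, Finset.mem_image] at h2
      obtain ⟨w, hw, hwe⟩ := h2
      exact ⟨(x.1, w), Finset.mem_product.2 ⟨h1, hw⟩, Prod.ext rfl hwe⟩
    · simp only [hb]
      rw [map_div₀, map_mul, map_pow, map_natCast, ← inv_pow]
      congr 2
      · exact map_char (hch x.1) σ.toRingHom hσ x.2
      · exact map_char (hch x.1) σ.toRingHom hσ x.2⁻¹
  obtain ⟨m, hm⟩ := Cfsg.Agent.Blocks.exists_int_of_fixed (IsIntegral.prod _ hbint) hfix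
  have hreal : ((∏ x ∈ T, (‖Λ x.1 x.2‖ ^ 2 / (r : ℝ) ^ 2) : ℝ) : ℂ) = (m : ℂ) := by
    rw [← hm, Complex.ofReal_prod]
    exact Finset.prod_congr rfl fun x _ => (hnorm x).symm
  have hm' : ∏ x ∈ T, (‖Λ x.1 x.2‖ ^ 2 / (r : ℝ) ^ 2) = (m : ℝ) := by exact_mod_cast hreal
  have hr2 : (0 : ℝ) < (r : ℝ) ^ 2 := by
    have : r ≠ 0 := fun h => hr0 (by rw [h, Nat.cast_zero])
    positivity
  have hpos : 0 < ∏ x ∈ T, (‖Λ x.1 x.2‖ ^ 2 / (r : ℝ) ^ 2) := Finset.prod_pos fun x hx =>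
    div_pos (pow_pos (norm_pos_iff.2 (hne x hx)) 2) hr2
  rw [hm'] at hpos
  have hm1 : (1 : ℝ) ≤ (m : ℝ) := by exact_mod_cast (show (1 : ℤ) ≤ m by exact_mod_cast hpos)
  have hsum : ∀ w ∈ S, ∑ θ ∈ Finset.univ.filter (fun θ => θ ∈ (D Q hQ).f),
      ‖Λ θ w‖ ^ 2 / (r : ℝ) ^ 2 = N := by
    intro w hw
    have hle : Q.map P.subtype ≤ (Q ⊔ Subgroup.zpowers w).map P.subtype :=
      Subgroup.map_mono le_sup_left
    have hall := sum_norm_locChar (D Q hQ) (D _ (sup_ne_bot hQ w)) hle hM hP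
      (le_CX hPC (Subgroup.map_subtype_le Q)) (le_CX hPC (Subgroup.map_subtype_le _)) w
      (map_sup_zpowers Q w)
    rw [← rdeg_eq D (sup_ne_bot hQ w), hzp w hw, ← hr, ← Finset.sum_subset (Finset.subset_univ
      (Finset.univ.filter fun θ => θ ∈ (D Q hQ).f)) fun θ _ hθ' => by
        rw [locChar_eq_zero _ _ fun h => hθ' (Finset.mem_filter.2 ⟨Finset.mem_univ _, h⟩)]
        simp] at hall
    rw [← Finset.sum_div, div_eq_iff hr2.ne', hN]
    exact hall
  have hcard : (Finset.univ.filter fun θ => θ ∈ (D Q hQ).f).card = N := by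
    rw [hN, ← (D Q hQ).card, Nat.card_eq_fintype_card, Fintype.card_subtype]
  have hall := eq_one_of_sum_of_prod T (fun x => ‖Λ x.1 x.2‖ ^ 2 / (r : ℝ) ^ 2)
    (fun x _ => by positivity) (by
      rw [hT, Finset.sum_product_right, Finset.sum_congr rfl hsum, Finset.sum_const,
        Finset.card_product, hcard, nsmul_eq_mul, Nat.cast_mul, mul_comm])
    (hm' ▸ hm1) (θ, v) (Finset.mem_product.2 ⟨Finset.mem_filter.2 ⟨Finset.mem_univ _, hθ⟩, hv1⟩)
  rw [div_eq_one_iff_eq hr2.ne'] at hall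
  exact (pow_left_inj₀ (norm_nonneg _) (Nat.cast_nonneg _) two_ne_zero).1 hall

end Cfsg.Agent.Abelian
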