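/-
The multiplicities of the characters of a block at the elements of an abelian defect group with
free inertia.
-/
import Cfsg.Agent.Lib.Star.Abelian.Units
import Cfsg.Agent.Lib.Star.Abelian.Fusion

set_option linter.unusedSectionVars false
set_option linter.style.haveILetI false

namespace Cfsg.Agent.Abelian

open Cfsg MonoidAlgebra Cfsg.Agent.Blocks Cfsg.Agent.BrauerPairs Cfsg.Agent.Char Cfsg.Agent.Star
open scoped ComplexConjugate

universe u

variable {G : Type u} [Group G] [Fintype G] {p : ℕ} [Fact p.Prime] {M : Ideal AlgInt} [M.IsPrime]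
  {B : Set (IrrCharacter G)} {P : Subgroup G} {z j : MonoidAlgebra (resField M) G}

/-- Transport of local data along an equality of subgroups. -/
noncomputable def castDatum {X Y : Subgroup G} (h : X = Y) (D : LocDatum p M P z j X) :
    LocDatum p M P z j Y := h ▸ D

theorem castDatum_r {X Y : Subgroup G} (h : X = Y) (D : LocDatum p M P z j X) :
    (castDatum h D).r = D.r := by subst h; rfl

/-- The datum at the subgroup of an element. -/
noncomputable def elemDatum (D : LocFamily p M P z j) (v : P) (hv : v ≠ 1) :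
    LocDatum p M P z j (Subgroup.zpowers (v : G)) :=
  castDatum (show (Subgroup.zpowers v).map P.subtype = Subgroup.zpowers (v : G) from
    MonoidHom.map_zpowers P.subtype v)
    (D (Subgroup.zpowers v) (by rwa [Ne, Subgroup.zpowers_eq_bot]))

theorem elemDatum_r (D : LocFamily p M P z j) (v : P) (hv : v ≠ 1) :
    (elemDatum D v hv).r = rdeg D (Subgroup.zpowers v) := by
  exact (castDatum_r _ _).trans (rdeg_eq D _).symm

open scoped Classical in
/-- The multiplicity of a character at an element of the defect group. -/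
noncomputable def mu (D : LocFamily p M P z j) (χ : IrrCharacter G) (v : P) : ℂ :=
  if h : v ≠ 1 then
    muF (elemDatum D v h).f (secFun (v : G) (secC (v : G)) (χ : G → ℂ))
  else 0

theorem mu_eq (D : LocFamily p M P z j) (χ : IrrCharacter G) {v : P} (h : v ≠ 1) :
    mu D χ v = muF (elemDatum D v h).f (secFun (v : G) (secC (v : G)) (χ : G → ℂ)) := dif_pos h

/-- The block part at a regular element is the multiplicity times any value of the block. -/
theorem blockPart_eq_muF {H : Type u} [Group H] [Fintype H] {f : Set (IrrCharacter H)}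
    (hreg : ∀ θ ∈ f, ∀ θ' ∈ f, ∀ w : H, ¬ p ∣ orderOf w → (θ : H → ℂ) w = (θ' : H → ℂ) w)
    {θ : IrrCharacter H} (hθ : θ ∈ f) (F : H → ℂ) {w : H} (hw : ¬ p ∣ orderOf w) :
    blockPart f F w = muF f F * (θ : H → ℂ) w := by
  classical
  rw [blockPart_eq_sum, muF, Finset.sum_mul]
  exact Finset.sum_congr rfl fun ψ hψ => by rw [hreg ψ (Finset.mem_filter.1 hψ).2 θ hθ w hw]

section

variable (D : LocFamily p M P z j) (hM : IsPModular p M) (hB : IsPBlock M B)
  (hmax : IsMax p (Ek M B) ((P, z) : Pr (resField M) G)) (hP : IsPGroup p P)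
  (hPC : P ≤ Subgroup.centralizer (P : Set G))
  (hreg : ∀ (X : Subgroup G) (f : Set (IrrCharacter (CX X))), X ≤ P → X ≠ ⊥ → IsPBlock M f →
    SubLE p ⊤ ((X, zB M (CX X) f) : Pr (resField M) G) (P, z) →
    ∀ θ ∈ f, ∀ θ' ∈ f, ∀ w : CX X, ¬ p ∣ orderOf w →
      (θ : CX X → ℂ) w = (θ' : CX X → ℂ) w)

theorem mu_integral (χ : IrrCharacter G) (v : P) : IsIntegral ℤ (mu D χ v) := by
  by_cases h : v ≠ 1
  · rw [mu_eq D χ h]
    exact muF_integral (secC (v : G)).subtype ⟨(v : G), mem_secC.2 rfl⟩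
      (Subgroup.mem_center_iff.2 fun g => Subtype.ext (mem_secC.1 g.2)) χ _
  · rw [mu, dif_neg h]
    exact isIntegral_zero

include hP in
theorem exists_orderOf_eq (v : P) : ∃ i, orderOf (v : G) = p ^ i := by
  obtain ⟨i, hi⟩ := IsPGroup.iff_orderOf.1 hP v
  exact ⟨i, by rw [Subgroup.orderOf_coe]; exact hi⟩

include hM hP hPC in
/-- The trace of the lifted idempotent at an element of the defect group. -/
theorem chiTr_eq_mu {ê : MonoidAlgebra (locRing M) G} (hê : ê * ê = ê) (hêi : IsInvElt P ê)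
    (hêr : resG ê = j) (χ : IrrCharacter G) {v : P} (hv : v ≠ 1) :
    chiTr χ ê (v : G) = (rdeg D (Subgroup.zpowers v) : ℂ) * mu D χ v := by
  classical
  set E := elemDatum D v hv with hE
  have hvX : Subgroup.zpowers (v : G) ≤ P := Subgroup.zpowers_le.2 v.2
  have hPX : P ≤ secC (v : G) := le_CX hPC hvX
  have hinv : IsInvElt P (emb (secC (v : G)) E.y) := by
    intro u hu g
    have huX := hPX hu
    by_cases hg : g ∈ secC (v : G)
    · rw [coeff_emb_mem _ _ hg, coeff_emb_mem _ _ (mul_mem (mul_mem huX hg) (inv_mem huX))]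
      exact E.inv ⟨u, huX⟩ hu ⟨g, hg⟩
    · rw [coeff_emb_notMem _ _ hg, coeff_emb_notMem]
      exact fun h => hg (by simpa [mul_assoc] using mul_mem (mul_mem (inv_mem huX) h) huX)
  obtain ⟨i, hi⟩ := exists_orderOf_eq hP v
  have hc := chiTr_congr hM (u := (v : G)) (s := 1) ⟨i, hi⟩ (by simp [hM.1.ne_one])
    (Commute.one_right _) (H := P) v.2 (one_mem _) hê
    (by rw [← map_mul, E.idem] : emb (secC (v : G)) E.y * emb (secC (v : G)) E.y = _) hêi hinv
    (fun g hg => by
      rw [← coeff_resG, ← coeff_resG, hêr, E.res,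
        coeff_brTrunc_pos (by rwa [centralizer_zpowers_eq])]) χ
  rw [mul_one] at hc
  rw [hc, mu_eq D χ hv, ← hE, ← elemDatum_r D v hv, ← hE,
    ← E.lsum_class (isClassFunction_secFun (secC_eq (v : G))
      (IsCharacter.isClassFunction (irr_isCharacter χ))),
    chiTr, lsum, ← Finset.sum_subset (Finset.subset_univ
      ((Finset.univ : Finset (secC (v : G))).image Subtype.val)) fun g _ hg => by
        rw [coeff_emb_notMem _ _ fun h => hg (Finset.mem_image.2 ⟨⟨g, h⟩, Finset.mem_univ _, rfl⟩)]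
        simp,
    Finset.sum_image fun a _ b _ h => Subtype.ext h]
  exact Finset.sum_congr rfl fun a _ => by rw [coeff_emb_coe]; rfl

variable [CharP (resField M) p]

include hM hB hmax hP hreg

theorem elemDatum_reg {v : P} (hv : v ≠ 1) :
    ∀ θ ∈ (elemDatum D v hv).f, ∀ θ' ∈ (elemDatum D v hv).f, ∀ w : secC (v : G),
      ¬ p ∣ orderOf w → (θ : secC (v : G) → ℂ) w = (θ' : secC (v : G) → ℂ) w :=
  hreg _ _ (Subgroup.zpowers_le.2 v.2)
    (by rw [Ne, Subgroup.zpowers_eq_bot]; exact fun h => hv (Subtype.ext h))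
    (elemDatum D v hv).blk (elemDatum D v hv).below

theorem blockPart_one_eq_mu (χ : IrrCharacter G) {v : P} (hv : v ≠ 1)
    {θ : IrrCharacter (secC (v : G))} (hθ : θ ∈ (elemDatum D v hv).f) :
    blockPart (elemDatum D v hv).f (secFun (v : G) (secC (v : G)) (χ : G → ℂ)) 1 =
      mu D χ v * (θ : secC (v : G) → ℂ) 1 := by
  rw [mu_eq D χ hv]
  exact blockPart_eq_muF (elemDatum_reg D hM hB hmax hP hreg hv) hθ _ (by simp [hM.1.ne_one])

theorem elemDatum_mem_unitBlocks {v : P} (hv : v ≠ 1) :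
    (elemDatum D v hv).f ∈ unitBlocks M (restrictElt (secC (v : G)) (blockEltR M B)) :=
  (mem_unitBlocks_iff_induced' hM (exists_orderOf_eq hP v) (secC_eq (v : G)) hB).2
    ((induced_iff_pairOf hM hB (exists_orderOf_eq hP v) (secC_eq (v : G))
      (elemDatum D v hv).blk).2 ((elemDatum D v hv).below.pairOf_iff.2 hmax.pairOf))

theorem blockPair_one_one {v : P} (hv : v ≠ 1) {θ : IrrCharacter (secC (v : G))}
    (hθ : θ ∈ (elemDatum D v hv).f) :
    blockPair (elemDatum D v hv).f (1 : secC (v : G)) 1 =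
      (Nat.card P : ℂ) * ((θ : secC (v : G) → ℂ) 1 * conj ((θ : secC (v : G) → ℂ) 1)) := by
  classical
  unfold blockPair
  rw [Finset.sum_congr rfl fun ψ hψ => by
      rw [elemDatum_reg D hM hB hmax hP hreg hv ψ (Finset.mem_filter.1 hψ).2 θ hθ 1
        (by simp [hM.1.ne_one])],
    Finset.sum_const, nsmul_eq_mul, ← (elemDatum D v hv).card, Nat.card_eq_fintype_card,
    Fintype.card_subtype]

/-- The squared moduli of the multiplicities at an element add up to the order of the defect
group. -/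
theorem sum_mu_self [DecidablePred (· ∈ B)] {v : P} (hv : v ≠ 1) :
    ∑ χ ∈ Finset.univ.filter (· ∈ B), mu D χ v * conj (mu D χ v) = (Nat.card P : ℂ) := by
  classical
  set E := elemDatum D v hv with hE
  obtain ⟨θ, hθ⟩ := isPBlock_nonempty E.blk
  have h1 : (θ : secC (v : G) → ℂ) 1 ≠ 0 := irr_one_ne_zero θ
  have h := blockPart_secFun_gram hM (exists_orderOf_eq hP v) (secC_eq (v : G)) hB E.blk
    (u := (1 : secC (v : G))) (v := 1) (by simp [hM.1.ne_one]) (by simp [hM.1.ne_one])
  rw [if_pos (elemDatum_mem_unitBlocks D hM hB hmax hP hreg hv),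
    blockPair_one_one D hM hB hmax hP hreg hv hθ] at h
  refine mul_right_cancel₀ (mul_ne_zero h1 ((map_ne_zero (starRingEnd ℂ)).2 h1)) ?_
  rw [← h, Finset.sum_mul]
  refine Finset.sum_congr rfl fun χ _ => ?_
  rw [blockPart_one_eq_mu D hM hB hmax hP hreg χ hv hθ, map_mul]
  ring

/-- Moving the section of an element by conjugation. -/
theorem exists_moved {v w : P} (hw : w ≠ 1) {g : G}
    (hg : g * (v : G) * g⁻¹ = (w : G)) :
    ∃ b : Set (IrrCharacter (secC (v : G))), IsPBlock M b ∧
      cj g (zB M (secC (v : G)) b) = zB M (secC (w : G)) (elemDatum D w hw).f ∧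
      ∀ χ : IrrCharacter G,
        blockPart b (secFun (v : G) (secC (v : G)) (χ : G → ℂ)) 1 =
          blockPart (elemDatum D w hw).f (secFun (w : G) (secC (w : G)) (χ : G → ℂ)) 1 := by
  classical
  set E := elemDatum D w hw with hE
  have hblk : IsBlk (secC (v : G)) (cj g⁻¹ (zB M (secC (w : G)) E.f)) := by
    have h := (isBlk_zB (secC (w : G)) E.blk).cj g⁻¹
    rwa [cjS_secC, show g⁻¹ * (w : G) * g⁻¹⁻¹ = (v : G) by rw [← hg]; group] at h
  obtain ⟨b, hb, hbe⟩ := exists_eq_zB hblk
  replace hbe : zB M (secC (v : G)) b = cj g⁻¹ (zB M (secC (w : G)) E.f) := hbe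
  have hmove : cj g (zB M (secC (v : G)) b) = zB M (secC (w : G)) E.f := by
    rw [hbe, cj_cj_inv]
  refine ⟨b, hb, hmove, fun χ => ?_⟩
  have hsv : IsSec p (v : G) 1 :=
    ⟨exists_orderOf_eq hP v, by simp [hM.1.ne_one], Commute.one_right _⟩
  have hsw : IsSec p (w : G) 1 :=
    ⟨exists_orderOf_eq hP w, by simp [hM.1.ne_one], Commute.one_right _⟩
  have h1 := tau_zB hM hsv (secC_eq (v : G)) hb χ (one_mem _)
  have h2 := tau_zB hM hsw (secC_eq (w : G)) E.blk χ (one_mem _)
  have h3 := tau_conj hM hsv χ g (isBlk_zB (secC (v : G)) hb).idem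
    (isInvElt_mono hsv.secGrp_le_secC (isBlk_zB (secC (v : G)) hb).inZ.inv)
  rw [hmove, hg, mul_one, mul_inv_cancel] at h3
  exact h1.symm.trans (h3.symm.trans h2)

/-- The multiplicities are stable under the stabiliser of the pair. -/
theorem mu_stable {t : G} (ht : t ∈ stabP ((P, z) : Pr (resField M) G)) {v w : P} (hv : v ≠ 1)
    (htw : t * (v : G) * t⁻¹ = (w : G)) (χ : IrrCharacter G) :
    mu D χ w = mu D χ v := by
  classical
  have hw : w ≠ 1 := by
    rintro rfl
    apply hv
    refine Subtype.ext ?_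
    rw [Subgroup.coe_one] at htw ⊢
    calc (v : G) = t⁻¹ * (t * (v : G) * t⁻¹) * t := by group
      _ = 1 := by rw [htw]; group
  obtain ⟨b, hb, hmove, hval⟩ := exists_moved D hM hB hmax hP hreg hw htw
  have h1 : cjP t ((Subgroup.zpowers (v : G), zB M (secC (v : G)) (elemDatum D v hv).f) :
      Pr (resField M) G) = (Subgroup.zpowers (w : G), zB M (secC (w : G)) (elemDatum D w hw).f) := by
    refine eq_of_same_fst hmax.pair ?_ (elemDatum D w hw).below ?_
    · have := (elemDatum D v hv).below.cjT t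
      rwa [cjP_eq_self ht] at this
    · show cjS t (Subgroup.zpowers (v : G)) = Subgroup.zpowers (w : G)
      rw [cjS_zpowers, htw]
  have h2 : cj t (zB M (secC (v : G)) (elemDatum D v hv).f) = cj t (zB M (secC (v : G)) b) :=
    (congrArg Prod.snd h1).trans hmove.symm
  have hbf : b = (elemDatum D v hv).f := zB_injective _ hb (elemDatum D v hv).blk (by
    have h3 := congrArg (cj t⁻¹) h2
    rwa [cj_inv_cj, cj_inv_cj, eq_comm] at h3)
  obtain ⟨θ, hθ⟩ := isPBlock_nonempty (elemDatum D v hv).blk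
  obtain ⟨θ', hθ'⟩ := isPBlock_nonempty (elemDatum D w hw).blk
  have hν : ∀ φ : IrrCharacter G, mu D φ v * (θ : secC (v : G) → ℂ) 1 =
      mu D φ w * (θ' : secC (w : G) → ℂ) 1 := fun φ => by
    rw [← blockPart_one_eq_mu D hM hB hmax hP hreg φ hv hθ,
      ← blockPart_one_eq_mu D hM hB hmax hP hreg φ hw hθ', ← hbf]
    exact hval φ
  -- the degrees agree
  have hd : (charDegree (θ : secC (v : G) → ℂ) : ℂ) = (charDegree (θ' : secC (w : G) → ℂ) : ℂ) := by
    have hn : (Nat.card P : ℂ) ≠ 0 := Nat.cast_ne_zero.2 Nat.card_pos.ne'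
    have hs := sum_mu_self D hM hB hmax hP hreg hv
    have hs' := sum_mu_self D hM hB hmax hP hreg hw
    have e : (Nat.card P : ℂ) * ((θ : secC (v : G) → ℂ) 1 * conj ((θ : secC (v : G) → ℂ) 1)) =
        (Nat.card P : ℂ) * ((θ' : secC (w : G) → ℂ) 1 * conj ((θ' : secC (w : G) → ℂ) 1)) := by
      conv_lhs => rw [← hs]
      conv_rhs => rw [← hs']
      rw [Finset.sum_mul, Finset.sum_mul]
      refine Finset.sum_congr rfl fun φ _ => ?_
      calc mu D φ v * conj (mu D φ v) *
            ((θ : secC (v : G) → ℂ) 1 * conj ((θ : secC (v : G) → ℂ) 1))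
          = (mu D φ v * (θ : secC (v : G) → ℂ) 1) *
              conj (mu D φ v * (θ : secC (v : G) → ℂ) 1) := by rw [map_mul]; ring
        _ = _ := by rw [hν φ, map_mul]; ring
    have e' := mul_left_cancel₀ hn e
    rw [irr_one_eq_charDegree, irr_one_eq_charDegree, Complex.conj_natCast, Complex.conj_natCast]
      at e'
    have e'' : charDegree (θ : secC (v : G) → ℂ) * charDegree (θ : secC (v : G) → ℂ) =
        charDegree (θ' : secC (w : G) → ℂ) * charDegree (θ' : secC (w : G) → ℂ) := by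
      exact_mod_cast e'
    exact_mod_cast Nat.mul_self_inj.1 e''
  have h := hν χ
  rw [irr_one_eq_charDegree, irr_one_eq_charDegree, hd] at h
  exact (mul_right_cancel₀ (Nat.cast_ne_zero.2 (charDegree_pos θ').ne') h).symm

include hPC in
/-- The multiplicities at elements not fused by the stabiliser are orthogonal. -/
theorem sum_mu_ne [DecidablePred (· ∈ B)] {v w : P} (hv : v ≠ 1) (hw : w ≠ 1)
    (hne : ∀ t ∈ stabP ((P, z) : Pr (resField M) G), t * (v : G) * t⁻¹ ≠ (w : G)) :
    ∑ χ ∈ Finset.univ.filter (· ∈ B), mu D χ v * conj (mu D χ w) = 0 := by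
  classical
  obtain ⟨θ, hθ⟩ := isPBlock_nonempty (elemDatum D v hv).blk
  obtain ⟨θ', hθ'⟩ := isPBlock_nonempty (elemDatum D w hw).blk
  refine mul_right_cancel₀ (mul_ne_zero (irr_one_ne_zero θ)
    ((map_ne_zero (starRingEnd ℂ)).2 (irr_one_ne_zero θ'))) ?_
  rw [zero_mul, Finset.sum_mul, Finset.sum_congr rfl fun χ _ => show
    mu D χ v * conj (mu D χ w) *
      ((θ : secC (v : G) → ℂ) 1 * conj ((θ' : secC (w : G) → ℂ) 1)) =
    blockPart (elemDatum D v hv).f (secFun (v : G) (secC (v : G)) (χ : G → ℂ)) 1 *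
      conj (blockPart (elemDatum D w hw).f (secFun (w : G) (secC (w : G)) (χ : G → ℂ)) 1) by
    rw [blockPart_one_eq_mu D hM hB hmax hP hreg χ hv hθ,
      blockPart_one_eq_mu D hM hB hmax hP hreg χ hw hθ', map_mul]
    ring]
  by_cases hcj : IsConj (v : G) (w : G)
  · obtain ⟨g, hg⟩ := isConj_iff.1 hcj
    obtain ⟨b, hb, hmove, hval⟩ := exists_moved D hM hB hmax hP hreg hw hg
    rw [Finset.sum_congr rfl fun χ _ => by rw [← hval χ]]
    refine blockPart_secFun_cross hM (exists_orderOf_eq hP v) (secC_eq (v : G)) hB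
      (elemDatum D v hv).blk hb (fun hbf => ?_) (by simp [hM.1.ne_one]) (by simp [hM.1.ne_one])
    rw [← hbf] at hmove
    have h1 : SubLE p ⊤ (cjP g ((Subgroup.zpowers (v : G),
        zB M (secC (v : G)) (elemDatum D v hv).f) : Pr (resField M) G)) (P, z) := by
      rw [show cjP g ((Subgroup.zpowers (v : G),
          zB M (secC (v : G)) (elemDatum D v hv).f) : Pr (resField M) G) =
          (Subgroup.zpowers (w : G), zB M (secC (w : G)) (elemDatum D w hw).f) from
        Prod.ext (by show cjS g (Subgroup.zpowers (v : G)) = _; rw [cjS_zpowers, hg]) hmove]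
      exact (elemDatum D w hw).below
    obtain ⟨t, ht, htu⟩ := exists_stab_of_fusion hmax (elemDatum D v hv).below h1 hPC
    exact hne t ht ((htu (v : G) (Subgroup.mem_zpowers _)).trans hg)
  · exact blockPart_secFun_nonconj hM (exists_orderOf_eq hP v) (exists_orderOf_eq hP w)
      (secC_eq (v : G)) (secC_eq (w : G)) hB (elemDatum D v hv).blk (elemDatum D w hw).blk hcj
      (by simp [hM.1.ne_one]) (by simp [hM.1.ne_one])

/-- The multiplicities are orthogonal to the regular values. -/
theorem sum_mu_regular [DecidablePred (· ∈ B)] {v : P} (hv : v ≠ 1) {s : G}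
    (hs : ¬ p ∣ orderOf s) :
    ∑ χ ∈ Finset.univ.filter (· ∈ B), mu D χ v * conj ((χ : G → ℂ) s) = 0 := by
  classical
  obtain ⟨θ, hθ⟩ := isPBlock_nonempty (elemDatum D v hv).blk
  have hkey : ∀ w : secC (v : G), ¬ p ∣ orderOf w →
      blockPair B ((v : G) * (w : G)) s = 0 := by
    intro w hw
    have hsec : IsSec p (v : G) (w : G) :=
      ⟨exists_orderOf_eq hP v, by rwa [Subgroup.orderOf_coe], (mem_secC.1 w.2).symm⟩
    exact blockPair_eq_zero_of_pPart hM hB hsec.isPPart ((isPPart_one_iff hM.1).2 hs) fun h =>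
      hv (Subtype.ext (isConj_one_right.1 h.symm))
  refine mul_right_cancel₀ (irr_one_ne_zero θ) ?_
  rw [zero_mul, Finset.sum_mul, Finset.sum_congr rfl fun χ _ => show
    mu D χ v * conj ((χ : G → ℂ) s) * (θ : secC (v : G) → ℂ) 1 =
      blockPart (elemDatum D v hv).f (secFun (v : G) (secC (v : G)) (χ : G → ℂ)) 1 *
        conj ((χ : G → ℂ) s) by
    rw [blockPart_one_eq_mu D hM hB hmax hP hreg χ hv hθ]; ring]
  simp only [blockPart_eq_pair, Finset.mul_sum, Finset.sum_mul]
  rw [Finset.sum_comm]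
  refine Finset.sum_eq_zero fun w _ => ?_
  by_cases hw : p ∣ orderOf w
  · refine Finset.sum_eq_zero fun χ _ => ?_
    rw [blockPair_regular_singular hM (elemDatum D v hv).blk (by simp [hM.1.ne_one]) hw]
    ring
  · have h0 := hkey w hw
    unfold blockPair at h0
    refine Eq.trans (Finset.sum_congr rfl (g := fun χ : IrrCharacter G =>
      (Nat.card (secC (v : G)) : ℂ)⁻¹ * blockPair (elemDatum D v hv).f 1 w *
        ((χ : G → ℂ) ((v : G) * (w : G)) * conj ((χ : G → ℂ) s))) fun χ _ => ?_) ?_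
    · simp only [secFun]; ring
    rw [← Finset.mul_sum]
    refine mul_eq_zero_of_right _ (Eq.trans ?_ h0)
    exact Finset.sum_congr (by ext; simp) fun _ _ => rfl

include hPC in
/-- No character of the block has all multiplicities zero. -/
theorem exists_mu_ne {χ : IrrCharacter G} (hχ : χ ∈ B) (hP1 : P ≠ ⊥) :
    ∃ v : P, v ≠ 1 ∧ mu D χ v ≠ 0 := by
  classical
  obtain ⟨v, hv⟩ : ∃ v : P, v ≠ 1 := by
    by_contra hcon
    push Not at hcon
    exact hP1 ((Subgroup.eq_bot_iff_forall P).2 fun x hx => congrArg Subtype.val (hcon ⟨x, hx⟩))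
  refine ⟨v, hv, ?_⟩
  obtain ⟨b, hb, hle, s, hs, hne⟩ :=
    exists_central_subsection hM hB hmax v.2 (hPC v.2) hχ
  have hbf : b = (elemDatum D v hv).f := zB_injective _ hb (elemDatum D v hv).blk
    (congrArg Prod.snd (eq_of_same_fst hmax.pair hle (elemDatum D v hv).below rfl))
  subst hbf
  obtain ⟨θ, hθ⟩ := isPBlock_nonempty (elemDatum D v hv).blk
  rw [blockPart_eq_muF (elemDatum_reg D hM hB hmax hP hreg hv) hθ _ hs, ← mu_eq D χ hv] at hne
  exact fun h => hne (by rw [h, zero_mul])

end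

end Cfsg.Agent.Abelian
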