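/-
Integral rows attached to a family of functions on an abelian group, stable under a freely acting
group of automorphisms and orthogonal off its orbits.
-/
import Cfsg.Agent.Lib.Star.Abelian.CharRing

set_option linter.unusedSectionVars false
set_option linter.style.haveILetI false

namespace Cfsg.Agent.Abelian

open Cfsg Cfsg.Agent.Char Cfsg.Agent.Blocks
open scoped ComplexConjugate

universe u w

variable {A : Type u} [CommGroup A] [Fintype A]

/-- Two characters agree when no nontrivial element separates them. -/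
theorem exists_lin_ne_one {v : A} (hv : v ≠ 1) : ∃ l : A →* ℂˣ, l v ≠ 1 :=
  CommGroup.exists_apply_ne_one_of_hasEnoughRootsOfUnity A ℂ hv

/-- The sum of all linear characters vanishes off the identity. -/
theorem sum_lin_dual [Fintype (A →* ℂˣ)] {v : A} (hv : v ≠ 1) :
    ∑ l : A →* ℂˣ, (l v : ℂ) = 0 := by
  obtain ⟨m, hm⟩ := exists_lin_ne_one hv
  have he : (m v : ℂ) * ∑ l : A →* ℂˣ, (l v : ℂ) = ∑ l : A →* ℂˣ, (l v : ℂ) := by
    rw [Finset.mul_sum]
    exact Fintype.sum_equiv (Equiv.mulLeft m) _ _ fun l => by simp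
  refine (mul_eq_zero.1 (?_ : ((m v : ℂ) - 1) * ∑ l : A →* ℂˣ, (l v : ℂ) = 0)).resolve_left
    (sub_ne_zero.2 fun h => hm (Units.ext h))
  rw [sub_mul, he, one_mul, sub_self]

/-- A group of automorphisms without fixed points acts without fixed points on the characters. -/
theorem eq_one_of_fix_lin {Γ : Subgroup (MulAut A)} (hfree : ∀ τ ∈ Γ, ∀ v, τ v = v → v ≠ 1 → τ = 1)
    {τ : MulAut A} (hτ : τ ∈ Γ) (hτ1 : τ ≠ 1) {l : A →* ℂˣ} (hl : ∀ v, l (τ v) = l v) : l = 1 := by
  let f : A →* A := τ.toMonoidHom * (MonoidHom.id A)⁻¹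
  have hinj : Function.Injective f := by
    rw [← MonoidHom.ker_eq_bot_iff, Subgroup.eq_bot_iff_forall]
    intro v hv
    by_contra hv1
    rw [MonoidHom.mem_ker] at hv
    exact hτ1 (hfree τ hτ v (mul_inv_eq_one.1 hv) hv1)
  refine MonoidHom.ext fun v => ?_
  obtain ⟨w, rfl⟩ := (Finite.injective_iff_surjective.1 hinj) v
  show l (τ w * w⁻¹) = 1
  rw [map_mul, hl, map_inv, mul_inv_cancel]

/-- Representatives of the orbits of a group of automorphisms on the nontrivial linear
characters. -/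
structure Orbits {A : Type u} [Group A] (Γ : Subgroup (MulAut A)) (m : ℕ) where
  /-- The representatives. -/
  rep : Fin m → A →* ℂˣ
  ne : ∀ i, rep i ≠ 1
  uniq : ∀ i i' (τ : Γ), (∀ v, rep i (τ.1 v) = rep i' v) → i = i'
  cover : ∀ l : A →* ℂˣ, l ≠ 1 → ∃ i, ∃ τ : Γ, ∀ v, rep i (τ.1 v) = l v

open scoped Classical in
/-- The orbit sums. -/
noncomputable def Orbits.eta {A : Type u} [Group A] [Fintype A] {Γ : Subgroup (MulAut A)} {m : ℕ}
    (o : Orbits Γ m) (i : Fin m) (v : A) : ℂ :=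
  ∑ τ : Γ, (o.rep i (τ.1 v) : ℂ)

open scoped Classical in
/-- Representatives exist, and their number is determined. -/
theorem exists_orbits (Γ : Subgroup (MulAut A))
    (hfree : ∀ τ ∈ Γ, ∀ v, τ v = v → v ≠ 1 → τ = 1) :
    ∃ m : ℕ, m * Nat.card Γ + 1 = Nat.card A ∧ Nonempty (Orbits Γ m) := by
  haveI : Fintype (A →* ℂˣ) := Fintype.ofFinite _
  haveI : Fintype Γ := Fintype.ofFinite _
  -- the orbits
  let X := {l : A →* ℂˣ // l ≠ 1}
  let act : Γ → X → X := fun τ l => ⟨l.1.comp τ.1.toMonoidHom, fun h => l.2 (MonoidHom.ext fun v => by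
    have := DFunLike.congr_fun h (τ.1.symm v)
    simpa using this)⟩
  have hact_inj : ∀ l : X, Function.Injective fun τ : Γ => act τ l := by
    intro l τ τ' h
    have h' : ∀ v, l.1 (τ.1 v) = l.1 (τ'.1 v) := fun v =>
      DFunLike.congr_fun (congrArg Subtype.val h) v
    by_contra hne'
    refine l.2 (eq_one_of_fix_lin hfree (τ := τ.1 * τ'.1⁻¹) (Γ.mul_mem τ.2 (Γ.inv_mem τ'.2))
      (fun e => hne' (Subtype.ext (mul_inv_eq_one.1 e))) fun v => ?_)
    show l.1 (τ.1 (τ'.1.symm v)) = l.1 v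
    rw [h', MulEquiv.apply_symm_apply]
  let st : Setoid X := ⟨fun l l' => ∃ τ : Γ, act τ l = l', ⟨fun l => ⟨1, Subtype.ext rfl⟩,
    fun {l l'} h => by
      obtain ⟨τ, rfl⟩ := h
      refine ⟨τ⁻¹, Subtype.ext (MonoidHom.ext fun v => ?_)⟩
      show l.1 (τ.1 (τ.1⁻¹ v)) = l.1 v
      rw [MulAut.apply_inv_self],
    fun {a b c} h h' => by
      obtain ⟨τ, rfl⟩ := h
      obtain ⟨τ', rfl⟩ := h'
      exact ⟨τ * τ', Subtype.ext rfl⟩⟩⟩
  haveI : Fintype (Quotient st) := Fintype.ofFinite _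
  let eqv := Fintype.equivFin (Quotient st)
  let rep : Fin (Fintype.card (Quotient st)) → A →* ℂˣ := fun i => ((eqv.symm i).out).1
  have hrep : ∀ i, rep i ≠ 1 := fun i => ((eqv.symm i).out).2
  have hrepe : ∀ i i' (τ : Γ), (∀ v, rep i (τ.1 v) = rep i' v) → i = i' := by
    intro i i' τ h
    refine eqv.symm.injective ?_
    rw [← Quotient.out_eq (eqv.symm i), ← Quotient.out_eq (eqv.symm i')]
    exact Quotient.sound ⟨τ, Subtype.ext (MonoidHom.ext h)⟩
  have hcover : ∀ l : A →* ℂˣ, l ≠ 1 → ∃ i, ∃ τ : Γ, ∀ v, rep i (τ.1 v) = l v := by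
    intro l hl
    obtain ⟨τ, hτ⟩ := Quotient.exact (Quotient.out_eq (Quotient.mk st (⟨l, hl⟩ : X)))
    refine ⟨eqv (Quotient.mk st ⟨l, hl⟩), τ, fun v => ?_⟩
    simp only [rep, Equiv.symm_apply_apply]
    exact DFunLike.congr_fun (congrArg Subtype.val hτ) v
  have hcard : Fintype.card (Quotient st) * Nat.card Γ + 1 = Nat.card A := by
    have h1 : Fintype.card X = Fintype.card (Quotient st) * Nat.card Γ := by
      rw [← Finset.card_univ, Finset.card_eq_sum_card_fiberwise
        (t := Finset.univ) (f := fun l : X => Quotient.mk st l) (fun _ _ => Finset.mem_univ _),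
        Finset.sum_congr rfl fun q _ => ?_, Finset.sum_const, smul_eq_mul, Finset.card_univ]
      rw [Nat.card_eq_fintype_card, ← Finset.card_univ]
      refine (Finset.card_bij (fun τ _ => act τ q.out) (fun τ _ => ?_)
        (fun τ _ τ' _ h => hact_inj q.out h) fun l hl => ?_).symm
      · refine Finset.mem_filter.2 ⟨Finset.mem_univ _, ?_⟩
        conv_rhs => rw [← Quotient.out_eq q]
        exact (Quotient.sound (show q.out ≈ act τ q.out from ⟨τ, rfl⟩)).symm
      · obtain ⟨τ, hτ⟩ := Quotient.exact (((Quotient.out_eq q).trans (Finset.mem_filter.1 hl).2.symm))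
        exact ⟨τ, Finset.mem_univ _, hτ⟩
    have h2 : Fintype.card X + 1 = Nat.card A := by
      rw [← CommGroup.card_monoidHom_of_hasEnoughRootsOfUnity A ℂ, Nat.card_eq_fintype_card,
        Fintype.card_subtype_compl, Fintype.card_subtype_eq]
      have : 0 < Fintype.card (A →* ℂˣ) := Fintype.card_pos
      omega
    omega
  exact ⟨_, hcard, ⟨⟨rep, hrep, hrepe, hcover⟩⟩⟩

open scoped Classical in
/-- The rows along given representatives. -/
theorem exists_rows_orbits {β : Type w} [Fintype β] (Γ : Subgroup (MulAut A))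
    (hfree : ∀ τ ∈ Γ, ∀ v, τ v = v → v ≠ 1 → τ = 1) {m : ℕ} (o : Orbits Γ m) (F : β → A → ℂ)
    (hgen : ∀ b, ∃ H : A → ℂ, IsGeneralizedCharacter A H ∧ ∀ v, v ≠ 1 → H v = F b v)
    (hstab : ∀ b, ∀ τ ∈ Γ, ∀ v, v ≠ 1 → F b (τ v) = F b v)
    (horth : ∀ v w : A, v ≠ 1 → w ≠ 1 → ∑ b, F b v * conj (F b w) =
      if ∃ τ ∈ Γ, τ v = w then (Nat.card A : ℂ) else 0)
    (hne : ∀ b, ∃ v, v ≠ 1 ∧ F b v ≠ 0) :
    ∃ x : β → Fin m → ℤ,
      (∀ i i', ∑ b, x b i * x b i' = (if i = i' then 1 else 0) + (Nat.card Γ : ℤ)) ∧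
      (∀ b, ∃ i, x b i ≠ 0) ∧
      (∀ g : β → ℂ, (∀ v, v ≠ 1 → ∑ b, F b v * conj (g b) = 0) →
        ∀ i, ∑ b, (x b i : ℂ) * g b = 0) ∧
      ∀ b v, v ≠ 1 → F b v = ∑ i, (x b i : ℂ) * o.eta i v := by
  haveI : Fintype (A →* ℂˣ) := Fintype.ofFinite _
  set n : ℂ := (Nat.card A : ℂ) with hn
  have hn0 : n ≠ 0 := Nat.cast_ne_zero.2 Nat.card_pos.ne'
  choose H hH hHF using hgen
  let rep := o.rep
  have hrep := o.ne
  have hrepe := o.uniq
  have hcover := o.cover
  -- the integers
  choose co hco using fun b => fun ψ : IrrCharacter A =>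
    (show ∃ z : ℤ, classInner (H b) (ψ : A → ℂ) = z from by
      obtain ⟨c, -, hc⟩ := IsGeneralizedCharacter.exists_coeff (hH b)
      exact ⟨c ψ, hc ψ⟩)
  let x : β → Fin m → ℤ :=
    fun b i => co b (linIrr (rep i)) - co b (linIrr 1)
  let a : (A →* ℂˣ) → A → ℂ := fun l v => conj (l v : ℂ) - 1
  have ha1 : ∀ l, a l 1 = 0 := fun l => by simp [a]
  let S : Finset A := Finset.univ.filter fun v => v ≠ 1
  have hdiff : ∀ b (l : A →* ℂˣ), ((co b (linIrr l) : ℤ) : ℂ) - (co b (linIrr 1) : ℂ) =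
      n⁻¹ * ∑ v ∈ S, F b v * a l v := by
    intro b l
    rw [← hco, ← hco, classInner, classInner, ← mul_sub, ← Finset.sum_sub_distrib]
    congr 1
    rw [Finset.sum_filter]
    refine Finset.sum_congr rfl fun v _ => ?_
    simp only [linIrr_apply, MonoidHom.one_apply, Units.val_one, map_one, mul_one, a]
    split_ifs with hv
    · rw [hHF b v hv]; ring
    · rw [not_not] at hv
      rw [hv, map_one, Units.val_one, map_one]; ring
  have hx : ∀ b i, (x b i : ℂ) = n⁻¹ * ∑ v ∈ S, F b v * a (rep i) v := fun b i => by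
    simp only [x, Int.cast_sub]
    exact hdiff b (rep i)
  have hxr : ∀ b i, conj (x b i : ℂ) = (x b i : ℂ) := fun b i => map_intCast _ _
  have hτS : ∀ (τ : Γ) v, v ∈ S → τ.1 v ∈ S := fun τ v hv =>
    Finset.mem_filter.2 ⟨Finset.mem_univ _, fun h =>
      (Finset.mem_filter.1 hv).2 (τ.1.injective (h.trans (map_one τ.1).symm))⟩
  have hxτ : ∀ b i (τ : Γ) (l : A →* ℂˣ), (∀ v, rep i (τ.1 v) = l v) →
      ((co b (linIrr l) : ℤ) : ℂ) - (co b (linIrr 1) : ℂ) = (x b i : ℂ) := by
    intro b i τ l hτ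
    rw [hdiff, hx]
    congr 1
    refine Finset.sum_nbij' (fun v => τ.1 v) (fun v => τ.1.symm v) (hτS τ)
      (fun w hw => Finset.mem_filter.2 ⟨Finset.mem_univ _, fun h => (Finset.mem_filter.1 hw).2
        (τ.1.symm.injective (h.trans (map_one τ.1.symm).symm))⟩)
      (fun v _ => τ.1.symm_apply_apply v) (fun v _ => τ.1.apply_symm_apply v) fun v hv => ?_
    rw [hstab b τ.1 τ.2 v (Finset.mem_filter.1 hv).2]
    simp only [a]
    rw [← hτ v]
  refine ⟨x, fun i i' => ?_, fun b => ?_, fun g hg i => ?_, fun b v hv => ?_⟩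
  · have hK : ∀ v ∈ S, ∀ w ∈ S, ∑ b, F b v * conj (F b w) =
        ∑ τ : Γ, if τ.1 v = w then n else 0 := by
      intro v hv w hw
      rw [horth v w (Finset.mem_filter.1 hv).2 (Finset.mem_filter.1 hw).2]
      split_ifs with h
      · obtain ⟨τ, hτ, hτv⟩ := h
        rw [Finset.sum_eq_single (⟨τ, hτ⟩ : Γ), if_pos hτv]
        · intro τ' _ hne'
          refine if_neg fun h' => hne' (Subtype.ext ?_)
          refine (inv_mul_eq_one.1 (hfree _ (Γ.mul_mem (Γ.inv_mem hτ) τ'.2) v ?_
            (Finset.mem_filter.1 hv).2)).symm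
          show τ⁻¹ (τ'.1 v) = v
          rw [h', ← hτv, MulAut.inv_apply_self]
        · exact fun h' => absurd (Finset.mem_univ _) h'
      · exact (Finset.sum_eq_zero fun τ _ => if_neg fun h' => h ⟨τ.1, τ.2, h'⟩).symm
    have hpair : ∀ τ : Γ, ∑ v, a (rep i) v * conj (a (rep i') (τ.1 v)) =
        n * ((if (∀ v, rep i' (τ.1 v) = rep i v) then 1 else 0) + 1) := by
      intro τ
      set l' := (rep i').comp τ.1.toMonoidHom with hl'
      have hl1 : l' ≠ 1 := fun h => hrep i' (MonoidHom.ext fun v => by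
        have := DFunLike.congr_fun h (τ.1.symm v)
        simpa [hl'] using this)
      have e : ∀ v, a (rep i) v * conj (a (rep i') (τ.1 v)) =
          (((rep i)⁻¹ * l') v : ℂ) - ((rep i)⁻¹ v : ℂ) - (l' v : ℂ) + 1 := by
        intro v
        simp only [a, map_sub, map_one, Complex.conj_conj]
        rw [conj_lin, map_inv]
        simp only [MonoidHom.mul_apply, Units.val_mul, MonoidHom.inv_apply, hl',
          MonoidHom.comp_apply, MulEquiv.coe_toMonoidHom]
        ring
      rw [Finset.sum_congr rfl fun v _ => e v, Finset.sum_add_distrib, Finset.sum_sub_distrib,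
        Finset.sum_sub_distrib, sum_lin, sum_lin, sum_lin, if_neg hl1,
        if_neg (show ¬ (rep i)⁻¹ = 1 from fun h =>
          hrep i (MonoidHom.ext fun v => inv_eq_one.1 (DFunLike.congr_fun h v))), Finset.sum_const, Finset.card_univ,
        nsmul_one, ← Nat.card_eq_fintype_card]
      have hiff : (rep i)⁻¹ * l' = 1 ↔ ∀ v, rep i' (τ.1 v) = rep i v := by
        refine ⟨fun h v => ?_, fun h => MonoidHom.ext fun v => ?_⟩
        · have h1 : (rep i v)⁻¹ * rep i' (τ.1 v) = 1 := DFunLike.congr_fun h v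
          exact (inv_mul_eq_one.1 h1).symm
        · show (rep i v)⁻¹ * rep i' (τ.1 v) = 1
          rw [h v, inv_mul_cancel]
      by_cases h : ∀ v, rep i' (τ.1 v) = rep i v
      · rw [if_pos (hiff.2 h), if_pos h, hn]; ring
      · rw [if_neg (fun e => h (hiff.1 e)), if_neg h, hn]; ring
    have key : ((∑ b, x b i * x b i' : ℤ) : ℂ) =
        ((((if i = i' then 1 else 0) + (Nat.card Γ : ℤ) : ℤ)) : ℂ) := by
      push_cast
      calc ∑ b, (x b i : ℂ) * (x b i' : ℂ)
          = ∑ b, (n⁻¹ * ∑ v ∈ S, F b v * a (rep i) v) *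
              conj (n⁻¹ * ∑ w ∈ S, F b w * a (rep i') w) :=
            Finset.sum_congr rfl fun b _ => by rw [← hx, ← hx, hxr]
        _ = n⁻¹ * n⁻¹ * ∑ v ∈ S, ∑ w ∈ S, a (rep i) v * conj (a (rep i') w) *
              ∑ b, F b v * conj (F b w) := by
            simp only [map_mul, map_inv₀, hn, map_natCast, map_sum, Finset.mul_sum,
              Finset.sum_mul]
            rw [Finset.sum_comm]
            conv_rhs => rw [Finset.sum_comm]
            refine Finset.sum_congr rfl fun w _ => ?_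
            rw [Finset.sum_comm]
            exact Finset.sum_congr rfl fun v _ => Finset.sum_congr rfl fun b _ => by ring
        _ = n⁻¹ * n⁻¹ * ∑ τ : Γ, ∑ v, n * (a (rep i) v * conj (a (rep i') (τ.1 v))) := by
            congr 1
            rw [Finset.sum_congr rfl fun v hv => Finset.sum_congr rfl fun w hw => by
              rw [hK v hv w hw, Finset.mul_sum], Finset.sum_congr rfl fun v _ => Finset.sum_comm,
              Finset.sum_comm]
            refine Finset.sum_congr rfl fun τ _ => ?_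
            rw [← Finset.sum_subset (Finset.subset_univ S) fun v _ hv => by
              rw [show v = 1 from not_not.1 fun h => hv (Finset.mem_filter.2 ⟨Finset.mem_univ _, h⟩),
                ha1, zero_mul, mul_zero]]
            refine Finset.sum_congr rfl fun v hv => ?_
            rw [Finset.sum_eq_single (τ.1 v) (fun w _ hw => by rw [if_neg (Ne.symm hw), mul_zero])
              (fun h => absurd (hτS τ v hv) h), if_pos rfl]
            ring
        _ = ∑ τ : Γ, ((if (∀ v, rep i' (τ.1 v) = rep i v) then 1 else 0) + 1) := by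
            simp only [← Finset.mul_sum, hpair]
            rw [← mul_assoc, ← mul_assoc]
            field_simp
        _ = _ := by
            rw [Finset.sum_add_distrib, Finset.sum_const, Finset.card_univ, nsmul_one,
              ← Nat.card_eq_fintype_card]
            congr 1
            split_ifs with hii
            · subst hii
              rw [Finset.sum_eq_single (1 : Γ),
                if_pos (show ∀ v, rep i ((1 : Γ).1 v) = rep i v from fun v => rfl)]
              · intro τ _ hτ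
                refine if_neg fun h => hrep i (eq_one_of_fix_lin hfree τ.2
                  (fun e => hτ (Subtype.ext e)) h)
              · exact fun h => absurd (Finset.mem_univ _) h
            · exact Finset.sum_eq_zero fun τ _ => if_neg fun h => hii (hrepe i' i τ h).symm
    exact_mod_cast key
  · by_contra hzero
    push Not at hzero
    obtain ⟨v, hv, hFv⟩ := hne b
    apply hFv
    have hconst : ∀ l : A →* ℂˣ, co b (linIrr l) = co b (linIrr 1) := by
      intro l
      by_cases hl : l = 1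
      · rw [hl]
      obtain ⟨i, τ, hτ⟩ := hcover l hl
      have h1 := hxτ b i τ l hτ
      rw [hzero i, Int.cast_zero, sub_eq_zero] at h1
      exact_mod_cast h1
    obtain ⟨c, hc, hc'⟩ := IsGeneralizedCharacter.exists_coeff (hH b)
    rw [← hHF b v hv, hc, Finset.sum_apply,
      ← Fintype.sum_bijective linIrr linIrr_bijective (fun l : A →* ℂˣ =>
        (c (linIrr l) : ℂ) * (l v : ℂ)) _ (fun l => by simp)]
    rw [Finset.sum_congr rfl fun l _ => show (c (linIrr l) : ℂ) * (l v : ℂ) =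
      (co b (linIrr 1) : ℂ) * (l v : ℂ) by
        rw [← hc', hco, hconst l], ← Finset.mul_sum, sum_lin_dual hv, mul_zero]
  · refine (map_eq_zero (starRingEnd ℂ)).1 ?_
    rw [map_sum, Finset.sum_congr rfl fun b _ => show conj ((x b i : ℂ) * g b) =
      (n⁻¹ * ∑ v ∈ S, F b v * a (rep i) v) * conj (g b) by rw [map_mul, hxr, hx b i]]
    simp only [Finset.mul_sum, Finset.sum_mul]
    rw [Finset.sum_comm]
    refine Finset.sum_eq_zero fun v hv => ?_
    rw [Finset.sum_congr rfl fun b _ => show n⁻¹ * (F b v * a (rep i) v) * conj (g b) =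
      n⁻¹ * a (rep i) v * (F b v * conj (g b)) by ring, ← Finset.mul_sum,
      hg v (Finset.mem_filter.1 hv).2, mul_zero]
  · obtain ⟨c, hc, hc'⟩ := IsGeneralizedCharacter.exists_coeff (hH b)
    rw [← hHF b v hv, hc, Finset.sum_apply,
      ← Fintype.sum_bijective linIrr linIrr_bijective (fun l : A →* ℂˣ =>
        (co b (linIrr l) : ℂ) * (l v : ℂ)) _ (fun l => by simp [← hc', hco])]
    have e : ∑ l : A →* ℂˣ, (co b (linIrr l) : ℂ) * (l v : ℂ) =
        ∑ l ∈ Finset.univ.filter (fun l : A →* ℂˣ => l ≠ 1),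
          ((co b (linIrr l) : ℂ) - (co b (linIrr 1) : ℂ)) * (l v : ℂ) := by
      rw [Finset.filter_ne', Finset.sum_erase _ (by rw [sub_self, zero_mul])]
      simp only [sub_mul, Finset.sum_sub_distrib, ← Finset.mul_sum, sum_lin_dual hv, mul_zero,
        sub_zero]
    rw [e]
    simp only [Orbits.eta, Finset.mul_sum]
    rw [← Fintype.sum_prod_type' (f := fun i (τ : Γ) => (x b i : ℂ) * (o.rep i (τ.1 v) : ℂ))]
    refine (Finset.sum_bij (fun iτ _ => (rep iτ.1).comp iτ.2.1.toMonoidHom) (fun iτ _ => ?_)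
      (fun iτ _ iτ' _ h => ?_) (fun l hl => ?_) fun iτ _ => ?_).symm
    · refine Finset.mem_filter.2 ⟨Finset.mem_univ _, fun h => hrep iτ.1 (MonoidHom.ext fun w => ?_)⟩
      have := DFunLike.congr_fun h (iτ.2.1.symm w)
      simpa using this
    · obtain ⟨i, τ⟩ := iτ
      obtain ⟨i', τ'⟩ := iτ'
      have h' : ∀ w, rep i (τ.1 w) = rep i' (τ'.1 w) := fun w => DFunLike.congr_fun h w
      have key : ∀ w, rep i ((τ * τ'⁻¹).1 w) = rep i' w := fun w => by
        show rep i (τ.1 (τ'.1⁻¹ w)) = rep i' w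
        rw [h', MulAut.apply_inv_self]
      obtain rfl := hrepe i i' (τ * τ'⁻¹) key
      by_contra hne'
      refine hrep i (eq_one_of_fix_lin hfree (τ * τ'⁻¹).2 (fun e => hne' ?_) key)
      rw [show τ = τ' from mul_inv_eq_one.1 (Subtype.ext e)]
    · obtain ⟨i, τ, hτ⟩ := hcover l (Finset.mem_filter.1 hl).2
      exact ⟨(i, τ), Finset.mem_univ _, MonoidHom.ext hτ⟩
    · obtain ⟨i, τ⟩ := iτ
      show (x b i : ℂ) * _ = _
      rw [hxτ b i τ _ fun w => rfl]
      rfl

open scoped Classical in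
/-- The rows. -/
theorem exists_rows {β : Type w} [Fintype β] (Γ : Subgroup (MulAut A))
    (hfree : ∀ τ ∈ Γ, ∀ v, τ v = v → v ≠ 1 → τ = 1) (F : β → A → ℂ)
    (hgen : ∀ b, ∃ H : A → ℂ, IsGeneralizedCharacter A H ∧ ∀ v, v ≠ 1 → H v = F b v)
    (hstab : ∀ b, ∀ τ ∈ Γ, ∀ v, v ≠ 1 → F b (τ v) = F b v)
    (horth : ∀ v w : A, v ≠ 1 → w ≠ 1 → ∑ b, F b v * conj (F b w) =
      if ∃ τ ∈ Γ, τ v = w then (Nat.card A : ℂ) else 0)
    (hne : ∀ b, ∃ v, v ≠ 1 ∧ F b v ≠ 0) :
    ∃ (m : ℕ) (x : β → Fin m → ℤ), m * Nat.card Γ + 1 = Nat.card A ∧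
      (∀ i i', ∑ b, x b i * x b i' = (if i = i' then 1 else 0) + (Nat.card Γ : ℤ)) ∧
      (∀ b, ∃ i, x b i ≠ 0) ∧
      ∀ g : β → ℂ, (∀ v, v ≠ 1 → ∑ b, F b v * conj (g b) = 0) →
        ∀ i, ∑ b, (x b i : ℂ) * g b = 0 := by
  obtain ⟨m, hm, ⟨o⟩⟩ := exists_orbits Γ hfree
  obtain ⟨x, h1, h2, h3, -⟩ := exists_rows_orbits Γ hfree o F hgen hstab horth hne
  exact ⟨m, x, hm, h1, h2, h3⟩

end Cfsg.Agent.Abelian
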