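/-
The combination of the characters of a block by their multiplicities at a nontrivial element of the
defect group is divisible by the order of either centraliser.
-/
import Cfsg.Agent.Lib.Star.Abelian.Global
import Cfsg.Agent.Lib.Blocks.KleinSigns

set_option linter.unusedSectionVars false
set_option linter.style.haveILetI false

namespace Cfsg.Agent.Abelian

open Cfsg MonoidAlgebra Cfsg.Agent.Blocks Cfsg.Agent.BrauerPairs Cfsg.Agent.Char Cfsg.Agent.Star
open scoped ComplexConjugate

universe u

variable {G : Type u} [Group G] [Fintype G] {p : ℕ} [Fact p.Prime] {M : Ideal AlgInt} [M.IsPrime]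
  {B : Set (IrrCharacter G)} {P : Subgroup G} {z j : MonoidAlgebra (resField M) G}

/-- The centraliser of a section inside the centraliser of its `p`-part. -/
theorem card_centralizer_section {v : G} (hv : ∃ i, orderOf v = p ^ i) {a : secC v}
    (ha : ¬ p ∣ orderOf a) :
    Nat.card (Subgroup.centralizer ({v * (a : G)} : Set G)) =
      Nat.card (Subgroup.centralizer ({a} : Set (secC v))) := by
  have hsec : IsSec p v (a : G) :=
    ⟨hv, by rwa [Subgroup.orderOf_coe], (mem_secC.1 a.2).symm⟩
  have hmem : ∀ x ∈ Subgroup.centralizer ({v * (a : G)} : Set G), x * v = v * x := by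
    intro x hx
    have h := Subgroup.mem_centralizer_singleton_iff.1 hx
    have h1 : x * (v * (a : G)) * x⁻¹ = v * (a : G) := by rw [h, mul_inv_cancel_right]
    have h2 := congrArg (pp p) h1
    rw [pp_conj, hsec.pp_eq] at h2
    exact mul_inv_eq_iff_eq_mul.1 h2
  refine Nat.card_congr
    { toFun := fun x => ⟨⟨x, mem_secC.2 (hmem x x.2)⟩, Subgroup.mem_centralizer_singleton_iff.2
        (Subtype.ext ?_)⟩
      invFun := fun w => ⟨(w : secC v), Subgroup.mem_centralizer_singleton_iff.2 ?_⟩
      left_inv := fun x => rfl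
      right_inv := fun w => rfl }
  · have h := Subgroup.mem_centralizer_singleton_iff.1 x.2
    show (x : G) * (a : G) = (a : G) * (x : G)
    rw [← mul_assoc, hmem x x.2, mul_assoc, mul_assoc] at h
    exact mul_left_cancel h
  · have h1 : ((w : secC v) : G) * v = v * ((w : secC v) : G) := mem_secC.1 (w : secC v).2
    have h2 : ((w : secC v) : G) * (a : G) = (a : G) * ((w : secC v) : G) :=
      congrArg Subtype.val (Subgroup.mem_centralizer_singleton_iff.1 w.2)
    rw [← mul_assoc, h1, mul_assoc, h2, ← mul_assoc]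

/-- The inverse has the same centraliser. -/
theorem card_centralizer_inv {H : Type u} [Group H] (a : H) :
    Nat.card (Subgroup.centralizer ({a⁻¹} : Set H)) =
      Nat.card (Subgroup.centralizer ({a} : Set H)) := by
  rw [show Subgroup.centralizer ({a⁻¹} : Set H) = Subgroup.centralizer ({a} : Set H) from ?_]
  refine Subgroup.ext fun x => ?_
  rw [Subgroup.mem_centralizer_singleton_iff, Subgroup.mem_centralizer_singleton_iff]
  exact ⟨fun h => by simpa using (Commute.inv_right (h : Commute x a⁻¹)).eq,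
    fun h => (Commute.inv_right (h : Commute x a)).eq⟩

theorem blockPair_inv (B : Set (IrrCharacter G)) (x z : G) :
    blockPair B x z = blockPair B z⁻¹ x⁻¹ := by
  classical
  unfold blockPair
  exact Finset.sum_congr rfl fun χ _ => by rw [← irr_inv χ z, ← irr_inv χ x⁻¹, inv_inv, mul_comm]

theorem blockPair_conjugate (B : Set (IrrCharacter G)) (x y z : G) :
    blockPair B (y * x * y⁻¹) z = blockPair B x z := by
  classical
  unfold blockPair
  exact Finset.sum_congr rfl fun χ _ => by rw [irr_conj_invariant]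

section

variable (D : LocFamily p M P z j) (hM : IsPModular p M) (hB : IsPBlock M B)
  (hmax : IsMax p (Ek M B) ((P, z) : Pr (resField M) G)) (hP : IsPGroup p P)
  (hreg : ∀ (X : Subgroup G) (f : Set (IrrCharacter (CX X))), X ≤ P → X ≠ ⊥ → IsPBlock M f →
    SubLE p ⊤ ((X, zB M (CX X) f) : Pr (resField M) G) (P, z) →
    ∀ θ ∈ f, ∀ θ' ∈ f, ∀ w : CX X, ¬ p ∣ orderOf w →
      (θ : CX X → ℂ) w = (θ' : CX X → ℂ) w)

variable [CharP (resField M) p]

include hM hB hmax hP hreg

/-- The combination by the multiplicities is divisible by the orders of both centralisers. -/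
theorem sum_mu_div [DecidablePred (· ∈ B)] {v : P} (hv : v ≠ 1) (g : G) :
    MemLocalRing M ((∑ χ ∈ Finset.univ.filter (· ∈ B), mu D χ v * (χ : G → ℂ) g) /
        (Nat.card (Subgroup.centralizer ({g} : Set G)) : ℂ)) ∧
      MemLocalRing M ((∑ χ ∈ Finset.univ.filter (· ∈ B), mu D χ v * (χ : G → ℂ) g) /
        (Nat.card P : ℂ)) := by
  classical
  set f := (elemDatum D v hv).f with hf
  have hfb : IsPBlock M f := (elemDatum D v hv).blk
  obtain ⟨θ, hθ⟩ := isPBlock_nonempty hfb
  have hr := elemDatum_reg D hM hB hmax hP hreg hv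
  haveI : Finite (ConjClasses (secC (v : G))) :=
    Finite.of_surjective _ ConjClasses.mk_surjective
  haveI : Fintype (ConjClasses (secC (v : G))) := Fintype.ofFinite _
  let Ψ : secC (v : G) → ℂ := fun a =>
    ∑ ψ ∈ Finset.univ.filter (· ∈ f), (ψ : secC (v : G) → ℂ) a
  have hone : ¬ p ∣ orderOf (1 : secC (v : G)) := by simp [hM.1.ne_one]
  have hΨsing : ∀ a, p ∣ orderOf a → Ψ a = 0 := by
    intro a ha
    have h := blockPair_regular_singular hM hfb (u := (1 : secC (v : G))) (w := a⁻¹) hone
      (by rwa [orderOf_inv])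
    have e : blockPair f 1 a⁻¹ = (θ : secC (v : G) → ℂ) 1 * Ψ a := by
      unfold blockPair
      simp only [Ψ, Finset.mul_sum]
      refine Finset.sum_congr (by congr) fun ψ hψ => ?_
      rw [← irr_inv ψ a⁻¹, inv_inv, hr ψ (Finset.mem_filter.1 hψ).2 θ hθ 1 hone]
    rw [e] at h
    exact (mul_eq_zero.1 h).resolve_left (irr_one_ne_zero θ)
  have hΨreg : ∀ a, ¬ p ∣ orderOf a →
      Ψ a = (Nat.card P : ℂ) * (θ : secC (v : G) → ℂ) a := by
    intro a ha
    simp only [Ψ]
    rw [Finset.sum_congr rfl fun ψ hψ => hr ψ (Finset.mem_filter.1 hψ).2 θ hθ a ha,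
      Finset.sum_const, nsmul_eq_mul, ← (elemDatum D v hv).card, Nat.card_eq_fintype_card,
      Fintype.card_subtype]
  have hΨdiv : ∀ a : secC (v : G), ¬ p ∣ orderOf a →
      MemLocalRing M (Ψ a⁻¹ / (Nat.card (Subgroup.centralizer ({a} : Set (secC (v : G)))) : ℂ)) := by
    intro a ha
    have h := Cfsg.Agent.KleinSigns.regular_div_centralizer hM
      (Finset.univ.filter (· ∈ f)) (fun _ => 1) (fun _ _ => (locRing M).one_mem)
      (fun z hz => by simp only [one_mul]; exact hΨsing z hz) (x := a⁻¹) (by rwa [orderOf_inv])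
    simp only [one_mul] at h
    rwa [card_centralizer_inv] at h
  set S := ∑ χ ∈ Finset.univ.filter (· ∈ B), mu D χ v * (χ : G → ℂ) g with hS
  let F : secC (v : G) → ℂ := fun a =>
    Ψ a⁻¹ / (Nat.card (Subgroup.centralizer ({a} : Set (secC (v : G)))) : ℂ) *
      blockPair B ((v : G) * (a : G)) g⁻¹
  have hFc : IsClassFunction (secC (v : G)) F := by
    intro a h
    have e : (v : G) * ((h * a * h⁻¹ : secC (v : G)) : G) =
        (h : G) * ((v : G) * (a : G)) * (h : G)⁻¹ := by
      simp only [Subgroup.coe_mul, Subgroup.coe_inv, ← mul_assoc]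
      rw [mem_secC.1 h.2]
    have e2 : (h * a * h⁻¹)⁻¹ = h * a⁻¹ * h⁻¹ := by group
    simp only [F, Ψ, e, blockPair_conjugate, e2]
    congr 2
    · exact Finset.sum_congr rfl fun ψ _ => by rw [irr_conj_invariant]
    · exact_mod_cast card_centralizer_conj a h
  have hsum : S = ∑ K : ConjClasses (secC (v : G)), F K.out := by
    rw [← sum_regular_div_index F hFc, hS]
    simp only [mu_eq D _ hv, muF, classInner, secFun, Finset.mul_sum, Finset.sum_mul]
    rw [Finset.sum_congr rfl fun χ _ => Finset.sum_comm, Finset.sum_comm]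
    refine Finset.sum_congr rfl fun a _ => ?_
    simp only [F, Ψ, blockPair, Finset.mul_sum, Finset.sum_mul, Finset.sum_div]
    refine Finset.sum_congr (by congr) fun χ _ => Finset.sum_congr (by congr) fun ψ _ => ?_
    rw [← irr_inv χ g⁻¹, inv_inv, ← irr_inv ψ a]
    have h1 := congrArg (Nat.cast (R := ℂ))
      (Subgroup.centralizer ({a} : Set (secC (v : G)))).card_mul_index
    push_cast at h1
    rw [← h1]
    have : (Nat.card (Subgroup.centralizer ({a} : Set (secC (v : G)))) : ℂ) ≠ 0 :=
      Nat.cast_ne_zero.2 Nat.card_pos.ne'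
    have : ((Subgroup.centralizer ({a} : Set (secC (v : G)))).index : ℂ) ≠ 0 :=
      Nat.cast_ne_zero.2 Subgroup.index_ne_zero_of_finite
    field_simp
  rw [hsum, Finset.sum_div, Finset.sum_div]
  refine ⟨memLocalRing_sum _ _ fun K _ => ?_, memLocalRing_sum _ _ fun K _ => ?_⟩
  · by_cases ha : p ∣ orderOf K.out
    · simp only [F, hΨsing _ (by rwa [orderOf_inv] : p ∣ orderOf K.out⁻¹), zero_div, zero_mul]
      exact (locRing M).zero_mem
    simp only [F]
    rw [mul_div_assoc, blockPair_inv, inv_inv]
    exact (locRing M).mul_mem (mem_locRing.2 (hΨdiv _ ha))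
      (mem_locRing.2 (Cfsg.Agent.KleinSigns.blockPair_div_centralizer hB _ _))
  · by_cases ha : p ∣ orderOf K.out
    · simp only [F, hΨsing _ (by rwa [orderOf_inv] : p ∣ orderOf K.out⁻¹), zero_div, zero_mul]
      exact (locRing M).zero_mem
    simp only [F]
    rw [hΨreg _ (by rwa [orderOf_inv] : ¬ p ∣ orderOf K.out⁻¹),
      ← card_centralizer_section (exists_orderOf_eq hP v) ha]
    have hP0 : (Nat.card P : ℂ) ≠ 0 := Nat.cast_ne_zero.2 Nat.card_pos.ne'
    rw [show ∀ t c b : ℂ, (Nat.card P : ℂ) * t / c * b / (Nat.card P : ℂ) = t * (b / c) from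
      fun t c b => by field_simp]
    exact (locRing M).mul_mem (mem_locRing_of_isIntegral (irr_isIntegral θ _))
      (mem_locRing.2 (Cfsg.Agent.KleinSigns.blockPair_div_centralizer hB _ _))

end

end Cfsg.Agent.Abelian
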