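/-
A generalized character of an abelian `p`-group with the absolute values prescribed by a family of
degrees on the subgroups.
-/
import Cfsg.Agent.Lib.Star.Abelian.CharRing

set_option linter.unusedSectionVars false
set_option linter.style.haveILetI false

namespace Cfsg.Agent.Abelian

open Cfsg Cfsg.Agent.Char Cfsg.Agent.Blocks Cfsg.Agent.CharGalois
open scoped ComplexConjugate

universe u

variable {A : Type u} [CommGroup A] [Fintype A]

theorem exists_int_one {L : A → ℂ} (hL : IsGeneralizedCharacter A L) : ∃ c : ℤ, L 1 = c := by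
  classical
  haveI : Fintype (A →* ℂˣ) := Fintype.ofFinite _
  obtain ⟨co, hco, -⟩ := IsGeneralizedCharacter.exists_coeff hL
  refine ⟨∑ l : A →* ℂˣ, co (linIrr l), ?_⟩
  conv_lhs => rw [hco]
  rw [Finset.sum_apply, Int.cast_sum]
  exact (Fintype.sum_bijective linIrr linIrr_bijective _ _ fun l => by simp).symm

theorem IsGenChar.mul_lin {L : A → ℂ} (hL : IsGeneralizedCharacter A L) (l : A →* ℂˣ) :
    IsGeneralizedCharacter A fun v => (l v : ℂ) * L v :=
  IsGeneralizedCharacter.mul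
    (IsGeneralizedCharacter.of_isCharacter (IsIrrCharacter.isCharacter (linIrr l).2)) hL

/-- The properties of the signed local characters. -/
structure Adapted (r : Subgroup A → ℕ) (L : Subgroup A → A → ℂ) (Q : Subgroup A) : Prop where
  gen : IsGeneralizedCharacter A (L Q)
  periodic : ∀ v, ∀ q ∈ Q, L Q (v * q) = L Q v
  norm : ∀ v, ‖L Q v‖ = r (Q ⊔ Subgroup.zpowers v)
  integral : ∀ v, IsIntegral ℤ (L Q v / r (Q ⊔ Subgroup.zpowers v))
  compat : ∀ v, L Q v = L (Q ⊔ Subgroup.zpowers v) v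

variable {p : ℕ} {a : ℕ} {r : Subgroup A → ℕ}

/-- The data given by the local blocks. -/
def LocalChars (A : Type u) [CommGroup A] (r : Subgroup A → ℕ) : Prop :=
  ∀ Q : Subgroup A, Q ≠ ⊥ → ∃ Λ : A → ℂ, IsGeneralizedCharacter A Λ ∧
    (∀ v, ‖Λ v‖ = r (Q ⊔ Subgroup.zpowers v)) ∧
    (∀ v, IsIntegral ℤ (Λ v / r (Q ⊔ Subgroup.zpowers v))) ∧
    ∃ w : Q → ℂ, ∀ (q : Q) (v : A), Λ (v * q) = w q * Λ v

theorem sup_zpowers_mul (Q : Subgroup A) (v : A) {q : A} (hq : q ∈ Q) :
    Q ⊔ Subgroup.zpowers (v * q) = Q ⊔ Subgroup.zpowers v := by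
  refine le_antisymm (sup_le le_sup_left (Subgroup.zpowers_le.2
    (mul_mem (Subgroup.mem_sup_right (Subgroup.mem_zpowers v)) (Subgroup.mem_sup_left hq))))
    (sup_le le_sup_left (Subgroup.zpowers_le.2 ?_))
  have h : v * q * q⁻¹ ∈ Q ⊔ Subgroup.zpowers (v * q) :=
    mul_mem (Subgroup.mem_sup_right (Subgroup.mem_zpowers _)) (Subgroup.mem_sup_left (inv_mem hq))
  rwa [mul_inv_cancel_right] at h

/-- A local character can be made periodic. -/
theorem exists_periodic (hr : ∀ X, r X ≠ 0) (hloc : LocalChars A r) {Q : Subgroup A} (hQ : Q ≠ ⊥) :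
    ∃ Λ : A → ℂ, IsGeneralizedCharacter A Λ ∧ (∀ v, ‖Λ v‖ = r (Q ⊔ Subgroup.zpowers v)) ∧
      (∀ v, IsIntegral ℤ (Λ v / r (Q ⊔ Subgroup.zpowers v))) ∧
      ∀ v, ∀ q ∈ Q, Λ (v * q) = Λ v := by
  obtain ⟨Λ, hg, hn, hi, w, hw⟩ := hloc Q hQ
  have hne : ∀ v, Λ v ≠ 0 := fun v h => hr _ (by
    have := hn v
    rw [h, norm_zero] at this
    exact_mod_cast this.symm)
  have hwq : ∀ q : Q, Λ (q : A) = w q * Λ 1 := fun q => by rw [← hw q 1, one_mul]
  have hw0 : ∀ q : Q, w q ≠ 0 := fun q h => hne (q : A) (by rw [hwq, h, zero_mul])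
  have hw1 : w 1 = 1 := by
    have h := hwq 1
    rw [Subgroup.coe_one] at h
    exact (mul_eq_right₀ (hne 1)).1 h.symm
  have hwm : ∀ x y : Q, w (x * y) = w x * w y := fun x y => by
    have h := hw y (x : A)
    rw [← Subgroup.coe_mul, hwq, hwq, ← mul_assoc, mul_comm (w y) (w x)] at h
    exact mul_right_cancel₀ (hne 1) h
  let wh : Q →* ℂ := { toFun := w, map_one' := hw1, map_mul' := hwm }
  obtain ⟨l, hl⟩ := MonoidHom.domRestrict_surjective (G := A) (M := ℂ) Q wh.toHomUnits⁻¹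
  have hlq : ∀ q : Q, (l (q : A) : ℂ) = (w q)⁻¹ := fun q => by
    have h := congrArg (fun f : Q →* ℂˣ => (f q : ℂ)) hl
    refine h.trans ?_
    simp only [MonoidHom.inv_apply, Units.val_inv_eq_inv_val, MonoidHom.coe_toHomUnits]
    rfl
  refine ⟨fun v => (l v : ℂ) * Λ v, IsGenChar.mul_lin hg l, fun v => ?_, fun v => ?_,
    fun v q hq => ?_⟩
  · rw [norm_mul, norm_lin, one_mul, hn]
  · rw [mul_div_assoc]
    exact IsIntegral.mul (irr_isIntegral (linIrr l) v) (hi v)
  · show (l (v * q) : ℂ) * Λ (v * q) = _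
    rw [map_mul, Units.val_mul, hw ⟨q, hq⟩ v, show (l q : ℂ) = (w ⟨q, hq⟩)⁻¹ from hlq ⟨q, hq⟩]
    have h0 := hw0 ⟨q, hq⟩
    field_simp

theorem exists_adapted (hp : p.Prime) (hA : Nat.card A = p ^ a) (hr : ∀ X, ¬ p ∣ r X)
    (hloc : LocalChars A r) :
    ∃ L : Subgroup A → A → ℂ, ∀ Q : Subgroup A, Q ≠ ⊥ → Adapted r L Q := by
  classical
  have hr0 : ∀ X, r X ≠ 0 := fun X h => hr X (h ▸ dvd_zero p)
  suffices H : ∀ n : ℕ, ∃ L : Subgroup A → A → ℂ,
      ∀ Q : Subgroup A, Q ≠ ⊥ → Q.index ≤ n → Adapted r L Q by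
    obtain ⟨L, hL⟩ := H (Nat.card A)
    exact ⟨L, fun Q hQ => hL Q hQ (Nat.le_of_dvd Nat.card_pos (Subgroup.index_dvd_card Q))⟩
  intro n
  induction n with
  | zero =>
    exact ⟨fun _ _ => 0, fun Q _ h => absurd (Nat.le_zero.1 h) Subgroup.index_ne_zero_of_finite⟩
  | succ n ih =>
    obtain ⟨L, hL⟩ := ih
    have key : ∀ Q : Subgroup A, Q ≠ ⊥ → Q.index = n + 1 → ∃ N : A → ℂ,
        IsGeneralizedCharacter A N ∧ (∀ v, ∀ q ∈ Q, N (v * q) = N v) ∧
        (∀ v, ‖N v‖ = r (Q ⊔ Subgroup.zpowers v)) ∧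
        (∀ v, IsIntegral ℤ (N v / r (Q ⊔ Subgroup.zpowers v))) ∧
        ∀ v, v ∉ Q → N v = L (Q ⊔ Subgroup.zpowers v) v := by
      intro Q hQ hidx
      obtain ⟨Λ, hg, hn, hi, hper⟩ := exists_periodic hr0 hloc hQ
      have hgt : ∀ R : Subgroup A, Q < R → Adapted r L R := fun R hR =>
        hL R (ne_bot_of_gt hR) (by
          have := Subgroup.index_strictAnti hR
          omega)
      have hup : ∀ v, v ∉ Q → Q < Q ⊔ Subgroup.zpowers v := fun v hv =>
        lt_of_le_of_ne le_sup_left fun h =>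
          hv (h.ge (Subgroup.mem_sup_right (Subgroup.mem_zpowers v)))
      obtain ⟨F, hF, hFv⟩ := exists_glue Q L (fun R hR => (hgt R hR).gen)
        (fun R hR v => (hgt R hR).compat v)
      obtain ⟨c, hc⟩ := exists_int_one hg
      have hcp : ¬ (p : ℤ) ∣ c := by
        intro hdvd
        have h1 := hn 1
        rw [hc, Subgroup.zpowers_one_eq_bot, sup_bot_eq, Complex.norm_intCast] at h1
        have h2 : |c| = (r Q : ℤ) := by exact_mod_cast h1
        exact hr Q (Int.natCast_dvd_natCast.1 (h2 ▸ (dvd_abs _ _).2 hdvd))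
      let S : Finset A := Finset.univ.filter fun v => v ∉ Q
      have hS : ∀ x ∈ S, ∀ k : ℕ, k.Coprime (Nat.card A) → x ^ k ∈ S := by
        intro x hx k hk
        refine Finset.mem_filter.2 ⟨Finset.mem_univ _, fun h => (Finset.mem_filter.1 hx).2 ?_⟩
        obtain ⟨m, hm⟩ := exists_pow_eq_self_of_coprime (x := x)
          (Nat.Coprime.coprime_dvd_right (orderOf_dvd_natCard x) hk)
        rw [← hm]
        exact pow_mem h m
      let ρ : A → ℂ := fun v => (r (Q ⊔ Subgroup.zpowers v) : ℂ)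
      let q₀ : A → ℂ := fun v => F v / ρ v * conj (Λ v / ρ v)
      have hρ : ∀ v, ρ v ≠ 0 := fun v => Nat.cast_ne_zero.2 (hr0 _)
      have hq₀ : ∀ x ∈ S, q₀ x * Λ x = F x := by
        intro x _
        have h1 : conj (Λ x / ρ x) * (Λ x / ρ x) = 1 := by
          rw [mul_comm, Complex.mul_conj', norm_div, hn, Complex.norm_natCast,
            div_self (Nat.cast_ne_zero.2 (hr0 _)), Complex.ofReal_one, one_pow]
        calc q₀ x * Λ x = F x * (conj (Λ x / ρ x) * (Λ x / ρ x)) := by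
              simp only [q₀]
              field_simp [hρ x]
          _ = F x := by rw [h1, mul_one]
      have hint : ∀ x ∈ S, IsIntegral ℤ (q₀ x) := by
        intro x hx
        have hxQ := (Finset.mem_filter.1 hx).2
        refine IsIntegral.mul ?_ ((hi x).map (starRingEnd ℂ).toIntAlgHom)
        have h := (hgt _ (hup x hxQ)).integral x
        rw [sup_eq_left.2 (Subgroup.zpowers_le.2
          (Subgroup.mem_sup_right (Subgroup.mem_zpowers x)))] at h
        simp only [ρ]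
        rw [hFv x hxQ]
        exact h
      obtain ⟨H, hH, hHv⟩ := exists_div hp hA hg hc hcp hF hS hq₀ hint
      have hmem : ∀ v, v ∉ Q → v ∈ S := fun v hv => Finset.mem_filter.2 ⟨Finset.mem_univ _, hv⟩
      have hvq : ∀ v, v ∉ Q → ∀ q ∈ Q, v * q ∉ Q := fun v hv q hq h =>
        hv (by simpa using mul_mem h (inv_mem hq))
      obtain ⟨l, e, he, hl1, hle⟩ := exists_signed_linear Q hH (fun v hv q hq => by
        rw [hHv _ (hmem _ (hvq v hv q hq)), hHv _ (hmem v hv)]
        simp only [q₀, ρ]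
        rw [hper v q hq, sup_zpowers_mul Q v hq, hFv _ (hvq v hv q hq), hFv _ hv,
          sup_zpowers_mul Q v hq, (hgt _ (hup v hv)).periodic v q (Subgroup.mem_sup_left hq)])
        fun v hv => by
          rw [hHv _ (hmem v hv)]
          simp only [q₀, ρ]
          rw [norm_mul, RCLike.norm_conj, norm_div, norm_div, hn, Complex.norm_natCast,
            div_self (Nat.cast_ne_zero.2 (hr0 _)), mul_one, hFv v hv, (hgt _ (hup v hv)).norm v,
            sup_eq_left.2 (Subgroup.zpowers_le.2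
              (Subgroup.mem_sup_right (Subgroup.mem_zpowers v))),
            div_self (Nat.cast_ne_zero.2 (hr0 _))]
      refine ⟨fun v => (e : ℂ) * ((l v : ℂ) * Λ v), ?_, fun v q hq => ?_, fun v => ?_, fun v => ?_,
        fun v hv => ?_⟩
      · exact IsGeneralizedCharacter.int_smul (IsGenChar.mul_lin hg l) e
      · show (e : ℂ) * ((l (v * q) : ℂ) * Λ (v * q)) = _
        rw [map_mul, hl1 q hq, mul_one, hper v q hq]
      · rw [norm_mul, norm_mul, norm_lin, one_mul, hn]
        rcases he with rfl | rfl <;> simp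
      · rw [mul_div_assoc, mul_div_assoc]
        exact IsIntegral.mul (by exact_mod_cast isIntegral_algebraMap (R := ℤ) (A := ℂ) (x := e))
          (IsIntegral.mul (irr_isIntegral (linIrr l) v) (hi v))
      · show (e : ℂ) * ((l v : ℂ) * Λ v) = _
        rw [← mul_assoc, ← hle v hv, hHv _ (hmem v hv), hq₀ v (hmem v hv), hFv v hv]
    choose N hN1 hN2 hN3 hN4 hN5 using key
    refine ⟨fun Q => if h : Q ≠ ⊥ ∧ Q.index = n + 1 then N Q h.1 h.2 else L Q, fun Q hQ hidx => ?_⟩
    have hsame : ∀ R : Subgroup A, R.index ≤ n →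
        (if h : R ≠ ⊥ ∧ R.index = n + 1 then N R h.1 h.2 else L R) = L R := fun R hR =>
      dif_neg fun h => by omega
    by_cases hlt : Q.index ≤ n
    · have hA' := hL Q hQ hlt
      have hsup : ∀ v, (Q ⊔ Subgroup.zpowers v).index ≤ n := fun v =>
        (Nat.le_of_dvd (Nat.pos_of_ne_zero Subgroup.index_ne_zero_of_finite)
          (Subgroup.index_dvd_of_le le_sup_left)).trans hlt
      refine ⟨?_, ?_, ?_, ?_, ?_⟩ <;> rw [hsame Q hlt]
      · exact hA'.gen
      · exact hA'.periodic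
      · exact hA'.norm
      · exact hA'.integral
      · intro v
        rw [hsame _ (hsup v)]
        exact hA'.compat v
    · have heq : Q.index = n + 1 := by omega
      have hdef : (if h : Q ≠ ⊥ ∧ Q.index = n + 1 then N Q h.1 h.2 else L Q) = N Q hQ heq :=
        dif_pos ⟨hQ, heq⟩
      refine ⟨?_, ?_, ?_, ?_, ?_⟩ <;> rw [hdef]
      · exact hN1 Q hQ heq
      · exact hN2 Q hQ heq
      · exact hN3 Q hQ heq
      · exact hN4 Q hQ heq
      · intro v
        by_cases hv : v ∈ Q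
        · rw [sup_eq_left.2 (Subgroup.zpowers_le.2 hv), hdef]
        · have hlt' : (Q ⊔ Subgroup.zpowers v).index ≤ n := by
            have := Subgroup.index_strictAnti (show Q < Q ⊔ Subgroup.zpowers v from
              lt_of_le_of_ne le_sup_left fun h =>
                hv (h.ge (Subgroup.mem_sup_right (Subgroup.mem_zpowers v))))
            omega
          rw [hsame _ hlt']
          exact hN5 Q hQ heq v hv

/-- The signed total: a generalized character whose values off the identity are the signed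
degrees at the cyclic subgroups. -/
theorem exists_signed_total [Nontrivial A] (hp : p.Prime) (hA : Nat.card A = p ^ a)
    (hr : ∀ X, ¬ p ∣ r X) (hloc : LocalChars A r) :
    ∃ (T : A → ℂ) (c : ℤ) (ω : A → ℤ), IsGeneralizedCharacter A T ∧ T 1 = c ∧ ¬ (p : ℤ) ∣ c ∧
      ∀ v, v ≠ 1 → (ω v = 1 ∨ ω v = -1) ∧
        T v = (ω v : ℂ) * (r (Subgroup.zpowers v) : ℂ) := by
  classical
  obtain ⟨L, hL⟩ := exists_adapted hp hA hr hloc
  obtain ⟨T, hT, hTv⟩ := exists_glue ⊥ L (fun R hR => (hL R (ne_bot_of_gt hR)).gen)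
    (fun R hR v => (hL R (ne_bot_of_gt hR)).compat v)
  obtain ⟨c, hc⟩ := exists_int_one hT
  have hsign : ∀ v : A, v ≠ 1 → ∃ s : ℤ, (s = 1 ∨ s = -1) ∧
      T v = (s : ℂ) * (r (Subgroup.zpowers v) : ℂ) := by
    intro v hv
    have hne : Subgroup.zpowers v ≠ ⊥ := by rwa [Ne, Subgroup.zpowers_eq_bot]
    have hAd := hL _ hne
    have e1 : T v = L (Subgroup.zpowers v) 1 := by
      rw [hTv v (by rwa [Subgroup.mem_bot]), bot_sup_eq]
      have h := hAd.periodic 1 v (Subgroup.mem_zpowers v)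
      rwa [one_mul] at h
    obtain ⟨d, hd⟩ := exists_int_one hAd.gen
    have h1 := hAd.norm 1
    rw [hd, Subgroup.zpowers_one_eq_bot, sup_bot_eq, Complex.norm_intCast] at h1
    have h2 : |d| = (r (Subgroup.zpowers v) : ℤ) := by exact_mod_cast h1
    rcases abs_choice d with h3 | h3
    · exact ⟨1, Or.inl rfl, by
        rw [e1, hd, show d = (r (Subgroup.zpowers v) : ℤ) by omega]; push_cast; ring⟩
    · exact ⟨-1, Or.inr rfl, by
        rw [e1, hd, show d = -(r (Subgroup.zpowers v) : ℤ) by omega]; push_cast; ring⟩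
  choose ω hω hTω using hsign
  refine ⟨T, c, fun v => if h : v ≠ 1 then ω v h else 1, hT, hc, fun hdvd => ?_, fun v hv => ?_⟩
  · obtain ⟨v, hv⟩ := exists_ne (1 : A)
    obtain ⟨W, hW, hWe⟩ := exists_pow_congr hp hA hT hc
    have h1 := hWe v
    rw [hTω v hv] at h1
    set d : ℤ := ω v hv * (r (Subgroup.zpowers v) : ℤ) with hd
    have hdd : ¬ (p : ℤ) ∣ d := by
      intro h
      apply hr (Subgroup.zpowers v)
      rcases hω v hv with h' | h' <;> rw [hd, h'] at h <;>
        simpa [Int.natCast_dvd_natCast] using h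
    have hpC : (p : ℂ) ≠ 0 := Nat.cast_ne_zero.2 hp.ne_zero
    have h2 : (((d ^ p ^ a - c ^ p ^ a : ℤ)) : ℂ) / (p : ℂ) = W v := by
      rw [div_eq_iff hpC, hd]
      push_cast
      linear_combination h1
    obtain ⟨m, hm⟩ := Cfsg.Agent.Blocks.exists_int_of_fixed (isIntegral_apply hW v) fun σ => by
      rw [← h2, map_div₀, map_intCast, map_natCast]
    rw [hm, div_eq_iff hpC] at h2
    have h3 : d ^ p ^ a - c ^ p ^ a = m * (p : ℤ) := by exact_mod_cast h2
    refine hdd ((Nat.prime_iff_prime_int.1 hp).dvd_of_dvd_pow (n := p ^ a) ?_)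
    have h4 : (p : ℤ) ∣ c ^ p ^ a := dvd_pow hdvd (pow_ne_zero a hp.ne_zero)
    have h5 : d ^ p ^ a = m * (p : ℤ) + c ^ p ^ a := by linarith
    exact h5 ▸ dvd_add (dvd_mul_left _ _) h4
  · simp only [dif_pos hv]
    exact ⟨hω v hv, hTω v hv⟩

end Cfsg.Agent.Abelian
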