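/-
Making the signs stable under the inertial automorphisms.
-/
import Cfsg.Agent.Lib.Star.Abelian.Signs

set_option linter.unusedSectionVars false
set_option linter.style.haveILetI false

namespace Cfsg.Agent.Abelian

open Cfsg Cfsg.Agent.Char Cfsg.Agent.Blocks
open scoped ComplexConjugate

universe u w

variable {A : Type u} [CommGroup A] [Fintype A]

/-- A generalized character vanishing off the identity has degree divisible by the order. -/
theorem exists_degree_dvd {f : A → ℂ} (hf : IsGeneralizedCharacter A f)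
    (h0 : ∀ v, v ≠ 1 → f v = 0) : ∃ k : ℤ, f 1 = (Nat.card A : ℂ) * (k : ℂ) := by
  classical
  obtain ⟨co, -, hco⟩ := IsGeneralizedCharacter.exists_coeff hf
  refine ⟨co (linIrr 1), ?_⟩
  rw [← hco, classInner, Finset.sum_eq_single 1 (fun v _ hv => by rw [h0 v hv, zero_mul])
    fun h => absurd (Finset.mem_univ _) h]
  have hn : (Nat.card A : ℂ) ≠ 0 := Nat.cast_ne_zero.2 Nat.card_pos.ne'
  rw [linIrr_apply, map_one, Units.val_one, map_one, mul_one, ← mul_assoc, mul_inv_cancel₀ hn,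
    one_mul]

/-- Integers congruent modulo `p` in the sense of algebraic integers. -/
theorem int_dvd_of_integral_div {p : ℕ} (hp : p.Prime) {d : ℤ} {W : ℂ} (hW : IsIntegral ℤ W)
    (h : (d : ℂ) = (p : ℂ) * W) : (p : ℤ) ∣ d := by
  have hpC : (p : ℂ) ≠ 0 := Nat.cast_ne_zero.2 hp.ne_zero
  have h2 : (d : ℂ) / (p : ℂ) = W := by rw [div_eq_iff hpC, h]; ring
  obtain ⟨m, hm⟩ := Cfsg.Agent.Blocks.exists_int_of_fixed hW fun σ => by
    rw [← h2, map_div₀, map_intCast, map_natCast]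
  rw [hm, div_eq_iff hpC] at h2
  exact ⟨m, by rw [mul_comm]; exact_mod_cast h2⟩

theorem isGeneralizedCharacter_one_fun : IsGeneralizedCharacter A fun _ => (1 : ℂ) :=
  (genRing A).one_mem

open scoped Classical in
/-- Signs stable under the automorphisms. -/
theorem exists_stable_sign {β : Type w} {p a : ℕ} (hp : p.Prime) (hA : Nat.card A = p ^ a)
    [Nontrivial A] (Γ : Subgroup (MulAut A)) (hΓp : ¬ p ∣ Nat.card Γ) (r : Subgroup A → ℕ)
    (hr : ∀ X, ¬ p ∣ r X) (hloc : LocalChars A r) (μ Λ : β → A → ℂ)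
    (hΛ : ∀ b, IsGeneralizedCharacter A (Λ b)) (hμ : ∀ b v, IsIntegral ℤ (μ b v))
    (hΛμ : ∀ b v, v ≠ 1 → Λ b v = (r (Subgroup.zpowers v) : ℂ) * μ b v)
    (hμst : ∀ b, ∀ τ ∈ Γ, ∀ v, v ≠ 1 → μ b (τ v) = μ b v)
    (b₀ : β) {c₀ : ℤ} (hc₀ : Λ b₀ 1 = c₀) (hc₀p : ¬ (p : ℤ) ∣ c₀) :
    ∃ ω : A → ℤ, (∀ v, v ≠ 1 → ω v = 1 ∨ ω v = -1) ∧
      (∀ τ ∈ Γ, ∀ v, v ≠ 1 → ω (τ v) = ω v) ∧
      ∀ b, ∃ H : A → ℂ, IsGeneralizedCharacter A H ∧
        ∀ v, v ≠ 1 → H v = (ω v : ℂ) * μ b v := by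
  obtain ⟨T, c, ω, hT, hc, hcp, hω⟩ := exists_signed_total hp hA hr hloc
  let S : Finset A := Finset.univ.filter fun v => v ≠ 1
  have hS : ∀ x ∈ S, ∀ k : ℕ, k.Coprime (Nat.card A) → x ^ k ∈ S := fun x hx k hk =>
    Finset.mem_filter.2 ⟨Finset.mem_univ _, fun h => (Finset.mem_filter.1 hx).2 (by
      obtain ⟨m, hm⟩ := exists_pow_eq_self_of_coprime (x := x)
        (Nat.Coprime.coprime_dvd_right (orderOf_dvd_natCard x) hk)
      rw [← hm, h, one_pow])⟩
  have hmem : ∀ v, v ≠ 1 → v ∈ S := fun v hv => Finset.mem_filter.2 ⟨Finset.mem_univ _, hv⟩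
  have hω2 : ∀ v, v ≠ 1 → (ω v : ℂ) * (ω v : ℂ) = 1 := fun v hv => by
    rcases (hω v hv).1 with h | h <;> rw [h] <;> norm_num
  have hωi : ∀ v, IsIntegral ℤ ((ω v : ℤ) : ℂ) := fun v => by
    exact_mod_cast isIntegral_algebraMap (R := ℤ) (A := ℂ) (x := ω v)
  have hH : ∀ b, ∃ H : A → ℂ, IsGeneralizedCharacter A H ∧
      ∀ v, v ≠ 1 → H v = (ω v : ℂ) * μ b v := by
    intro b
    obtain ⟨H, hH, hHv⟩ := exists_div hp hA hT hc hcp (hΛ b) hS
      (r := fun v => (ω v : ℂ) * μ b v) (fun v hv => by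
        have hv' := (Finset.mem_filter.1 hv).2
        rw [(hω v hv').2, hΛμ b v hv']
        linear_combination ((r (Subgroup.zpowers v) : ℂ) * μ b v) * hω2 v hv')
      (fun v _ => (hωi v).mul (hμ b v))
    exact ⟨H, hH, fun v hv => hHv v (hmem v hv)⟩
  choose H hHgen hHv using hH
  obtain ⟨d, hd⟩ := exists_int_one (hHgen b₀)
  have hdp : ¬ (p : ℤ) ∣ d := by
    intro hdvd
    obtain ⟨k, hk⟩ := exists_degree_dvd
      (IsGeneralizedCharacter.sub (IsGeneralizedCharacter.mul (hHgen b₀) hT) (hΛ b₀))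
      (fun v hv => by
        show H b₀ v * T v - Λ b₀ v = 0
        rw [hHv b₀ v hv, (hω v hv).2, hΛμ b₀ v hv]
        linear_combination ((r (Subgroup.zpowers v) : ℂ) * μ b₀ v) * hω2 v hv)
    simp only [Pi.sub_apply, Pi.mul_apply, hd, hc, hc₀] at hk
    have h1 : d * c - c₀ = (Nat.card A : ℤ) * k := by exact_mod_cast hk
    refine hc₀p ?_
    have h2 : (p : ℤ) ∣ (Nat.card A : ℤ) := by
      have : 1 < Nat.card A := Finite.one_lt_card
      rw [hA]
      rcases Nat.eq_zero_or_pos a with rfl | ha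
      · rw [hA, pow_zero] at this; exact absurd this (lt_irrefl _)
      · exact_mod_cast dvd_pow_self p ha.ne'
    have h3 : c₀ = d * c - (Nat.card A : ℤ) * k := by linarith
    exact h3 ▸ dvd_sub (hdvd.mul_right c) (h2.mul_right k)
  -- the quotient of the signs and their transforms
  have hρ : ∀ τ ∈ Γ, ∃ R : A → ℂ, IsGeneralizedCharacter A R ∧ R 1 = 1 ∧
      ∀ v, v ≠ 1 → R v = (ω (τ v) : ℂ) * (ω v : ℂ) := by
    intro τ hτ
    have hτ1 : ∀ v, v ≠ 1 → τ v ≠ 1 := fun v hv h => hv (τ.injective (h.trans (map_one τ).symm))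
    obtain ⟨R, hR, hRv⟩ := exists_div hp hA (hHgen b₀) hd hdp
      (IsGeneralizedCharacter.comp (hHgen b₀) τ.toMonoidHom) (S := Finset.univ)
      (fun x _ k _ => Finset.mem_univ _)
      (r := fun v => if v = 1 then 1 else (ω (τ v) : ℂ) * (ω v : ℂ)) (fun v _ => by
        show _ = H b₀ (τ v)
        by_cases hv : v = 1
        · subst hv
          rw [if_pos rfl, map_one, one_mul]
        · rw [if_neg hv, hHv b₀ v hv, hHv b₀ (τ v) (hτ1 v hv), hμst b₀ τ hτ v hv]
          linear_combination ((ω (τ v) : ℂ) * μ b₀ v) * hω2 v hv)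
      (fun v _ => by
        split_ifs
        · exact isIntegral_one
        · exact (hωi _).mul (hωi _))
    exact ⟨R, hR, by rw [hRv 1 (Finset.mem_univ _), if_pos rfl],
      fun v hv => by rw [hRv v (Finset.mem_univ _), if_neg hv]⟩
  have hτ1' : ∀ τ ∈ Γ, ∀ v : A, v ≠ 1 → τ v ≠ 1 := fun τ _ v hv h =>
    hv (τ.injective (h.trans (map_one τ).symm))
  by_cases hp2 : p = 2
  · -- the product over the automorphisms
    haveI : Fintype Γ := Fintype.ofFinite _
    choose R hR hR1 hRv using hρ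
    have hodd : Odd (Fintype.card Γ) := by
      rw [← Nat.not_even_iff_odd, even_iff_two_dvd, ← Nat.card_eq_fintype_card, ← hp2]
      exact hΓp
    refine ⟨fun v => ∏ τ : Γ, ω (τ.1 v), fun v hv => ?_, fun τ hτ v hv => ?_, fun b => ?_⟩
    · refine Finset.prod_induction _ (fun z : ℤ => z = 1 ∨ z = -1) ?_ (Or.inl rfl)
        fun τ _ => (hω _ (hτ1' τ.1 τ.2 v hv)).1
      rintro x y (rfl | rfl) (rfl | rfl) <;> simp
    · exact Fintype.prod_equiv (Equiv.mulRight (⟨τ, hτ⟩ : Γ)) _ _ fun σ => rfl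
    · refine ⟨fun v => H b v * ∏ τ : Γ, R τ.1 τ.2 v, IsGeneralizedCharacter.mul (hHgen b) ?_,
        fun v hv => ?_⟩
      · have hmem : (∏ τ : Γ, R τ.1 τ.2) ∈ genRing A :=
          Subring.prod_mem _ fun τ _ => mem_genRing.2 (hR τ.1 τ.2)
        have e : (fun v => ∏ τ : Γ, R τ.1 τ.2 v) = ∏ τ : Γ, R τ.1 τ.2 :=
          funext fun v => (Finset.prod_apply v _ _).symm
        rw [e]
        exact hmem
      · obtain ⟨s, hs⟩ := hodd
        show H b v * _ = _
        rw [hHv b v hv, Finset.prod_congr rfl fun τ _ => hRv τ.1 τ.2 v hv,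
          Finset.prod_mul_distrib, Finset.prod_const, Finset.card_univ, hs, Int.cast_prod,
          pow_succ, pow_mul, sq, hω2 v hv, one_pow, one_mul]
        linear_combination ((∏ τ : Γ, (ω (τ.1 v) : ℂ)) * μ b v) * hω2 v hv
  · refine ⟨ω, fun v hv => (hω v hv).1, fun τ hτ v hv => ?_,
      fun b => ⟨H b, hHgen b, hHv b⟩⟩
    obtain ⟨R, hR, hR1, hRv⟩ := hρ τ hτ
    have habs : ∀ w, w ∉ (⊥ : Subgroup A) → ‖R w‖ = 1 := fun w hw => by
      rw [Subgroup.mem_bot] at hw
      rw [hRv w hw]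
      rcases (hω w hw).1 with h | h <;> rcases (hω _ (hτ1' τ hτ w hw)).1 with h' | h' <;>
        rw [h, h'] <;> simp
    obtain ⟨l, e, he, -, hle⟩ := exists_signed_linear ⊥ hR
      (fun w _ q hq => by rw [Subgroup.mem_bot.1 hq, mul_one]) habs
    have hl : ∀ w, w ≠ 1 → (l w : ℂ) = 1 := by
      intro w hw
      have h := hle w (by rwa [Subgroup.mem_bot])
      rw [hRv w hw] at h
      have hsq : (l w : ℂ) ^ 2 = 1 := by
        have he2 : (e : ℂ) * (e : ℂ) = 1 := by rcases he with rfl | rfl <;> norm_num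
        linear_combination (-((e : ℂ) * (l w : ℂ) + (ω (τ w) : ℂ) * (ω w : ℂ))) * h
          + (-((l w : ℂ) ^ 2)) * he2 + ((ω (τ w) : ℂ) ^ 2) * hω2 w hw + hω2 _ (hτ1' τ hτ w hw)
      have hpow : (l w : ℂ) ^ (p ^ a) = 1 := by
        rw [← Units.val_pow_eq_pow_val, ← map_pow, ← hA, pow_card_eq_one', map_one, Units.val_one]
      obtain ⟨s, hs⟩ := (hp.odd_of_ne_two hp2).pow (n := a)
      rwa [hs, pow_succ, pow_mul, hsq, one_pow, one_mul] at hpow
    have he1 : e = 1 := by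
      refine he.resolve_right fun hneg => ?_
      obtain ⟨W, hW, hWe⟩ := exists_pow_congr hp hA hR (c := 1) (by rw [hR1, Int.cast_one])
      have h := hWe v
      rw [hle v (by rwa [Subgroup.mem_bot]), hl v hv, hneg] at h
      push_cast at h
      rw [mul_one, ((hp.odd_of_ne_two hp2).pow (n := a)).neg_one_pow, one_pow] at h
      have h2 : (p : ℤ) ∣ -2 := int_dvd_of_integral_div hp (isIntegral_apply hW v) (by
        push_cast
        linear_combination h)
      rw [dvd_neg] at h2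
      exact hp2 ((Nat.prime_dvd_prime_iff_eq hp Nat.prime_two).1 (by exact_mod_cast h2))
    have h := hle v (by rwa [Subgroup.mem_bot])
    rw [hRv v hv, hl v hv, he1, Int.cast_one, mul_one] at h
    have h1 : ω (τ v) * ω v = 1 := by exact_mod_cast h
    rcases (hω v hv).1 with h' | h' <;> rw [h'] at h1 <;> omega

end Cfsg.Agent.Abelian
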