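/-
The integral rows of a block with abelian defect group and free inertia.
-/
import Cfsg.Agent.Lib.Star.Abelian.Global
import Cfsg.Agent.Lib.Star.Abelian.FixIdem
import Cfsg.Agent.Lib.Star.Abelian.StableSign
import Cfsg.Agent.Lib.Star.Abelian.Gram
import Cfsg.Agent.Lib.Star.Abelian.MuDiv

set_option linter.unusedSectionVars false
set_option linter.style.haveILetI false

namespace Cfsg.Agent.Abelian

open Cfsg MonoidAlgebra Cfsg.Agent.Blocks Cfsg.Agent.BrauerPairs Cfsg.Agent.Char Cfsg.Agent.Star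
open scoped ComplexConjugate

universe u

variable {G : Type u} [Group G] [Fintype G] {p : ℕ} [Fact p.Prime] {M : Ideal AlgInt} [M.IsPrime]

/-- The automorphisms of a subgroup induced by a subgroup normalising it. -/
def autImage (P T : Subgroup G) (hT : T ≤ Subgroup.normalizer (P : Set G)) :
    Subgroup (MulAut P) :=
  (P.normalizerMonoidHom.comp (Subgroup.inclusion hT)).range

theorem card_autImage (P T : Subgroup G) (hT : T ≤ Subgroup.normalizer (P : Set G)) :
    Nat.card (autImage P T hT) = (Subgroup.centralizer (P : Set G)).relIndex T := by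
  rw [autImage, ← Subgroup.index_ker, Subgroup.relIndex]
  congr 1
  rw [← MonoidHom.comap_ker, Subgroup.normalizerMonoidHom_ker]
  ext t
  simp [Subgroup.mem_subgroupOf]

/-- Free inertia gives automorphisms without fixed points. -/
theorem autImage_free {P : Subgroup G} {z : MonoidAlgebra (resField M) G}
    (hfree : FreeInertia P z)
    {T : Subgroup G} (hT : T ≤ Subgroup.normalizer (P : Set G)) (h : T = stabP (P, z) := by rfl) :
    ∀ τ ∈ autImage P T hT, ∀ v : P, τ v = v → v ≠ 1 → τ = 1 := by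
  subst h
  rintro τ ⟨t, rfl⟩ v hv hv1
  have htC : (t : G) ∈ Subgroup.centralizer (P : Set G) :=
    hfree t t.2 v v.2 (fun h => hv1 (Subtype.ext h)) (congrArg Subtype.val hv)
  refine MulEquiv.ext fun u => Subtype.ext ?_
  show (t : G) * (u : G) * (t : G)⁻¹ = u
  rw [← Subgroup.mem_centralizer_iff.1 htC u u.2, mul_inv_cancel_right]

open scoped Classical in
/-- The rows along given representatives of the orbits, with the divisibility of their
combinations by the centralisers. -/
theorem exists_inertial_rows_orbits (hM : IsPModular p M) {B : Set (IrrCharacter G)} {P : Subgroup G}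
    (hPD : IsDefectGroup p M B P) (hP1 : P ≠ ⊥)
    (hPC : P ≤ Subgroup.centralizer (P : Set G))
    {c : Set (IrrCharacter (Subgroup.centralizer (P : Set G)))}
    (hc : IsInducedBlock M (Subgroup.centralizer (P : Set G)) c B)
    (hfree : FreeInertia P (zB M (Subgroup.centralizer (P : Set G)) c)) {m : ℕ}
    (o : Orbits (autImage P (stabP ((P, zB M (Subgroup.centralizer (P : Set G)) c) :
      Pr (resField M) G)) (stabP_le_normalizer _)) m) :
    ∃ x : {χ // χ ∈ B} → Fin m → ℤ,
      (∀ i i', ∑ b, x b i * x b i' = (if i = i' then 1 else 0) +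
        ((Subgroup.centralizer (P : Set G)).relIndex
          (stabP (P, zB M (Subgroup.centralizer (P : Set G)) c)) : ℤ)) ∧
      (∀ b, ∃ i, x b i ≠ 0) ∧
      (∀ i, ∀ s : G, ¬ p ∣ orderOf s → ∑ b, (x b i : ℂ) * (b.1 : G → ℂ) s = 0) ∧
      ∀ v : P, v ≠ 1 → ∀ g : G,
        MemLocalRing M ((∑ b, (∑ i, (x b i : ℂ) * o.eta i v) * (b.1 : G → ℂ) g) /
            (Nat.card (Subgroup.centralizer ({g} : Set G)) : ℂ)) ∧
          MemLocalRing M ((∑ b, (∑ i, (x b i : ℂ) * o.eta i v) * (b.1 : G → ℂ) g) /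
            (Nat.card P : ℂ)) := by
  haveI : CharP (resField M) p := resField_charP hM
  have hB := hc.2.1
  obtain ⟨hpB, -⟩ := abelian_pair hM hPD hPC hc
  have hD := (isDefectGroup_iff hB P).1 hPD
  have hP : IsPGroup p P := hD.pgroup
  have hmax : IsMax p (Ek M B) ((P, zB M (Subgroup.centralizer (P : Set G)) c) :
      Pr (resField M) G) := ⟨hpB, hD⟩
  obtain ⟨χ₀, hχ₀, h0⟩ := exists_heightZero hM hB
  obtain ⟨j, hjj, hji, hjb, ê, hê, hêi, hêr, hval⟩ :=
    exists_fix_idem hM hB hc.1 (e := c) hmax hPC hχ₀ h0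
  have hD' : ∀ X : Subgroup P, X ≠ ⊥ →
      Nonempty (LocDatum p M P (zB M (Subgroup.centralizer (P : Set G)) c) j (X.map P.subtype)) :=
    fun X hX => exists_locDatum hM hPD hPC hc hfree hjj hji hjb (Subgroup.map_subtype_le X)
      (fun h => hX ((Subgroup.map_eq_bot_iff_of_injective _ P.subtype_injective).1 h))
  let D : LocFamily p M P (zB M (Subgroup.centralizer (P : Set G)) c) j :=
    fun X hX => (hD' X hX).some
  have hreg : ∀ (X : Subgroup G) (f : Set (IrrCharacter (CX X))), X ≤ P → X ≠ ⊥ → IsPBlock M f →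
      SubLE p ⊤ ((X, zB M (CX X) f) : Pr (resField M) G)
        (P, zB M (Subgroup.centralizer (P : Set G)) c) →
      ∀ θ ∈ f, ∀ θ' ∈ f, ∀ w : CX X, ¬ p ∣ orderOf w →
        (θ : CX X → ℂ) w = (θ' : CX X → ℂ) w := by
    intro X f hX hX1 hf hle
    obtain ⟨f', hf', hle', -, hr'⟩ := exists_below hM hPD hPC hc hfree hX hX1
    obtain rfl : f = f' := zB_injective _ hf hf'
      ((existsUnique_below hmax.pair hX).unique hle hle')
    exact hr'
  letI : CommGroup P :=
    { (inferInstance : Group P) with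
      mul_comm := fun a b => Subtype.ext (Subgroup.mem_centralizer_iff.1 (hPC b.2) a a.2) }
  haveI : Nontrivial P := (Subgroup.nontrivial_iff_ne_bot P).2 hP1
  obtain ⟨a, hA⟩ := hP.exists_card_eq
  let T := stabP ((P, zB M (Subgroup.centralizer (P : Set G)) c) : Pr (resField M) G)
  have hTN : T ≤ Subgroup.normalizer (P : Set G) := stabP_le_normalizer _
  let Γ := autImage P T hTN
  have hΓcard : Nat.card Γ = (Subgroup.centralizer (P : Set G)).relIndex T := card_autImage P T hTN
  have hΓfree : ∀ τ ∈ Γ, ∀ v : P, τ v = v → v ≠ 1 → τ = 1 := autImage_free hfree hTN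
  have hΓp : ¬ p ∣ Nat.card Γ := hΓcard ▸ not_dvd_inertia hM hPD hPC hc
  -- degrees and local characters
  have hΛchar : ∀ χ : IrrCharacter G, IsCharacter P fun v : P => chiTr χ ê (v : G) :=
    fun χ => isCharacter_chiTr χ hê hêi
  have hbase : ∀ v : P, v ≠ 1 → ¬ p ∣ rdeg D (Subgroup.zpowers v) := by
    intro v hv hdiv
    obtain ⟨i, hi⟩ := IsPGroup.iff_orderOf.1 hP v
    have hcg := char_congr_regular hM (hΛchar χ₀) (x := v) (y := 1) (Commute.one_right v) hi
      (by simp [hM.1.ne_one])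
    rw [mul_one, chiTr_eq_mu D hM hP hPC hê hêi hêr χ₀ hv] at hcg
    have h2 : MemLocalIdeal M ((rdeg D (Subgroup.zpowers v) : ℂ) * mu D χ₀ v) := by
      rw [mul_comm]
      exact MemLocalIdeal.mul_left (mem_locRing_of_isIntegral (mu_integral D χ₀ v))
        ((natCast_memLocalIdeal_iff hM _).2 hdiv)
    have h3 := MemLocalIdeal.sub h2 hcg
    rw [sub_sub_cancel, Subgroup.coe_one] at h3
    exact hval h3
  have hunit := not_dvd_rdeg D hM hP hPC hbase
  have hloc : LocalChars P (rdeg D) := by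
    intro Q hQ
    obtain ⟨θ, hθ⟩ := isPBlock_nonempty (D Q hQ).blk
    refine ⟨locChar (D Q hQ) (le_CX hPC (Subgroup.map_subtype_le Q)) θ,
      IsGeneralizedCharacter.of_isCharacter (isCharacter_locChar _ _ θ),
      fun v => norm_locChar D hM hP hPC hunit hQ hθ v, fun v => ?_, ?_⟩
    · obtain ⟨μ, hμ, hμe⟩ := locChar_value D hM hP hPC Q hQ θ v
      have h0 : (rdeg D (Q ⊔ Subgroup.zpowers v) : ℂ) ≠ 0 := Nat.cast_ne_zero.2 fun h =>
        hunit (Q ⊔ Subgroup.zpowers v) (by rw [h]; exact dvd_zero p)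
      rw [hμe, mul_div_cancel_left₀ μ h0]
      exact hμ
    · obtain ⟨w, hw⟩ := locChar_mul (D Q hQ) (Subgroup.map_subtype_le Q)
        (le_CX hPC (Subgroup.map_subtype_le Q)) θ
      exact ⟨fun q => w ⟨((q : P) : G), Subgroup.mem_map_of_mem _ q.2⟩,
        fun q v => hw ⟨((q : P) : G), Subgroup.mem_map_of_mem _ q.2⟩ v⟩
  obtain ⟨m₀, ρ₀, hρ₀⟩ := hΛchar χ₀
  have hdeg : chiTr χ₀ ê 1 = ((m₀ : ℤ) : ℂ) := by
    have h := congrFun hρ₀ 1
    simpa using h.symm
  have hm₀ : ¬ (p : ℤ) ∣ (m₀ : ℤ) := fun h => hval (by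
    rw [hdeg, Int.cast_natCast]
    exact (natCast_memLocalIdeal_iff hM _).2 (Int.natCast_dvd_natCast.1 h))
  obtain ⟨ω, hω, hωst, hωH⟩ := exists_stable_sign (β := {χ // χ ∈ B}) (Fact.out : p.Prime) hA Γ hΓp
    (rdeg D) hunit hloc (fun b v => mu D b.1 v) (fun b v => chiTr b.1 ê (v : G))
    (fun b => IsGeneralizedCharacter.of_isCharacter (hΛchar b.1))
    (fun b v => mu_integral D b.1 v) (fun b v hv => chiTr_eq_mu D hM hP hPC hê hêi hêr b.1 hv)
    (fun b τ hτ v hv => by
      obtain ⟨t, rfl⟩ := hτ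
      exact mu_stable D hM hB hmax hP hreg t.2 hv rfl b.1)
    ⟨χ₀, hχ₀⟩ hdeg hm₀
  have hconv : ∀ f : IrrCharacter G → ℂ,
      ∑ b : {χ // χ ∈ B}, f b.1 = ∑ χ ∈ Finset.univ.filter (· ∈ B), f χ := fun f =>
    (Finset.sum_subtype _ (fun χ => by simp) f).symm
  obtain ⟨x, hgram, hnz, hkill, hF⟩ := exists_rows_orbits Γ hΓfree o
    (fun (b : {χ // χ ∈ B}) v => (ω v : ℂ) * mu D b.1 v) hωH
    (fun b τ hτ v hv => by
      obtain ⟨t, ht⟩ := id hτ
      subst ht
      simp only [hωst _ hτ v hv]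
      rw [mu_stable D hM hB hmax hP hreg t.2 hv rfl b.1])
    (fun v w hv hw => by
      simp only [map_mul, map_intCast]
      rw [Finset.sum_congr rfl fun b _ => show
        (ω v : ℂ) * mu D b.1 v * ((ω w : ℂ) * conj (mu D b.1 w)) =
          (ω v : ℂ) * (ω w : ℂ) * (mu D b.1 v * conj (mu D b.1 w)) by ring, ← Finset.mul_sum,
        hconv fun χ => mu D χ v * conj (mu D χ w)]
      split_ifs with h
      · obtain ⟨τ, hτ, rfl⟩ := h
        obtain ⟨t, ht⟩ := id hτ
        rw [hωst τ hτ v hv, Finset.sum_congr rfl fun χ _ => by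
          rw [show mu D χ (τ v) = mu D χ v from by
            subst ht; exact mu_stable D hM hB hmax hP hreg t.2 hv rfl χ],
          sum_mu_self D hM hB hmax hP hreg hv]
        rcases hω v hv with h' | h' <;> rw [h'] <;> simp
      · rw [sum_mu_ne D hM hB hmax hP hPC hreg hv hw fun t ht he => h
          ⟨_, ⟨⟨t, ht⟩, rfl⟩, Subtype.ext he⟩, mul_zero])
    (fun b => by
      obtain ⟨v, hv, hne⟩ := exists_mu_ne D hM hB hmax hP hPC hreg b.2 hP1
      exact ⟨v, hv, mul_ne_zero (by rcases hω v hv with h | h <;> rw [h] <;> norm_num) hne⟩)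
  refine ⟨x, fun i i' => by rw [hgram i i', hΓcard], hnz, fun i s hs => ?_, fun v hv g => ?_⟩
  · refine hkill (fun b => (b.1 : G → ℂ) s) (fun v hv => ?_) i
    simp only [mul_assoc]
    rw [← Finset.mul_sum, hconv fun χ => mu D χ v * conj ((χ : G → ℂ) s),
      sum_mu_regular D hM hB hmax hP hreg hv hs, mul_zero]
  · rw [Finset.sum_congr rfl fun b _ => by rw [← hF b v hv, mul_assoc], ← Finset.mul_sum,
      hconv fun χ => mu D χ v * (χ : G → ℂ) g, mul_div_assoc, mul_div_assoc]
    obtain ⟨h1, h2⟩ := sum_mu_div D hM hB hmax hP hreg hv g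
    exact ⟨(locRing M).mul_mem (intCast_mem (locRing M) _) (mem_locRing.2 h1),
      (locRing M).mul_mem (intCast_mem (locRing M) _) (mem_locRing.2 h2)⟩

open scoped Classical in
/-- The rows. -/
theorem exists_inertial_rows (hM : IsPModular p M) {B : Set (IrrCharacter G)} {P : Subgroup G}
    (hPD : IsDefectGroup p M B P) (hP1 : P ≠ ⊥)
    (hPC : P ≤ Subgroup.centralizer (P : Set G))
    {c : Set (IrrCharacter (Subgroup.centralizer (P : Set G)))}
    (hc : IsInducedBlock M (Subgroup.centralizer (P : Set G)) c B)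
    (hfree : FreeInertia P (zB M (Subgroup.centralizer (P : Set G)) c)) :
    ∃ (m : ℕ) (x : {χ // χ ∈ B} → Fin m → ℤ),
      m * (Subgroup.centralizer (P : Set G)).relIndex
          (stabP (P, zB M (Subgroup.centralizer (P : Set G)) c)) + 1 = Nat.card P ∧
      (∀ i i', ∑ b, x b i * x b i' = (if i = i' then 1 else 0) +
        ((Subgroup.centralizer (P : Set G)).relIndex
          (stabP (P, zB M (Subgroup.centralizer (P : Set G)) c)) : ℤ)) ∧
      (∀ b, ∃ i, x b i ≠ 0) ∧
      ∀ i, ∀ s : G, ¬ p ∣ orderOf s → ∑ b, (x b i : ℂ) * (b.1 : G → ℂ) s = 0 := by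
  letI : CommGroup P :=
    { (inferInstance : Group P) with
      mul_comm := fun a b => Subtype.ext (Subgroup.mem_centralizer_iff.1 (hPC b.2) a a.2) }
  obtain ⟨m, hm, ⟨o⟩⟩ := exists_orbits _ (autImage_free hfree
    (stabP_le_normalizer ((P, zB M (Subgroup.centralizer (P : Set G)) c) : Pr (resField M) G)))
  obtain ⟨x, h1, h2, h3, -⟩ := exists_inertial_rows_orbits hM hPD hP1 hPC hc hfree o
  exact ⟨m, x, (by rwa [card_autImage] at hm), h1, h2, h3⟩

end Cfsg.Agent.Abelian
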