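/-
Blocks with abelian defect group and free inertia: the number of characters and the rank.
-/
import Cfsg.Agent.Lib.Star.Abelian.Setup
import Cfsg.Agent.Lib.Star.Abelian.Comb
import Cfsg.Agent.Lib.Star.Abelian.DecompOne
import Cfsg.Agent.Lib.BrauerPairs.FreeInertia
import Cfsg.Agent.Lib.BrauerPairs.RankFull

set_option linter.unusedSectionVars false
set_option linter.style.haveILetI false

namespace Cfsg.Agent.Abelian

open Cfsg MonoidAlgebra Cfsg.Agent.Blocks Cfsg.Agent.BrauerPairs Cfsg.Agent.Char Cfsg.Agent.Star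
open scoped ComplexConjugate

universe u

variable {G : Type u} [Group G] [Fintype G] {p : ℕ} [Fact p.Prime] {M : Ideal AlgInt} [M.IsPrime]

/-- The trace of an idempotent is a natural number. -/
theorem exists_nat_chiTr (χ : IrrCharacter G) {e : MonoidAlgebra (locRing M) G} (he : e * e = e) :
    ∃ z : ℕ, chiTr χ e 1 = (z : ℂ) := by
  obtain ⟨n, ρ, E, hE, -⟩ := exists_chiTr_rep (M := M) χ
  have hEE : E e * E e = E e := by rw [← map_mul, he]
  refine ⟨Module.finrank ℂ (LinearMap.range (E e)), ?_⟩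
  rw [hE, map_one, one_mul]
  exact LinearMap.IsProj.trace ⟨fun x => ⟨x, rfl⟩,
    by rintro _ ⟨w, rfl⟩; exact LinearMap.congr_fun hEE w⟩

/-- A primitive idempotent on which a character of height zero has trace prime to `p`. -/
theorem exists_prim_value_not_mem (hM : IsPModular p M) [CharP (resField M) p]
    {B : Set (IrrCharacter G)} {P : Subgroup G} (hPD : IsDefectGroup p M B P)
    (hPC : P ≤ Subgroup.centralizer (P : Set G))
    {c : Set (IrrCharacter (Subgroup.centralizer (P : Set G)))}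
    (hc : IsInducedBlock M (Subgroup.centralizer (P : Set G)) c B) {χ : IrrCharacter G}
    (hχ : χ ∈ B) (h0 : blockHeight p B (χ : G → ℂ) = 0) :
    ∃ ê : MonoidAlgebra (locRing M) G, ê * ê = ê ∧ IsPrim (resG ê) ∧
      ¬ MemLocalIdeal M (chiTr χ ê 1) := by
  classical
  have hB := hc.2.1
  obtain ⟨hpB, -⟩ := abelian_pair hM hPD hPC hc
  have hmax : IsMax p (Ek M B) ((P, zB M (Subgroup.centralizer (P : Set G)) c) :
      Pr (resField M) G) := ⟨hpB, (isDefectGroup_iff hB P).1 hPD⟩
  obtain ⟨j, hjj, -, -, ê, hê, hêi, hêr, hval⟩ :=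
    exists_fix_idem hM hB hc.1 (e := c) hmax hPC hχ h0
  haveI := DefOne.isAlgClosed_resField (M := M)
  haveI : Module.Finite (resField M) (MonoidAlgebra (resField M) G) :=
    Module.Finite.equiv (MonoidAlgebra.coeffLinearEquiv (resField M)).symm
  obtain ⟨Spl⟩ := nonempty_splitting (k := resField M) (A := MonoidAlgebra (resField M) G)
  obtain ⟨D, hD, hO, hsum⟩ := Spl.exists_decomp j hjj
  have h11 : IsSec p (1 : G) 1 :=
    ⟨⟨0, by simp⟩, by simp [(Fact.out : p.Prime).ne_one], Commute.one_left 1⟩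
  have hsec : secGrp (1 : G) 1 ≤ ⊥ := secGrp_le (one_mem _) (one_mem _)
  have hbot : ∀ {R : Type} [CommRing R] (w : MonoidAlgebra R G), IsInvElt (⊥ : Subgroup G) w :=
    fun w u hu g => by rw [Subgroup.mem_bot.1 hu]; simp
  have htot : chiTr χ ê 1 = ∑ i ∈ D, tau χ 1 1 i := by
    rw [← tau_sum hM h11 χ D (fun i => i) (fun i hi => (hD i hi).1.idem)
      (fun i _ => isInvElt_mono hsec (hbot i)) hO, hsum,
      tau_eq hM h11 (H := ⊥) (one_mem _) (one_mem _) χ hê (hbot ê) hjj
        (isInvElt_mono hsec (hbot j)) (fun g _ => by rw [← hêr, coeff_resG]), one_mul]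
  obtain ⟨i, hi, hinot⟩ : ∃ i ∈ D, ¬ MemLocalIdeal M (tau χ 1 1 i) := by
    by_contra hcon
    push Not at hcon
    exact hval (htot ▸ memLocalIdeal_sum _ _ hcon)
  obtain ⟨f, hf, hfi, hfr⟩ := exists_idem_lift (hD i hi).1.idem (hbot i)
  refine ⟨f, hf, hfr ▸ (hD i hi).1, ?_⟩
  rwa [tau_eq hM h11 (H := ⊥) (one_mem _) (one_mem _) χ hf hfi (hD i hi).1.idem
    (isInvElt_mono hsec (hbot i)) (fun g _ => by rw [← hfr, coeff_resG]), one_mul] at hinot

/-- Characters agreeing on the regular elements lie in one block. -/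
theorem sameBlock_of_eq_regular (hM : IsPModular p M) {χ ψ : IrrCharacter G}
    (h : ∀ g, ¬ p ∣ orderOf g → (ψ : G → ℂ) g = (χ : G → ℂ) g) :
    SameBlock M (χ : G → ℂ) (ψ : G → ℂ) := by
  classical
  by_contra hne
  have h0 := sum_regular_eq_zero hM hne
  have e : ∀ x ∈ Finset.univ.filter (fun x : G => ¬ p ∣ orderOf x),
      (χ : G → ℂ) x * conj ((ψ : G → ℂ) x) = ((Complex.normSq ((χ : G → ℂ) x) : ℝ) : ℂ) :=
    fun x hx => by rw [h x (Finset.mem_filter.1 hx).2, Complex.mul_conj]
  rw [Finset.sum_congr rfl e, ← Complex.ofReal_sum, Complex.ofReal_eq_zero,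
    Finset.sum_eq_zero_iff_of_nonneg fun x _ => Complex.normSq_nonneg _] at h0
  exact irr_one_ne_zero χ (Complex.normSq_eq_zero.1 (h0 1 (by
    simp [(Fact.out : p.Prime).ne_one])))

/-- Two characters cannot be proportional on the regular elements with a ratio other than one. -/
theorem false_of_multiple (hM : IsPModular p M) {B : Set (IrrCharacter G)} {P : Subgroup G}
    (hPD : IsDefectGroup p M B P) (hPC : P ≤ Subgroup.centralizer (P : Set G))
    {c : Set (IrrCharacter (Subgroup.centralizer (P : Set G)))}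
    (hc : IsInducedBlock M (Subgroup.centralizer (P : Set G)) c B) (hPp : Nat.card P = p)
    (hcard : Nat.card B < p) {χ₁ χ₂ : IrrCharacter G} (h₁ : χ₁ ∈ B) (h₂ : χ₂ ∈ B) {e : ℕ}
    (he2 : 2 ≤ e) (hep : e < p) {u : ℤ} (hu : u = 1 ∨ u = -1)
    (hrel : ∀ s, ¬ p ∣ orderOf s → (χ₁ : G → ℂ) s = (u : ℂ) * (e : ℂ) * (χ₂ : G → ℂ) s) :
    False := by
  classical
  have hp : p.Prime := Fact.out
  haveI : CharP (resField M) p := resField_charP hM
  have hB := hc.2.1
  have hdef1 : blockDefect p B = 1 := by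
    have := card_defectGroup hM hB hPD
    rw [hPp] at this
    exact (Nat.pow_right_injective hp.two_le (show p ^ 1 = p ^ blockDefect p B by
      rw [pow_one]; exact this)).symm
  have hheight : ∀ χ ∈ B, blockHeight p B (χ : G → ℂ) = 0 := fun χ hχ => by
    by_contra h
    have := height_add_two_le hM hB hχ h
    omega
  have hdef : ∀ χ ∈ B, ∃ d : ℕ, (χ : G → ℂ) 1 = d ∧
      d.factorization p + 1 = (Nat.card G).factorization p := fun χ hχ => by
    refine ⟨charDegree (χ : G → ℂ), irr_one_eq_charDegree χ, ?_⟩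
    rw [(blockHeight_eq_zero_iff hM hB hχ).1 (hheight χ hχ), hdef1]
    have := blockDefect_le (p := p) B
    omega
  have h1 := hrel 1 (by simp [hp.ne_one])
  have hu1 : u = 1 := by
    rcases hu with h | h
    · exact h
    · exfalso
      rw [h, irr_one_eq_charDegree, irr_one_eq_charDegree] at h1
      have h2 : ((charDegree (χ₁ : G → ℂ) + e * charDegree (χ₂ : G → ℂ) : ℕ) : ℂ) = 0 := by
        push_cast at h1 ⊢
        linear_combination h1
      have h3 : charDegree (χ₁ : G → ℂ) = 0 := by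
        have := Nat.cast_eq_zero.1 h2
        omega
      exact irr_one_ne_zero χ₁ (by rw [irr_one_eq_charDegree, h3, Nat.cast_zero])
  subst hu1
  obtain ⟨ê, hê, hprim, hval⟩ := exists_prim_value_not_mem hM hPD hPC hc h₂ (hheight _ h₂)
  obtain ⟨z₁, hz₁⟩ := exists_nat_chiTr χ₁ hê
  obtain ⟨z₂, hz₂⟩ := exists_nat_chiTr χ₂ hê
  have hinv : IsInvElt (Subgroup.zpowers (1 : G)) ê := fun t ht g => by
    rw [Subgroup.zpowers_one_eq_bot, Subgroup.mem_bot] at ht
    rw [ht]; simp
  have h0 := sum_coeff_mul_eq_zero hM (s := (1 : G)) (by simp [hp.ne_one]) hê hinv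
    (g := fun w => (χ₁ : G → ℂ) w - (e : ℂ) * (χ₂ : G → ℂ) w)
    (fun a b => by simp only [irr_conj_invariant])
    (fun w hw => by rw [hrel w hw, Int.cast_one, one_mul, sub_self])
  have hzz : chiTr χ₁ ê 1 = (e : ℂ) * chiTr χ₂ ê 1 := by
    rw [← sub_eq_zero, ← h0]
    simp only [chiTr, one_mul, mul_sub, Finset.sum_sub_distrib, Finset.mul_sum]
    congr 1
    exact Finset.sum_congr rfl fun a _ => by ring
  rw [hz₁, hz₂, ← Nat.cast_mul, Nat.cast_inj] at hzz
  have hp2 : ¬ p ∣ z₂ := fun h => hval (by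
    rw [hz₂]; exact (natCast_memLocalIdeal_iff hM _).2 h)
  have hp1 : ¬ p ∣ z₁ := fun h => by
    rw [hzz] at h
    rcases hp.dvd_mul.1 h with h' | h'
    · exact absurd (Nat.le_of_dvd (by omega) h') (by omega)
    · exact hp2 h'
  have hΩ : ∀ χ ∈ B, Nat.card {ψ : IrrCharacter G //
      ∀ g, ¬ p ∣ orderOf g → (ψ : G → ℂ) g = (χ : G → ℂ) g} < p := fun χ hχ => by
    refine lt_of_le_of_lt (Nat.card_le_card_of_injective
      (fun ψ => (⟨ψ.1, ?_⟩ : B)) fun a b hab => Subtype.ext (congrArg (fun x : B => x.1) hab))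
      hcard
    rw [isPBlock_eq_blockOf hB hχ]
    exact sameBlock_of_eq_regular hM ψ.2
  have e1 := chiTr_eq_one hM χ₁ (hdef _ h₁) (hΩ _ h₁) hê hprim hz₁ hp1
  have e2 := chiTr_eq_one hM χ₂ (hdef _ h₂) (hΩ _ h₂) hê hprim hz₂ hp2
  rw [e1, e2, mul_one] at hzz
  omega

/-- Elements pairwise not conjugate under a group acting freely are few. -/
theorem mul_relIndex_le {P T : Subgroup G} (hTN : T ≤ Subgroup.normalizer (P : Set G))
    (hfree : ∀ g ∈ T, ∀ x ∈ P, x ≠ 1 → g * x * g⁻¹ = x → g ∈ Subgroup.centralizer (P : Set G))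
    {n : ℕ} (v : Fin n → G) (hv : ∀ i, v i ∈ P ∧ v i ≠ 1)
    (huniq : ∀ i j, ∀ t ∈ T, t * v i * t⁻¹ = v j → i = j) :
    n * (Subgroup.centralizer (P : Set G)).relIndex T + 1 ≤ Nat.card P := by
  classical
  set C := Subgroup.centralizer (P : Set G) with hC
  let T₀ : Finset G := Finset.univ.filter fun w => w ∈ P ∧ w ≠ 1
  have hT₀ : T₀.card + 1 = Nat.card P := by
    have e : T₀ = (Finset.univ.filter fun w => w ∈ P).erase 1 := by
      ext w; simp [T₀, and_comm]
    rw [e, Finset.card_erase_add_one (Finset.mem_filter.2 ⟨Finset.mem_univ _, one_mem _⟩),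
      Nat.card_eq_fintype_card, Fintype.card_subtype]
  haveI : Fintype (↥T ⧸ C.subgroupOf T) := Fintype.ofFinite _
  have hle : (Finset.univ : Finset (Fin n × (↥T ⧸ C.subgroupOf T))).card ≤ T₀.card := by
    refine Finset.card_le_card_of_injOn
      (fun q => (q.2.out : G) * v q.1 * (q.2.out : G)⁻¹) ?_ ?_
    · rintro ⟨i, q⟩ -
      refine Finset.mem_filter.2 ⟨Finset.mem_univ _,
        (Subgroup.mem_normalizer_iff.1 (hTN q.out.2) _).1 (hv i).1, ?_⟩
      simpa using (hv i).2
    · rintro ⟨i, q⟩ - ⟨j, q'⟩ - h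
      beta_reduce at h
      simp only at h
      have ht : ((q'.out : G)⁻¹ * q.out) * v i * ((q'.out : G)⁻¹ * q.out)⁻¹ = v j := by
        calc ((q'.out : G)⁻¹ * q.out) * v i * ((q'.out : G)⁻¹ * q.out)⁻¹
            = (q'.out : G)⁻¹ * ((q.out : G) * v i * (q.out : G)⁻¹) * q'.out := by group
          _ = v j := by rw [h]; group
      obtain rfl := huniq i j _ (mul_mem (inv_mem q'.out.2) q.out.2) ht
      have hmem := hfree _ (mul_mem (inv_mem q'.out.2) q.out.2) _ (hv i).1 (hv i).2 ht
      have hq : (QuotientGroup.mk q'.out : ↥T ⧸ C.subgroupOf T) = QuotientGroup.mk q.out :=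
        QuotientGroup.eq.2 (Subgroup.mem_subgroupOf.2 (by simpa using hmem))
      rw [QuotientGroup.out_eq', QuotientGroup.out_eq'] at hq
      rw [hq]
  rw [Finset.card_univ, Fintype.card_prod, Fintype.card_fin, ← Nat.card_eq_fintype_card] at hle
  rw [Subgroup.relIndex, Subgroup.index]
  omega

/-- The rank is bounded by the characters less the rows. -/
theorem blockRank_add_le {B : Set (IrrCharacter G)} [Fintype {χ // χ ∈ B}] {m e : ℕ}
    (x : {χ // χ ∈ B} → Fin m → ℤ)
    (hgram : ∀ i i', ∑ b, x b i * x b i' = (if i = i' then 1 else 0) + (e : ℤ))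
    (hkill : ∀ i, ∀ s : G, ¬ p ∣ orderOf s → ∑ b, (x b i : ℂ) * (b.1 : G → ℂ) s = 0) :
    blockRank p B + m ≤ Nat.card B := by
  classical
  let L : ({χ // χ ∈ B} → ℂ) →ₗ[ℂ] (G → ℂ) :=
    Fintype.linearCombination ℂ fun b => pRegularPart p (b.1 : G → ℂ)
  have hrange : LinearMap.range L = Submodule.span ℂ
      ((fun χ : IrrCharacter G => pRegularPart p (χ : G → ℂ)) '' B) := by
    rw [Fintype.range_linearCombination, Set.image_eq_range]
  have hker : ∀ i, (fun b => (x b i : ℂ)) ∈ LinearMap.ker L := fun i => by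
    rw [LinearMap.mem_ker]
    funext s
    simp only [L, Fintype.linearCombination_apply, Finset.sum_apply, Pi.smul_apply, smul_eq_mul,
      pRegularPart_apply, Pi.zero_apply]
    by_cases hs : p ∣ orderOf s
    · simp [hs]
    · simpa [hs] using hkill i s hs
  have hli : LinearIndependent ℂ (fun i => (⟨_, hker i⟩ : LinearMap.ker L)) := by
    refine LinearIndependent.of_comp (LinearMap.ker L).subtype
      (Fintype.linearIndependent_iff.2 fun c hc i => ?_)
    have key : ∀ i', c i' + (e : ℂ) * ∑ j, c j = 0 := by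
      intro i'
      have h := congrArg (fun f : {χ // χ ∈ B} → ℂ => ∑ b, (x b i' : ℂ) * f b) hc
      simp only [Finset.sum_apply, Pi.smul_apply, smul_eq_mul, Function.comp_apply,
        Submodule.coe_subtype, Pi.zero_apply, mul_zero, Finset.sum_const_zero, Finset.mul_sum] at h
      rw [Finset.sum_comm, Finset.sum_congr rfl fun j _ => show
        ∑ b, (x b i' : ℂ) * (c j * (x b j : ℂ)) = c j * ((∑ b, x b i' * x b j : ℤ) : ℂ) by
        push_cast; rw [Finset.mul_sum]; exact Finset.sum_congr rfl fun b _ => by ring] at h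
      simp only [hgram, mul_add, Int.cast_add, Int.cast_natCast, Finset.sum_add_distrib] at h
      rw [Finset.sum_eq_single i' (fun j _ hj => by simp [Ne.symm hj]) (by simp),
        ← Finset.sum_mul] at h
      simp only [if_pos, Int.cast_one, mul_one] at h
      linear_combination h
    have hS : (∑ j, c j) * (1 + (e : ℂ) * m) = 0 := by
      have h : ∑ i' : Fin m, (c i' + (e : ℂ) * ∑ j, c j) = 0 :=
        Finset.sum_eq_zero fun i' _ => key i'
      rw [Finset.sum_add_distrib, Finset.sum_const, Finset.card_univ, Fintype.card_fin,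
        nsmul_eq_mul] at h
      linear_combination h
    have hne : (1 + (e : ℂ) * m) ≠ 0 := by
      exact_mod_cast (by omega : 1 + e * m ≠ 0)
    have h := key i
    rwa [(mul_eq_zero.1 hS).resolve_right hne, mul_zero, add_zero] at h
  have h1 := hli.fintype_card_le_finrank
  rw [Fintype.card_fin] at h1
  have h2 := L.finrank_range_add_finrank_ker
  rw [hrange, Module.finrank_pi] at h2
  show _ ≤ Nat.card {χ // χ ∈ B}
  rw [blockRank, Nat.card_eq_fintype_card]
  omega

/-- The counts of a block with abelian defect group and free inertia. -/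
theorem abelian_free_counts (hM : IsPModular p M) {B : Set (IrrCharacter G)} {P : Subgroup G}
    (hPD : IsDefectGroup p M B P) (hP1 : P ≠ ⊥)
    (hPC : P ≤ Subgroup.centralizer (P : Set G))
    {c : Set (IrrCharacter (Subgroup.centralizer (P : Set G)))}
    (hc : IsInducedBlock M (Subgroup.centralizer (P : Set G)) c B)
    (hfree : FreeInertia P (zB M (Subgroup.centralizer (P : Set G)) c)) {e : ℕ}
    (he : (Subgroup.centralizer (P : Set G)).relIndex
      (stabP (P, zB M (Subgroup.centralizer (P : Set G)) c)) = e) :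
    ∃ m, m * e + 1 = Nat.card P ∧ 1 ≤ e ∧ Nat.card B = blockRank p B + m ∧
      blockRank p B ≤ e ∧ (e ≤ 3 → blockRank p B = e) := by
  classical
  subst he
  have hp : p.Prime := Fact.out
  haveI : CharP (resField M) p := resField_charP hM
  set e := (Subgroup.centralizer (P : Set G)).relIndex
    (stabP (P, zB M (Subgroup.centralizer (P : Set G)) c)) with he
  have hB := hc.2.1
  obtain ⟨m, x, hm, hgram, hnz, hkill⟩ := exists_inertial_rows hM hPD hP1 hPC hc hfree
  rw [← he] at hm hgram
  have hlm := blockRank_add_le x hgram hkill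
  obtain ⟨n, v, hk, hv, huniq⟩ := exists_orbit_reps hM hPD hPC hc hfree
  have hn := mul_relIndex_le (P := P) (stabP_le_normalizer _) hfree v hv huniq
  rw [← he] at hn
  have hP2 : 1 < Nat.card P := (Subgroup.one_lt_card_iff_ne_bot P).2 hP1
  have he0 : e ≠ 0 := Subgroup.index_ne_zero_of_finite
  have hnm : n ≤ m := Nat.le_of_mul_le_mul_right (by omega) (Nat.pos_of_ne_zero he0)
  have hm1 : 1 ≤ m := by
    rcases Nat.eq_zero_or_pos m with h | h
    · rw [h, zero_mul] at hm; omega
    · exact h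
  have hl1 := one_le_blockRank hM hB
  have hcardB : Fintype.card {χ // χ ∈ B} = Nat.card B := Nat.card_eq_fintype_card.symm
  obtain ⟨hle, hcases⟩ := rows_cases hm1 x hgram hnz (by omega)
  refine ⟨m, hm, by omega, by omega, by omega, fun he3 => ?_⟩
  rcases hcases he3 with h | ⟨h3, hm3⟩ | ⟨he2, hme, b₁, b₂, u, hu, hrel⟩
  · omega
  · exfalso
    obtain ⟨a, (ha : Nat.card P = p ^ a)⟩ :=
      ((isDefectGroup_iff hB P).1 hPD).pgroup.exists_card_eq
    rw [h3, hm3] at hm
    have hpa : p ^ a = 10 := by omega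
    have ha4 : a < 4 := by
      by_contra h
      have := Nat.pow_le_pow_right (by omega : 1 ≤ 2) (not_lt.1 h)
      have := Nat.pow_le_pow_left hp.two_le a
      omega
    interval_cases a
    · rw [pow_zero] at hpa; omega
    · rw [pow_one] at hpa; subst hpa; exact absurd hp (by norm_num)
    · have : p ≤ 3 := by
        by_contra h
        have := Nat.pow_le_pow_left (show 4 ≤ p by omega) 2
        omega
      interval_cases p <;> omega
    · have : p ≤ 2 := by
        by_contra h
        have := Nat.pow_le_pow_left (show 3 ≤ p by omega) 3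
        omega
      interval_cases p <;> omega
  · exfalso
    obtain ⟨a, (ha : Nat.card P = p ^ a)⟩ :=
      ((isDefectGroup_iff hB P).1 hPD).pgroup.exists_card_eq
    have hPp : Nat.card P = p := by
      have hprime : (Nat.card P).Prime := by
        rw [← hm, hme]
        interval_cases e <;> norm_num
      rw [ha] at hprime ⊢
      rw [(Nat.Prime.pow_eq_iff hprime).1 rfl |>.2, pow_one]
    have hlt : Nat.card B < p ∧ e < p := by
      rw [← hPp, ← hm, hme, ← hcardB]
      interval_cases e <;> omega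
    exact false_of_multiple hM hPD hPC hc hPp hlt.1 b₁.2 b₂.2 he2 hlt.2 hu
      fun s hs => hrel (fun b => (b.1 : G → ℂ) s) fun i => hkill i s hs

end Cfsg.Agent.Abelian
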