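/-
A block with cyclic defect group has as many simple modules as its inertial index.
-/
import Cfsg.Agent.Lib.Star.Abelian.Count
import Cfsg.Agent.Lib.Star.Abelian.Fusion
import Cfsg.Agent.Lib.BlockAlg.BlockSimples
import Cfsg.Agent.Lib.BlockAlg.CyclicRankOne
import Cfsg.Agent.Lib.BrauerPairs.CyclicNilpotent
import Cfsg.Agent.Lib.Stable.Exists
import Mathlib.RingTheory.ZMod.UnitsCyclic

set_option linter.unusedSectionVars false
set_option linter.style.haveILetI false

namespace Cfsg.Agent.Abelian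

open Cfsg MonoidAlgebra Cfsg.Agent.Blocks Cfsg.Agent.BrauerPairs Cfsg.Agent.BlockAlg
  Cfsg.Agent.Stable
open scoped Classical

universe u

variable {G : Type u} [Group G] [Fintype G] {p : ℕ} [Fact p.Prime] {M : Ideal AlgInt} [M.IsPrime]

theorem em_restr_of_supp {k : Type} [Field k] (H : Subgroup G) {y : MonoidAlgebra k G}
    (hy : ∀ g, g ∉ H → y.coeff g = 0) : em H (restr H y) = y := by
  rw [em_eq_emb]; exact emb_restr hy

/-- The uniserial structure of the local block at an element of order `p`. -/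
theorem exists_local_uniserial (hM : IsPModular p M) {b : Set (IrrCharacter G)}
    (hb : IsPBlock M b) {P : Subgroup G} (hPD : IsDefectGroup p M b P) (hcyc : IsCyclic P)
    (hl : blockRank p b = 1) :
    ∃ (f : ℕ) (U : Uniserial (resField M) (MonoidAlgebra (resField M) G) f) (s : G) (c : resField M),
      U.ε = Ek M b ∧ P ≤ Subgroup.centralizer ({s} : Set G) ∧
        ((P.relIndex (Subgroup.centralizer ({s} : Set G)) : ℕ) : resField M) ≠ 0 ∧ c ≠ 0 ∧
        IsNilpotent ((classSum (resField M) s - c • 1) * U.ε) := by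
  haveI : CharP (resField M) p := resField_charP hM
  obtain ⟨t, -, -, hlam, hsyl⟩ := (isDefectGroup_iff hb P).1 hPD
  rw [top_inf_eq] at hsyl
  have hcl : InZ (⊤ : Subgroup G) (classSum (resField M) t) :=
    isClassElt_iff_inZ_top.2 (isClassElt_gaOfFun fun x h => by
      simp only [Set.indicator, Pi.one_apply]
      exact if_congr (isConj_conj_iff t x h) rfl rfl)
  have hK := lam_spec (isBlk_Ek hb) hcl
  rw [classSumIn_top] at hlam
  obtain ⟨f, F, hf, hFs, hFe, J, n, hJ, hker⟩ := exists_surjective_rep hM hb hl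
  let D : BlockAlg.CornerData (resField M) (MonoidAlgebra (resField M) G) f :=
    { e := Ek M b
      e_idem := Ek_idem hb
      e_comm := fun b => IsClassElt.comm (isClassElt_Ek _) b
      F := F
      F_surj := hFs
      F_e := hFe
      J := J
      nJ := n
      J_pow := hJ
      ker_le := hker }
  obtain ⟨φ⟩ := exists_frame_exact hf D
  haveI : Module.Finite (resField M) (MonoidAlgebra (resField M) G) :=
    Module.Finite.equiv (MonoidAlgebra.coeffLinearEquiv (resField M)).symm
  obtain ⟨U, hUe, -⟩ := exists_uniserial φ (rad_le_one_of_bounded hf φ (bd := Nat.card G)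
    fun m ρ hρ => exists_bounded_pieces hsyl.pgroup hcyc hsyl.le
      (not_dvd_relIndex_of_isSylowIn hsyl) hlam hK ρ hρ)
  refine ⟨f, U, t, _, hUe, hsyl.le, fun h => ?_, hlam, ?_⟩
  · exact not_dvd_relIndex_of_isSylowIn hsyl ((CharP.cast_eq_zero_iff (resField M) p _).1 h)
  · rw [hUe]; exact hK

set_option maxHeartbeats 2000000 in
/-- The rank of a block with cyclic defect group is at least its inertial index, which divides
`p - 1`. -/
theorem cyclic_inertia_le_rank (hM : IsPModular p M) {B : Set (IrrCharacter G)} {P : Subgroup G}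
    (hPD : IsDefectGroup p M B P) (hcyc : IsCyclic P) (hP1 : P ≠ ⊥)
    {c : Set (IrrCharacter (Subgroup.centralizer (P : Set G)))}
    (hc : IsInducedBlock M (Subgroup.centralizer (P : Set G)) c B) :
    (Subgroup.centralizer (P : Set G)).relIndex
        (stabP (P, zB M (Subgroup.centralizer (P : Set G)) c)) ∣ p - 1 ∧
      (Subgroup.centralizer (P : Set G)).relIndex
        (stabP (P, zB M (Subgroup.centralizer (P : Set G)) c)) ≤ blockRank p B := by
  have hp : p.Prime := Fact.out
  haveI : CharP (resField M) p := resField_charP hM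
  haveI : IsAlgClosed (resField M) := DefOne.isAlgClosed_resField
  let k := resField M
  let C := Subgroup.centralizer (P : Set G)
  let zc := zB M C c
  have hB := hc.2.1
  have hD := (isDefectGroup_iff hB P).1 hPD
  have hPC : P ≤ C := cyclic_le_centralizer hcyc
  obtain ⟨hpB, -⟩ := abelian_pair hM hPD hPC hc
  have hmax : IsMax p (Ek M B) ((P, zc) : Pr k G) := ⟨hpB, hD⟩
  -- the element of order `p`
  have hdvd : p ∣ Nat.card P := by
    obtain ⟨n, hn⟩ := IsPGroup.iff_card.1 hD.pgroup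
    rcases Nat.eq_zero_or_pos n with rfl | hn0
    · exact absurd (Subgroup.eq_bot_of_card_eq P (by rw [hn, pow_zero])) hP1
    · rw [hn]; exact dvd_pow_self _ hn0.ne'
  obtain ⟨⟨z0, hz0P⟩, hz0o⟩ := exists_prime_orderOf_dvd_card' p hdvd
  rw [Subgroup.orderOf_mk] at hz0o
  set Z := Subgroup.zpowers z0 with hZ
  have hZP : Z ≤ P := Subgroup.zpowers_le.2 hz0P
  have hz01 : z0 ≠ 1 := fun h => by rw [h, orderOf_one] at hz0o; exact hp.ne_one hz0o.symm
  have hZp : IsPGroup p Z := IsPGroup.of_card (n := 1) (by rw [Nat.card_zpowers, hz0o, pow_one])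
  haveI := hcyc
  haveI : Fintype P := Fintype.ofFinite P
  have huniq : ∀ x ∈ P, x ^ p = 1 → x ∈ Z := by
    intro x hx hxp
    let S : Finset P := Finset.univ.filter fun y => y ^ p = 1
    let T : Finset P := Finset.univ.filter fun y => (y : G) ∈ Z
    have hTS : T ⊆ S := fun y hy => by
      simp only [T, S, Finset.mem_filter, Finset.mem_univ, true_and] at hy ⊢
      refine Subtype.ext ?_
      obtain ⟨j, hj⟩ := Subgroup.mem_zpowers_iff.1 hy
      rw [SubgroupClass.coe_pow, ← hj, ← zpow_natCast, ← zpow_mul, mul_comm, zpow_mul,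
        zpow_natCast, ← hz0o, pow_orderOf_eq_one, one_zpow, OneMemClass.coe_one]
    have hTc : T.card = p := by
      rw [← hz0o, ← Nat.card_zpowers, ← hZ, Nat.card_eq_fintype_card, ← Finset.card_univ]
      refine Finset.card_bij (fun y hy => (⟨(y : G), (Finset.mem_filter.1 hy).2⟩ : Z))
        (fun _ _ => Finset.mem_univ _) (fun a _ b _ h => Subtype.ext (congrArg (fun w : Z => (w : G)) h))
        fun w _ => ⟨⟨(w : G), hZP w.2⟩, Finset.mem_filter.2 ⟨Finset.mem_univ _, w.2⟩, rfl⟩
    have heq : T = S := Finset.eq_of_subset_of_card_le hTS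
      (by rw [hTc]; exact IsCyclic.card_pow_eq_one_le hp.pos)
    have : (⟨x, hx⟩ : P) ∈ T := heq ▸ Finset.mem_filter.2 ⟨Finset.mem_univ _, Subtype.ext hxp⟩
    exact (Finset.mem_filter.1 this).2
  -- the local block
  set C1 := Subgroup.centralizer ({z0} : Set G) with hC1
  have hC1Z : C1 = Subgroup.centralizer (Z : Set G) := (centralizer_zpowers_eq z0).symm
  have hCC1 : C ≤ C1 := Subgroup.centralizer_le (Set.singleton_subset_iff.2 hz0P)
  have hPC1 : P ≤ C1 := hPC.trans hCC1
  have hfree : FreeInertia P zc := fun g hg x hx hx1 hfix =>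
    cyclic_free hM hPD hcyc hc hg hx hx1 hfix
  obtain ⟨b, hb⟩ := exists_local_block hM hPD hPC hc hCC1
  have hl : blockRank p b = 1 := free_local_rank_one hM hPD hPC hc hfree hz0P hz01 hb
  have hpp := pairOf_self (M := M) hc.1 hD.pgroup hPC rfl
  have hpf : IsPairOf p C1 (zB M C1 b) (P, zc) := pairOf_of_inducedIn hM hCC1 hb hpp inf_le_right
  have hnoT := hpB.noExt hD
  have hnoH : NoExt p C1 ((P, zc) : Pr k G) := fun w hw => by
    have hCb : Subgroup.centralizer (w.1 : Set G) ≤ C1 := (Subgroup.centralizer_le hw.le).trans hCC1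
    exact hnoT w ⟨hpB.pair, ((isPair_sub_iff hCb).1 hw.right).1, hw.le, hw.normal, hw.inv, hw.occ⟩
  have hdf : IsDefectGroup p M b (P.subgroupOf C1) :=
    (isDefectGroup_subgroupOf_iff hb.2.1 hPC1).2 (hnoH.isDefGrp hpf)
  have hcyc1 : IsCyclic (P.subgroupOf C1) :=
    (Subgroup.subgroupOfEquivOfLe hPC1).isCyclic.2 hcyc
  obtain ⟨f, U, s, cs, hUε, hs, hidx, hcs, hK⟩ := exists_local_uniserial hM hb.2.1 hdf hcyc1 hl
  set ε := zB M C1 b with hε
  have hemε : em C1 U.ε = ε := by rw [hUε]; rfl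
  have hεblk : IsBlk C1 ε := isBlk_zB C1 hb.2.1
  have hinj : Function.Injective (em (k := k) C1) := emb_injective C1
  -- the subpair
  have hpairZ : IsPair p ⊤ ((Z, ε) : Pr k G) := ⟨hZp, le_top, by rw [top_inf_eq, ← hC1Z]; exact hεblk⟩
  have hnsub : NSub p ⊤ ((Z, ε) : Pr k G) (P, zc) := by
    refine ⟨hpairZ, hpB.pair, hZP, fun u hu => ?_, hεblk.inZ.isInvElt hPC1, hpf.occ⟩
    exact (Subgroup.centralizer_le_normalizer (Z : Set G)) (hC1Z ▸ hPC1 hu)
  have hsub : SubLE p ⊤ ((Z, ε) : Pr k G) (P, zc) := Relation.ReflTransGen.single hnsub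
  have hoccB : brTrunc Z (Ek M B) * ε = ε := ((hsub.pairOf_iff).2 hpB).occ
  -- the stabiliser
  let T := stabP ((P, zc) : Pr k G)
  set H0 := stabP ((Z, ε) : Pr k G) with hH0
  set N0 := Subgroup.normalizer (Z : Set G) with hN0
  have hC1H0 : C1 ≤ H0 := by
    rw [hC1Z]; exact centralizer_le_stabP (b := ((Z, ε) : Pr k G)) (show IsBlk (Subgroup.centralizer (Z : Set G)) ε from
      hC1Z ▸ hεblk)
  have hH0N : H0 ≤ N0 := stabP_le_normalizer _
  have hconj : ∀ g ∈ N0, ∀ x ∈ C1, g * x * g⁻¹ ∈ C1 := fun g hg x hx => by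
    rw [hC1Z] at hx ⊢
    exact (BrauerPairs.mem_centralizer_conj_iff hg).2 hx
  have hTH0 : T ≤ H0 := by
    intro t ht
    have htZ : cjS t Z = Z := by
      refine Subgroup.eq_of_le_of_card_ge ?_ (card_cjS t Z).ge
      rintro _ ⟨w, hw, rfl⟩
      refine huniq _ ((Subgroup.mem_normalizer_iff.1 ht.1 w).1 (hZP hw)) ?_
      have hwp : w ^ p = 1 := by
        rw [← hz0o]
        obtain ⟨j, rfl⟩ := Subgroup.mem_zpowers_iff.1 hw
        rw [← zpow_natCast, ← zpow_mul, mul_comm, zpow_mul, zpow_natCast, pow_orderOf_eq_one,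
          one_zpow]
      simp [conj_pow, hwp]
    refine ⟨mem_normalizer_of_cjS_eq htZ, ?_⟩
    have h1 := hsub.cjT t
    rw [cjP_eq_self ht] at h1
    obtain ⟨w, -, hw⟩ := existsUnique_below hpB.pair hZP
    have e1 := hw ε hsub
    have e2 := hw (cj t ε) (by
      have : cjP t ((Z, ε) : Pr k G) = (Z, cj t ε) := Prod.ext htZ rfl
      rwa [this] at h1)
    exact e2.trans e1.symm
  -- the action on `Z`
  let ψ : H0 →* MulAut Z := (Subgroup.normalizerMonoidHom Z).comp (Subgroup.inclusion hH0N)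
  have hψker : ∀ h : H0, ψ h = 1 ↔ (h : G) ∈ C1 := fun h => by
    rw [hC1Z, ← MonoidHom.mem_ker, ← MonoidHom.comap_ker, Subgroup.normalizerMonoidHom_ker]
    exact Iff.rfl
  have hker : ψ.ker = C1.subgroupOf H0 := Subgroup.ext fun h => by
    rw [MonoidHom.mem_ker, hψker, Subgroup.mem_subgroupOf]
  haveI : IsCyclic Z := Subgroup.isCyclic_zpowers z0
  have hcardZ : Nat.card Z = p := by rw [Nat.card_zpowers, hz0o]
  haveI : IsCyclic (MulAut Z) := by
    haveI : IsCyclic (ZMod (Nat.card Z))ˣ := by rw [hcardZ]; exact ZMod.isCyclic_units_prime hp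
    exact (IsCyclic.mulAutMulEquiv Z).isCyclic.2 inferInstance
  have hcardAut : Nat.card (MulAut Z) = p - 1 := by
    rw [Nat.card_congr (IsCyclic.mulAutMulEquiv Z).toEquiv, hcardZ, Nat.card_eq_fintype_card,
      ZMod.card_units p]
  obtain ⟨γ, hγ⟩ := IsCyclic.exists_ofOrder_eq_natCard (α := ψ.range)
  obtain ⟨⟨g0, hg0⟩, hg0γ⟩ := γ.2
  -- the inertial index
  have hCT : C ≤ T := centralizer_le_stabP (b := ((P, zc) : Pr k G)) (by simpa [top_inf_eq] using hpB.pair.blk)
  have hee : C.relIndex T = C1.relIndex H0 := by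
    have hTC : ∀ t ∈ T, t ∈ C1 → t ∈ C := fun t ht htC => hfree t ht z0 hz0P hz01 (by
      rw [Subgroup.mem_centralizer_singleton_iff.1 htC, mul_inv_cancel_right])
    refine Nat.card_eq_of_bijective (Quotient.map' (Subgroup.inclusion hTH0) fun a b h => ?_) ⟨?_, ?_⟩
    · rw [QuotientGroup.leftRel_apply, Subgroup.mem_subgroupOf] at h ⊢
      exact hCC1 h
    · rintro ⟨a⟩ ⟨b⟩ hab
      refine QuotientGroup.eq.2 (Subgroup.mem_subgroupOf.2 (hTC _ (a⁻¹ * b).2 ?_))
      have hab' : (QuotientGroup.mk (Subgroup.inclusion hTH0 a) : H0 ⧸ C1.subgroupOf H0) =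
          QuotientGroup.mk (Subgroup.inclusion hTH0 b) := hab
      have h2 := Subgroup.mem_subgroupOf.1 (QuotientGroup.eq.1 hab')
      exact h2
    · rintro ⟨h⟩
      have hh : cjP (h : G) ((Z, ε) : Pr k G) = (Z, ε) := cjP_eq_self h.2
      obtain ⟨t, ht, htz⟩ := exists_stab_of_fusion hmax hsub (x := (h : G))
        (by rw [hh]; exact hsub) hPC
      refine ⟨QuotientGroup.mk ⟨t, ht⟩, QuotientGroup.eq.2 (Subgroup.mem_subgroupOf.2 ?_)⟩
      refine Subgroup.mem_centralizer_singleton_iff.2 ?_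
      have e := htz z0 (Subgroup.mem_zpowers z0)
      show t⁻¹ * (h : G) * z0 = z0 * (t⁻¹ * (h : G))
      calc t⁻¹ * (h : G) * z0 = t⁻¹ * ((h : G) * z0 * (h : G)⁻¹) * h := by group
        _ = t⁻¹ * (t * z0 * t⁻¹) * h := by rw [e]
        _ = z0 * (t⁻¹ * h) := by group
  set e := C1.relIndex H0 with he
  have hcardR : Nat.card ψ.range = e := by rw [← Subgroup.index_ker, hker]; rfl
  have hdiv : e ∣ p - 1 := by
    rw [← hcardR, ← hcardAut]
    exact Subgroup.card_subgroup_dvd_card _
  rw [hee]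
  refine ⟨hdiv, ?_⟩
  have hene : (e : k) ≠ 0 := fun h => not_dvd_inertia hM hPD hPC hc (by
    rw [hee]; exact (CharP.cast_eq_zero_iff k p _).1 h)
  have hγo : orderOf (ψ ⟨g0, hg0⟩) = e := by
    rw [hg0γ, Subgroup.orderOf_coe, hγ, hcardR]
  have hgen : ∀ h ∈ H0, ∃ n : ℤ, (g0 ^ n)⁻¹ * h ∈ C1 := by
    intro h hh
    have hall : Subgroup.zpowers γ = ⊤ := Subgroup.eq_top_of_card_eq _ (by rw [Nat.card_zpowers, hγ])
    obtain ⟨n, hn⟩ := Subgroup.mem_zpowers_iff.1
      (hall ▸ Subgroup.mem_top (⟨ψ ⟨h, hh⟩, _, rfl⟩ : ψ.range))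
    refine ⟨n, ?_⟩
    have hn' : ψ (⟨g0, hg0⟩ ^ n) = ψ ⟨h, hh⟩ := by
      rw [map_zpow, hg0γ, ← SubgroupClass.coe_zpow, hn]
    have : ψ ((⟨g0, hg0⟩ ^ n)⁻¹ * ⟨h, hh⟩) = 1 := by rw [map_mul, map_inv, hn', inv_mul_cancel]
    simpa using (hψker _).1 this
  have hge : g0 ^ e ∈ C1 := by
    have : ψ (⟨g0, hg0⟩ ^ e) = 1 := by rw [map_pow, ← hγo, pow_orderOf_eq_one]
    simpa using (hψker _).1 this
  have hord : ∀ n : ℤ, g0 ^ n ∈ C1 → (e : ℤ) ∣ n := fun n hn => by
    rw [← hγo, orderOf_dvd_iff_zpow_eq_one, ← map_zpow]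
    exact (hψker _).2 (by simpa using hn)
  -- the radical at `z0`
  have hz0C1 : z0 ∈ C1 := Subgroup.mem_centralizer_singleton_iff.2 rfl
  set zz : C1 := ⟨z0, hz0C1⟩
  have hzc' : ∀ x : MonoidAlgebra k C1,
      Commute (MonoidAlgebra.single zz (1 : k)) x := fun x => by
    rw [← sum_coeff_single' x]
    refine Commute.sum_right _ _ _ fun w _ => ?_
    refine Commute.smul_right ?_ _
    show _ * _ = _ * _
    simp only [MonoidAlgebra.single_mul_single]
    congr 1
    exact Subtype.ext (Subgroup.mem_centralizer_singleton_iff.1 w.2).symm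
  set y := (MonoidAlgebra.single zz (1 : k) - 1) * U.ε with hy
  have hyc : ∀ x, y * x = x * y := fun x =>
    (((hzc' x).sub_left (Commute.one_left x)).mul_left
      (show Commute U.ε x from U.ε_comm x)).eq
  have hyε : y * U.ε = y := by rw [hy, mul_assoc, U.ε_idem]
  have hynil : IsNilpotent y := by
    haveI : CharP (MonoidAlgebra k C1) p :=
      charP_of_injective_algebraMap (FaithfulSMul.algebraMap_injective k _) p
    refine Commute.isNilpotent_mul_right ((hzc' U.ε).sub_left (Commute.one_left _)) ⟨p, ?_⟩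
    have hzp : zz ^ p = 1 := Subtype.ext (by
      show z0 ^ p = 1
      rw [← hz0o, pow_orderOf_eq_one])
    rw [sub_pow_char_of_commute p (Commute.one_right _), one_pow, MonoidAlgebra.single_pow, hzp,
      one_pow, ← MonoidAlgebra.one_def, sub_self]
  obtain ⟨wy, hwy⟩ := U.exists_eq_mul hyc hynil hyε
  have hy0 : y ≠ 0 := by
    intro h0
    obtain ⟨u, hu⟩ : ∃ u, (Ek M b).coeff u ≠ 0 := by
      by_contra h
      push Not at h
      exact Ek_ne_zero hb.2.1 (gaExt fun u => by simpa using h u)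
    have hureg : ¬ p ∣ orderOf u := fun h => hu (by
      rw [coeff_Ek hb.2.1]
      convert map_zero (res M)
      exact Subtype.ext (blockCoeff_eq_zero_of_singular hM hb.2.1 h))
    have hsing : p ∣ orderOf (zz * u) := by
      have hcm : Commute zz u := Subtype.ext
        (Subgroup.mem_centralizer_singleton_iff.1 u.2).symm
      have ho : orderOf zz = p := by rw [← hz0o, ← Subgroup.orderOf_coe]
      rw [hcm.orderOf_mul_eq_mul_orderOf_of_coprime
        (ho ▸ (Nat.Prime.coprime_iff_not_dvd hp).2 hureg), ho]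
      exact dvd_mul_right _ _
    rw [hy, sub_mul, one_mul, sub_eq_zero, hUε] at h0
    have h1 := congrArg (fun w : MonoidAlgebra k C1 => w.coeff (zz * u)) h0
    simp only [coeff_Ek hb.2.1 (zz * u)] at h1
    rw [coeff_mul_univ, Finset.sum_eq_single zz (fun a _ ha => by simp [Ne.symm ha]) (by simp)] at h1
    simp only [inv_mul_cancel_left, MonoidAlgebra.coeff_single, Finsupp.single_eq_same, one_mul] at h1
    refine hu (h1.trans ?_)
    convert map_zero (res M)
    exact Subtype.ext (blockCoeff_eq_zero_of_singular hM hb.2.1 hsing)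
  have htwo : 2 ≤ U.N := by
    by_contra h
    have hN1 : U.N = 1 := by have := U.N_pos; omega
    have hη0 := U.η_pow
    rw [hN1, pow_one] at hη0
    exact hy0 (by rw [hwy, hη0, zero_mul])
  have hFz : U.F (MonoidAlgebra.single zz (1 : k)) = 1 := by
    have h1 : U.F y = 0 := by rw [hwy, map_mul, U.F_η, zero_mul]
    rwa [hy, map_mul, map_sub, map_one, U.F_ε, mul_one, sub_eq_zero] at h1
  -- the setting
  have hsupp : ∀ h ∈ N0, ∀ x : MonoidAlgebra k C1,
      em C1 (restr C1 (cj h (em C1 x))) = cj h (em C1 x) := fun h hh x => by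
    refine em_restr_of_supp C1 fun g hg => ?_
    rw [coeff_cj, em_eq_emb, coeff_emb_notMem]
    intro hmem
    exact hg (by simpa [mul_assoc] using hconj h hh _ hmem)
  have hcjη : ∀ h ∈ H0, ∃ w, cj h (em C1 U.η) = em C1 (U.η * w) := by
    intro h hh
    have hfix : cj h (em C1 U.ε) = em C1 U.ε := by rw [hemε]; exact hh.2
    set y0 := restr C1 (cj h (em C1 U.η)) with hy0def
    have hy0e : em C1 y0 = cj h (em C1 U.η) := hsupp h (hH0N hh) _
    have h1 : ∀ x, y0 * x = x * y0 := fun x => hinj (by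
      obtain ⟨x', hx'⟩ : ∃ x', em C1 x = cj h (em C1 x') :=
        ⟨restr C1 (cj h⁻¹ (em C1 x)), by rw [hsupp h⁻¹ (inv_mem (hH0N hh)), cj_cj_inv]⟩
      rw [map_mul, map_mul, hy0e, hx', ← map_mul, ← map_mul, ← map_mul, ← map_mul, U.η_comm])
    have h2 : IsNilpotent y0 := (IsNilpotent.map_iff hinj).1 (by
      rw [hy0e]
      exact ((show IsNilpotent U.η from ⟨U.N, U.η_pow⟩).map (em C1)).map (cj h))
    have h3 : y0 * U.ε = y0 := hinj (by
      rw [map_mul, hy0e]
      conv_lhs => rw [← hfix, ← map_mul, ← map_mul, U.η_ε])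
    obtain ⟨w, hw⟩ := U.exists_eq_mul h1 h2 h3
    exact ⟨w, by rw [← hy0e, hw]⟩
  let DD : Stable.Data k C1 f :=
    { U := U
      two_le := htwo
      H0 := H0
      N0 := N0
      P := P
      le_H0 := hC1H0
      H0_le := hH0N
      P_le := hPC1
      conj_mem := hconj
      free := fun g hg u hu hu1 hmem => hg (by
        obtain ⟨n, hn⟩ : ∃ n : ℤ, z0 = u ^ n := by
          obtain ⟨w, hw⟩ := exists_prime_orderOf_dvd_card' (G := Subgroup.zpowers u) p (by
            obtain ⟨j, hj⟩ := IsPGroup.iff_card.1 (hD.pgroup.to_le (Subgroup.zpowers_le.2 hu))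
            rcases Nat.eq_zero_or_pos j with rfl | hj0
            · rw [Nat.card_zpowers, pow_zero] at hj
              exact absurd (orderOf_eq_one_iff.1 hj) hu1
            · rw [hj]; exact dvd_pow_self _ hj0.ne')
          have hwo : orderOf (w : G) = p := by rw [Subgroup.orderOf_coe, hw]
          have hwZ : (w : G) ∈ Z := huniq _ (Subgroup.zpowers_le.2 hu w.2) (by
            rw [← hwo, pow_orderOf_eq_one])
          have : Subgroup.zpowers (w : G) = Z :=
            Subgroup.eq_of_le_of_card_ge (Subgroup.zpowers_le.2 hwZ)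
              (by rw [hcardZ, Nat.card_zpowers, hwo])
          have hmem' : z0 ∈ Subgroup.zpowers u :=
            (Subgroup.zpowers_le.2 w.2) (this ▸ Subgroup.mem_zpowers z0)
          obtain ⟨n, hn⟩ := Subgroup.mem_zpowers_iff.1 hmem'
          exact ⟨n, hn.symm⟩
        have hgZ : g⁻¹ * z0 * g ∈ Z := by
          refine huniq _ ?_ ?_
          · rw [hn, show g⁻¹ * u ^ n * g = (g⁻¹ * u * g) ^ n by
              have := (conj_zpow (a := g⁻¹) (b := u) (i := n)).symm
              simpa using this]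
            exact zpow_mem hmem n
          · have := conj_pow (a := g⁻¹) (b := z0) (i := p)
            rw [inv_inv] at this
            rw [this, ← hz0o, pow_orderOf_eq_one, mul_one, inv_mul_cancel]
        have hZ' : cjS g⁻¹ Z = Z := by
          refine Subgroup.eq_of_le_of_card_ge ?_ (card_cjS g⁻¹ Z).ge
          rw [cjS, MonoidHom.map_zpowers]
          refine Subgroup.zpowers_le.2 ?_
          simpa using hgZ
        simpa using inv_mem (mem_normalizer_of_cjS_eq hZ'))
      cj_ε := fun h hh => by rw [hemε]; exact hh.2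
      cj_η := hcjη
      orth := fun g hg hgH => by
        rw [hemε]
        have hcjb : IsBlk C1 (cj g ε) := by
          have := hεblk.cj g
          rwa [show cjS g C1 = C1 by
            rw [hC1Z, cjS_centralizer, cjS_eq_of_mem_normalizer hg]] at this
        exact hεblk.mul_eq_zero hcjb fun h => hgH ⟨hg, h.symm⟩
      s := s
      hs := hs
      idx_ne := hidx
      c := cs
      c_ne := hcs
      hK := hK
      e_ne := hene }
  -- the value of the block idempotent
  have hEc : ∀ x, Ek M B * x = x * Ek M B := fun x => IsClassElt.comm (isClassElt_Ek B) x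
  have hsum : ∀ ρ : H0 →* Matrix (Fin f) (Fin f) k,
      (∀ w : C1, ρ ⟨w, hC1H0 w.2⟩ = U.F (MonoidAlgebra.single w 1)) →
        ∑ h : H0, (Ek M B).coeff (h : G) • ρ h = 1 := by
    intro ρ hρ
    have hZH0 : Z ≤ H0 := hZP.trans (hPC1.trans hC1H0)
    let _ : MulAction Z H0 := MulAction.compHom H0
      (ConjAct.toConjAct.toMonoidHom.comp (Subgroup.inclusion hZH0))
    have hsmul : ∀ (w : Z) (h : H0), w • h =
        (⟨(w : G), hZH0 w.2⟩ : H0) * h * (⟨(w : G), hZH0 w.2⟩ : H0)⁻¹ := fun w h =>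
      ConjAct.smul_def (ConjAct.toConjAct (⟨(w : G), hZH0 w.2⟩ : H0)) h
    have hρz : ∀ w : Z, ρ ⟨(w : G), hZH0 w.2⟩ = 1 := by
      intro w
      obtain ⟨j, hj⟩ := Subgroup.mem_zpowers_iff.1 w.2
      have h1 : ρ ⟨z0, hC1H0 hz0C1⟩ = 1 := by rw [hρ zz]; exact hFz
      have h2 : (⟨(w : G), hZH0 w.2⟩ : H0) = (⟨z0, hC1H0 hz0C1⟩ : H0) ^ j :=
        Subtype.ext (by simp [hj])
      rw [h2]
      have h3 : (⟨z0, hC1H0 hz0C1⟩ : H0) ∈ ρ.ker := h1
      exact zpow_mem h3 j
    have hfix : ∀ h : H0, h ∈ MulAction.fixedPoints Z H0 ↔ (h : G) ∈ C1 := by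
      intro h
      rw [hC1Z, MulAction.mem_fixedPoints, Subgroup.mem_centralizer_iff]
      constructor
      · intro hh w hw
        have := congrArg Subtype.val (hh ⟨w, hw⟩)
        rw [hsmul] at this
        exact mul_inv_eq_iff_eq_mul.1 this
      · intro hh w
        rw [hsmul]
        exact Subtype.ext (mul_inv_eq_iff_eq_mul.2 (hh w w.2))
    have hC1sum : ∑ h : H0, (Ek M B).coeff (h : G) • ρ h =
        U.F (restr C1 (Ek M B)) := by
      conv_rhs => rw [← sum_coeff_single' (restr C1 (Ek M B)), map_sum]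
      ext a a'
      rw [Matrix.sum_apply, Matrix.sum_apply,
        sum_eq_sum_fixed hZp (fun h : H0 => ((Ek M B).coeff (h : G) • ρ h) a a') fun w h => ?_]
      · refine Finset.sum_bij' (fun h hh => (⟨(h : G), (hfix h).1 (Finset.mem_filter.1 hh).2⟩ : C1))
          (fun w _ => (⟨(w : G), hC1H0 w.2⟩ : H0)) (fun _ _ => Finset.mem_univ _)
          (fun w _ => Finset.mem_filter.2 ⟨Finset.mem_univ _, (hfix _).2 w.2⟩)
          (fun _ _ => rfl) (fun _ _ => rfl) fun h hh => ?_
        rw [map_smul, ← hρ]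
        rfl
      · have e1 : ρ (w • h) = ρ h := by
          rw [hsmul, map_mul, map_mul, hρz, one_mul]
          have : ρ (⟨(w : G), hZH0 w.2⟩ : H0)⁻¹ = 1 := by
            have h3 : (⟨(w : G), hZH0 w.2⟩ : H0) ∈ ρ.ker := hρz w
            exact inv_mem h3
          rw [this, mul_one]
        have e2 : (Ek M B).coeff (((w • h : H0)) : G) = (Ek M B).coeff (h : G) := by
          rw [hsmul]
          exact isClassElt_Ek B (h : G) (w : G)
        rw [e1, e2]
    have hbr : em C1 (restr C1 (Ek M B)) = brTrunc Z (Ek M B) := gaExt fun g => by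
      rw [em_eq_emb]
      by_cases hg : g ∈ C1
      · rw [coeff_emb_mem C1 _ hg, coeff_brTrunc_pos (hC1Z ▸ hg)]; rfl
      · rw [coeff_emb_notMem C1 _ hg, coeff_brTrunc_neg (hC1Z ▸ hg)]
    have hre : restr C1 (Ek M B) * U.ε = U.ε := hinj (by rw [map_mul, hbr, hemε, hoccB])
    rw [hC1sum, ← mul_one (U.F _), ← U.F_ε, ← map_mul, hre]
  obtain ⟨m, d, q, J, nJ, S, hd, hq, hJ, hkerq, hJl, -, hS, hcard⟩ := exists_simples hM hB
  exact (inertia_le_card DD hg0 hene hgen hge hord hEc (Ek_idem hB)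
    (fun ρ hρ => by convert hsum ρ hρ) hd hq hJ hkerq hJl
    hS).trans hcard

/-- The counts for a block with cyclic defect group. -/
theorem cyclic_counts (hM : IsPModular p M) {B : Set (IrrCharacter G)} {P : Subgroup G}
    (hPD : IsDefectGroup p M B P) (hcyc : IsCyclic P) (hP1 : P ≠ ⊥)
    {c : Set (IrrCharacter (Subgroup.centralizer (P : Set G)))}
    (hc : IsInducedBlock M (Subgroup.centralizer (P : Set G)) c B) {e : ℕ}
    (he : (Subgroup.centralizer (P : Set G)).relIndex
      (stabP (P, zB M (Subgroup.centralizer (P : Set G)) c)) = e) :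
    e ∣ p - 1 ∧ blockRank p B = e ∧ ∃ m, m * e + 1 = Nat.card P ∧ Nat.card B = e + m := by
  obtain ⟨hdiv, hle⟩ := cyclic_inertia_le_rank hM hPD hcyc hP1 hc
  obtain ⟨m, hm, -, hk, hl, -⟩ := abelian_free_counts hM hPD hP1 (cyclic_le_centralizer hcyc) hc
    (fun g hg x hx hx1 hfix => cyclic_free hM hPD hcyc hc hg hx hx1 hfix) he
  subst he
  have := le_antisymm hl hle
  exact ⟨hdiv, this, m, hm, by omega⟩

/-- The stabiliser described by the conjugates of the members of a block is the stabiliser of its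
pair. -/
theorem eq_stabP_of_forall {D : Subgroup G}
    {b : Set (IrrCharacter (Subgroup.centralizer (D : Set G)))} (hb : IsPBlock M b) {T : Subgroup G}
    (hT : ∀ g : G, g ∈ T ↔ (g ∈ Subgroup.normalizer (D : Set G) ∧ ∀ θ ∈ b,
      ∀ θ' : IrrCharacter (Subgroup.centralizer (D : Set G)),
        (∀ h h' : Subgroup.centralizer (D : Set G), (h' : G) = g * h * g⁻¹ →
          (θ' : Subgroup.centralizer (D : Set G) → ℂ) h' =
            (θ : Subgroup.centralizer (D : Set G) → ℂ) h) → θ' ∈ b)) :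
    T = stabP (D, zB M (Subgroup.centralizer (D : Set G)) b) := by
  refine Subgroup.ext fun g => ((hT g).trans ?_).trans (stab_iff hb g)
  refine and_congr_right fun hg => ?_
  have hgC := normalizer_le_normalizer_centralizer D hg
  let c := cjEquiv g (cjS_eq_of_mem_normalizer hgC)
  constructor
  · intro h
    refine ⟨hgC, fun χ hχ => ⟨pullIrr c.symm χ, h χ hχ _ ?_, ?_⟩⟩ <;>
    · intro a a' haa
      rw [pullIrr_apply]
      refine congrArg (χ : Subgroup.centralizer (D : Set G) → ℂ) ?_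
      rw [MulEquiv.symm_apply_eq]
      exact Subtype.ext (by rw [coe_cjEquiv]; exact haa)
  · rintro ⟨-, h⟩ θ hθ θ' hθ'
    obtain ⟨χ, hχ, hc⟩ := h θ hθ
    suffices θ' = χ from this ▸ hχ
    refine Subtype.ext (funext fun a' => ?_)
    have e : (a' : G) = g * (c.symm a' : G) * g⁻¹ := by
      conv_lhs => rw [← c.apply_symm_apply a']
      rw [coe_cjEquiv]
    rw [hθ' _ a' e, hc _ a' e]

end Cfsg.Agent.Abelian
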