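/-
The characters of a block with cyclic defect group: signs, exceptional characters, congruences of
degrees.
-/
import Cfsg.Agent.Lib.Star.Abelian.CyclicRank

set_option linter.unusedSectionVars false
set_option linter.style.haveILetI false

namespace Cfsg.Agent.Abelian

open Cfsg MonoidAlgebra Cfsg.Agent.Blocks Cfsg.Agent.BrauerPairs Cfsg.Agent.Char Cfsg.Agent.Star
open scoped ComplexConjugate

universe u w

variable {β : Type w} [Fintype β]

/-- Rows whose number is the sum of the number of columns and of `e`: `e` constant rows of signs and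
signed unit rows. -/
theorem rows_structure {m e : ℕ} (hm : 1 ≤ m) (x : β → Fin m → ℤ)
    (hgram : ∀ i i', ∑ b, x b i * x b i' = (if i = i' then 1 else 0) + (e : ℤ))
    (hnz : ∀ b, ∃ i, x b i ≠ 0) (hk : Fintype.card β = m + e) :
    ∃ (C : Finset β) (δ : β → ℤ) (out : β → Fin m), C.card = e ∧ (∀ b, δ b = 1 ∨ δ b = -1) ∧
      (∀ b ∈ C, ∀ i, x b i = δ b) ∧ (∀ b ∉ C, ∀ i, x b i = if i = out b then δ b else 0) ∧
      (∀ b ∉ C, ∀ b' ∉ C, out b = out b' → b = b') ∧ ∀ i, ∃ b ∉ C, out b = i := by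
  classical
  set i₀ : Fin m := ⟨0, hm⟩ with hi₀
  rcases Nat.lt_or_ge m 2 with hm1 | hm2
  · have hone : ∀ i : Fin m, i = i₀ := fun i => Fin.ext (by have := i.2; simp only [hi₀]; omega)
    have hx1 : ∀ b, 1 ≤ x b i₀ ^ 2 := fun b => by
      obtain ⟨i, hi⟩ := hnz b
      rw [hone i] at hi
      rcases lt_or_gt_of_ne hi with h | h <;> nlinarith
    have hsum : ∑ b, x b i₀ ^ 2 = ∑ _b : β, (1 : ℤ) := by
      simp only [sq]
      rw [hgram, if_pos rfl, Finset.sum_const, Finset.card_univ, hk, nsmul_one,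
        show m = 1 by omega]
      push_cast
      ring
    have hsq : ∀ b, x b i₀ ^ 2 = 1 := fun b =>
      ((Finset.sum_eq_sum_iff_of_le fun b _ => hx1 b).1 hsum.symm b (Finset.mem_univ b)).symm
    haveI : Nonempty β := Fintype.card_pos_iff.1 (by omega)
    obtain ⟨b0⟩ := (inferInstance : Nonempty β)
    have hnot : ∀ {b}, b ∉ Finset.univ.erase b0 → b = b0 := fun {b} h => by
      by_contra hb
      exact h (Finset.mem_erase.2 ⟨hb, Finset.mem_univ _⟩)
    refine ⟨Finset.univ.erase b0, fun b => x b i₀, fun _ => i₀, ?_, fun b => sq_eq_one_iff.1 (hsq b),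
      fun b _ i => by rw [hone i], fun b _ i => by rw [if_pos (hone i), hone i],
      fun b hb b' hb' _ => (hnot hb).trans (hnot hb').symm,
      fun i => ⟨b0, by simp, (hone i).symm⟩⟩
    rw [Finset.card_erase_of_mem (Finset.mem_univ _), Finset.card_univ, hk]
    omega
  let C := Finset.univ.filter fun b : β => ∀ i, x b i = x b i₀
  let D := Finset.univ.filter fun b : β => ¬ ∀ i, x b i = x b i₀
  have hCD : C.card + D.card = Fintype.card β := Finset.card_filter_add_card_filter_not _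
  have hC : ∀ b ∈ C, ∀ i, x b i = x b i₀ := fun b hb => (Finset.mem_filter.1 hb).2
  have hCne : ∀ b ∈ C, 1 ≤ x b i₀ ^ 2 := fun b hb => by
    obtain ⟨i, hi⟩ := hnz b
    rw [hC b hb i] at hi
    rcases lt_or_gt_of_ne hi with h | h <;> nlinarith
  set A := ∑ b ∈ C, x b i₀ ^ 2 with hA
  have hAC : (C.card : ℤ) ≤ A := by
    rw [Finset.card_eq_sum_ones, Nat.cast_sum]
    exact Finset.sum_le_sum fun b hb => by push_cast; exact hCne b hb
  set s : ℤ := (e : ℤ) - A with hs
  have hgD : ∀ i i', ∑ b ∈ D, x b i * x b i' = (if i = i' then 1 else 0) + s := by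
    intro i i'
    have h := hgram i i'
    rw [← Finset.sum_filter_add_sum_filter_not Finset.univ (fun b : β => ∀ i, x b i = x b i₀),
      Finset.sum_congr rfl fun b hb => show x b i * x b i' = x b i₀ ^ 2 by
        rw [hC b hb i, hC b hb i']; ring] at h
    change A + ∑ b ∈ D, x b i * x b i' = _ at h
    rw [hs]; linarith
  have hspread : ∑ b ∈ D, ((m : ℤ) * ∑ i, x b i ^ 2 - (∑ i, x b i) ^ 2) = (m : ℤ) * (m - 1) := by
    rw [Finset.sum_sub_distrib, ← Finset.mul_sum, Finset.sum_comm,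
      Finset.sum_congr rfl fun i (_ : i ∈ Finset.univ) => show ∑ b ∈ D, x b i ^ 2 = 1 + s by
        rw [Finset.sum_congr rfl fun b _ => sq (x b i), hgD, if_pos rfl],
      Finset.sum_congr rfl fun b _ => show (∑ i, x b i) ^ 2 = ∑ i, ∑ i', x b i * x b i' by
        rw [sq, Finset.sum_mul_sum],
      Finset.sum_comm, Finset.sum_congr rfl fun i _ => Finset.sum_comm,
      Finset.sum_congr rfl fun i _ => Finset.sum_congr rfl fun i' _ => hgD i i']
    simp only [Finset.sum_add_distrib, Finset.sum_ite_eq, Finset.mem_univ, if_true,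
      Finset.sum_const, Finset.card_univ, Fintype.card_fin, nsmul_eq_mul]
    ring
  have hDge : ∀ b ∈ D, (m : ℤ) - 1 ≤ (m : ℤ) * ∑ i, x b i ^ 2 - (∑ i, x b i) ^ 2 := by
    intro b hb
    have h := spread_ge (x b) (by
      have h1 := (Finset.mem_filter.1 hb).2
      push Not at h1
      obtain ⟨i, hi⟩ := h1
      exact ⟨i, i₀, hi⟩)
    rwa [Fintype.card_fin] at h
  have hm' : (2 : ℤ) ≤ m := by exact_mod_cast hm2
  have hDm : D.card ≤ m := by
    have h := Finset.sum_le_sum hDge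
    rw [hspread, Finset.sum_const, nsmul_eq_mul] at h
    have : (D.card : ℤ) ≤ m := by nlinarith
    exact_mod_cast this
  have htot : ∑ b ∈ D, (∑ i, x b i) ^ 2 = (m : ℤ) * (1 + m * s) := by
    rw [Finset.sum_congr rfl fun b _ => show (∑ i, x b i) ^ 2 = ∑ i, ∑ i', x b i * x b i' by
        rw [sq, Finset.sum_mul_sum], Finset.sum_comm,
      Finset.sum_congr rfl fun i _ => Finset.sum_comm,
      Finset.sum_congr rfl fun i _ => Finset.sum_congr rfl fun i' _ => hgD i i']
    simp only [Finset.sum_add_distrib, Finset.sum_ite_eq, Finset.mem_univ, if_true,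
      Finset.sum_const, Finset.card_univ, Fintype.card_fin, nsmul_eq_mul]
    ring
  have hs0 : 0 ≤ s := by
    have h : 0 ≤ (m : ℤ) * (1 + m * s) := htot ▸ Finset.sum_nonneg fun b _ => sq_nonneg _
    by_contra hneg
    push Not at hneg
    have h2 : (m : ℤ) * s ≤ -2 := by
      have := mul_le_mul_of_nonneg_left (show s ≤ -1 by omega) (show (0 : ℤ) ≤ m by omega)
      linarith
    have h3 := mul_le_mul_of_nonneg_left (show 1 + (m : ℤ) * s ≤ -1 by linarith)
      (show (0 : ℤ) ≤ m by omega)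
    linarith
  have hs1 : s = 0 := by omega
  have hCe : C.card = e := by omega
  have hDm' : D.card = m := by omega
  have hC1 : ∀ b ∈ C, x b i₀ ^ 2 = 1 := fun b hb =>
    ((Finset.sum_eq_sum_iff_of_le hCne).1 (by
      rw [Finset.sum_const, nsmul_one]
      show (C.card : ℤ) = A
      omega) b hb).symm
  have hone : ∀ i, ∃ b ∈ D, x b i ^ 2 = 1 ∧ ∀ b' ∈ D, b' ≠ b → x b' i = 0 := by
    intro i
    have h : ∑ b ∈ D, x b i ^ 2 = 1 := by
      simp only [sq]
      rw [hgD, if_pos rfl, hs1, add_zero]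
    obtain ⟨b, hb, hne⟩ : ∃ b ∈ D, x b i ≠ 0 := by
      by_contra hcon
      push Not at hcon
      rw [Finset.sum_eq_zero fun b hb => by rw [hcon b hb]; rfl] at h
      exact zero_ne_one h
    rw [← Finset.add_sum_erase _ _ hb] at h
    have h1 : 1 ≤ x b i ^ 2 := by rcases lt_or_gt_of_ne hne with h' | h' <;> nlinarith
    have h2 : 0 ≤ ∑ b' ∈ D.erase b, x b' i ^ 2 := Finset.sum_nonneg fun _ _ => sq_nonneg _
    have h3 : ∑ b' ∈ D.erase b, x b' i ^ 2 = 0 := by omega
    exact ⟨b, hb, by omega, fun b' hb' hbb => pow_eq_zero_iff two_ne_zero |>.1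
      ((Finset.sum_eq_zero_iff_of_nonneg fun _ _ => sq_nonneg _).1 h3 b'
        (Finset.mem_erase.2 ⟨hbb, hb'⟩))⟩
  choose row hrD hr1 hr0 using hone
  have hsupp : ∀ b ∈ D, ∃ i, row i = b ∧ x b i ≠ 0 := fun b hb => by
    obtain ⟨i, hi⟩ := hnz b
    exact ⟨i, by_contra fun h => hi (hr0 i b hb (Ne.symm h)), hi⟩
  have hsurj : Finset.univ.image row = D := by
    refine Finset.Subset.antisymm (Finset.image_subset_iff.2 fun i _ => hrD i) fun b hb => ?_
    obtain ⟨i, hi, -⟩ := hsupp b hb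
    exact Finset.mem_image.2 ⟨i, Finset.mem_univ _, hi⟩
  have hinj : Function.Injective row := by
    have := Finset.card_image_iff.1 (show (Finset.univ.image row).card = (Finset.univ : Finset (Fin m)).card by
      rw [hsurj, hDm', Finset.card_univ, Fintype.card_fin])
    exact fun a b h => this (Finset.mem_coe.2 (Finset.mem_univ a))
      (Finset.mem_coe.2 (Finset.mem_univ b)) h
  let out : β → Fin m := fun b => if hb : b ∈ D then (hsupp b hb).choose else i₀
  have hout : ∀ b ∈ D, row (out b) = b := fun b hb => by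
    simp only [out, dif_pos hb]; exact (hsupp b hb).choose_spec.1
  have hDC : ∀ {b}, b ∉ C → b ∈ D := fun {b} hb =>
    Finset.mem_filter.2 ⟨Finset.mem_univ _, fun h => hb (Finset.mem_filter.2 ⟨Finset.mem_univ _, h⟩)⟩
  let δ : β → ℤ := fun b => if b ∈ C then x b i₀ else x b (out b)
  refine ⟨C, δ, out, hCe, fun b => sq_eq_one_iff.1 ?_, fun b hb i => ?_, fun b hb i => ?_,
    fun b hb b' hb' h => by rw [← hout b (hDC hb), h, hout b' (hDC hb')],
    fun i => ⟨row i, fun h => (Finset.mem_filter.1 (hrD i)).2 (Finset.mem_filter.1 h).2,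
      hinj (hout _ (hrD i))⟩⟩
  · by_cases hb : b ∈ C
    · simp only [δ, if_pos hb]; exact hC1 b hb
    · simp only [δ, if_neg hb]
      conv_lhs => rw [← hout b (hDC hb)]
      rw [hout b (hDC hb)]
      have h := hr1 (out b)
      rw [hout b (hDC hb)] at h
      exact h
  · simp only [δ, if_pos hb]; exact hC b hb i
  · simp only [δ, if_neg hb]
    split_ifs with hi
    · rw [hi]
    · exact hr0 i b (hDC hb) fun h => hi (hinj (h.symm.trans (hout b (hDC hb)).symm))

variable {G : Type u} [Group G] [Fintype G] {p : ℕ} [Fact p.Prime] {M : Ideal AlgInt} [M.IsPrime]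

/-- A difference of character multiples vanishing on the singular elements has degree divisible by
the order of a Sylow subgroup. -/
theorem pow_dvd_of_vanish {a b : ℤ} {χ χ' : IrrCharacter G}
    (h : ∀ y : G, p ∣ orderOf y → (a : ℂ) * (χ : G → ℂ) y = (b : ℂ) * (χ' : G → ℂ) y) :
    (p : ℤ) ^ (Nat.card G).factorization p ∣
      a * (charDegree (χ : G → ℂ) : ℤ) - b * (charDegree (χ' : G → ℂ) : ℤ) := by
  classical
  obtain ⟨Q⟩ := (inferInstance : Nonempty (Sylow p G))
  haveI : Fintype (Q : Subgroup G) := Fintype.ofFinite _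
  have hsing : ∀ q : (Q : Subgroup G), q ≠ 1 → p ∣ orderOf (q : G) := by
    intro q hq
    obtain ⟨k, hk⟩ := IsPGroup.iff_orderOf.1 Q.2 q
    rw [Subgroup.orderOf_coe, hk]
    rcases Nat.eq_zero_or_pos k with rfl | hk0
    · rw [pow_zero, orderOf_eq_one_iff] at hk
      exact absurd hk hq
    · exact dvd_pow_self _ hk0.ne'
  have hsum : ∀ θ : IrrCharacter G, ∃ n : ℕ,
      ∑ q : (Q : Subgroup G), (θ : G → ℂ) q = (Nat.card (Q : Subgroup G) : ℂ) * n := by
    intro θ
    obtain ⟨n, hn⟩ := IsCharacter.exists_classInner_nat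
      (IsCharacter.restrict (irr_isCharacter θ) (Q : Subgroup G)) isCharacter_one
    refine ⟨n, ?_⟩
    rw [← hn, classInner, mul_inv_cancel_left₀ (Nat.cast_ne_zero.2 Nat.card_pos.ne')]
    simp
  obtain ⟨n, hn⟩ := hsum χ
  obtain ⟨n', hn'⟩ := hsum χ'
  refine ⟨a * n - b * n', ?_⟩
  have key : ((a * (charDegree (χ : G → ℂ) : ℤ) - b * (charDegree (χ' : G → ℂ) : ℤ) : ℤ) : ℂ) =
      (((Nat.card (Q : Subgroup G) : ℤ) * (a * n - b * n') : ℤ) : ℂ) := by
    push_cast
    rw [show (Nat.card (Q : Subgroup G) : ℂ) * ((a : ℂ) * n - b * n') =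
        (a : ℂ) * ((Nat.card (Q : Subgroup G) : ℂ) * n) -
          b * ((Nat.card (Q : Subgroup G) : ℂ) * n') by ring, ← hn, ← hn', Finset.mul_sum,
      Finset.mul_sum, ← Finset.sum_sub_distrib, Finset.sum_eq_single (1 : (Q : Subgroup G))
        (fun q _ hq => by rw [h _ (hsing q hq), sub_self]) (by simp), Subgroup.coe_one,
      irr_one_eq_charDegree, irr_one_eq_charDegree]
  have h2 := Int.cast_injective key
  rw [h2, Q.card_eq_multiplicity]
  push_cast
  rfl

/-- The kernel of the restriction to the regular elements is spanned by the rows. -/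
theorem mem_span_rows {B : Set (IrrCharacter G)} [Fintype {χ // χ ∈ B}] {m : ℕ}
    (x : {χ // χ ∈ B} → Fin m → ℤ) (hli : LinearIndependent ℂ fun i b => (x b i : ℂ))
    (hkill : ∀ i, ∀ s : G, ¬ p ∣ orderOf s → ∑ b, (x b i : ℂ) * (b.1 : G → ℂ) s = 0)
    (hcard : Nat.card B = blockRank p B + m) (g : {χ // χ ∈ B} → ℂ)
    (hg : ∀ s : G, ¬ p ∣ orderOf s → ∑ b, g b * (b.1 : G → ℂ) s = 0) :
    ∃ c : Fin m → ℂ, ∀ b, g b = ∑ i, c i * (x b i : ℂ) := by
  classical
  let L : ({χ // χ ∈ B} → ℂ) →ₗ[ℂ] (G → ℂ) :=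
    Fintype.linearCombination ℂ fun b => pRegularPart p (b.1 : G → ℂ)
  have hrange : LinearMap.range L = Submodule.span ℂ
      ((fun χ : IrrCharacter G => pRegularPart p (χ : G → ℂ)) '' B) := by
    rw [Fintype.range_linearCombination, Set.image_eq_range]
  have hker : ∀ f : {χ // χ ∈ B} → ℂ,
      (∀ s : G, ¬ p ∣ orderOf s → ∑ b, f b * (b.1 : G → ℂ) s = 0) → f ∈ LinearMap.ker L := by
    intro f hf
    rw [LinearMap.mem_ker]
    funext s
    simp only [L, Fintype.linearCombination_apply, Finset.sum_apply, Pi.smul_apply, smul_eq_mul,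
      pRegularPart_apply, Pi.zero_apply]
    by_cases hs : p ∣ orderOf s
    · simp [hs]
    · simpa [hs] using hf s hs
  have hle : Submodule.span ℂ (Set.range fun (i : Fin m) b => (x b i : ℂ)) ≤ LinearMap.ker L :=
    Submodule.span_le.2 (Set.range_subset_iff.2 fun i => hker _ (hkill i))
  have hdim : Module.finrank ℂ (LinearMap.ker L) ≤ m := by
    have h2 := L.finrank_range_add_finrank_ker
    rw [hrange, Module.finrank_pi] at h2
    change Nat.card {χ // χ ∈ B} = Module.finrank ℂ _ + m at hcard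
    rw [Nat.card_eq_fintype_card] at hcard
    omega
  have heq := Submodule.eq_of_le_of_finrank_le hle
    (by rw [finrank_span_eq_card hli, Fintype.card_fin]; exact hdim)
  have hmem : g ∈ Submodule.span ℂ (Set.range fun (i : Fin m) b => (x b i : ℂ)) :=
    heq ▸ hker g hg
  obtain ⟨c, hc⟩ := (Submodule.mem_span_range_iff_exists_fun ℂ).1 hmem
  exact ⟨c, fun b => by rw [← hc]; simp⟩

/-- The structure of a block with cyclic defect group. -/
theorem cyclic_structure (hM : IsPModular p M) {B : Set (IrrCharacter G)} {P : Subgroup G}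
    (hPD : IsDefectGroup p M B P) (hcyc : IsCyclic P) {a : ℕ} (ha : 1 ≤ a)
    (hPa : Nat.card P = p ^ a) {c : Set (IrrCharacter (Subgroup.centralizer (P : Set G)))}
    (hc : IsInducedBlock M (Subgroup.centralizer (P : Set G)) c B) {e : ℕ}
    (he : (Subgroup.centralizer (P : Set G)).relIndex
      (stabP (P, zB M (Subgroup.centralizer (P : Set G)) c)) = e) :
    e ∣ p - 1 ∧ (∀ χ ∈ B, blockHeight p B (χ : G → ℂ) = 0) ∧
      ∃ X Y : Set (IrrCharacter G), B = X ∪ Y ∧ Disjoint X Y ∧ Nat.card X = e ∧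
        Nat.card Y = (p ^ a - 1) / e ∧
        (∀ ψ ∈ Y, ∀ ψ' ∈ Y, ∀ g : G, ¬ p ∣ orderOf g → (ψ : G → ℂ) g = (ψ' : G → ℂ) g) ∧
        ∃ (δ : IrrCharacter G → ℤ) (δ₀ : ℤ), (∀ χ ∈ X, δ χ = 1 ∨ δ χ = -1) ∧
          (δ₀ = 1 ∨ δ₀ = -1) ∧
          (∀ ψ ∈ Y, ∀ g : G, ¬ p ∣ orderOf g →
            (δ₀ : ℂ) * (ψ : G → ℂ) g + ∑ᶠ χ ∈ X, (δ χ : ℂ) * (χ : G → ℂ) g = 0) ∧
          (∀ χ ∈ X, ∀ χ' ∈ X, δ χ * (charDegree (χ : G → ℂ) : ℤ) ≡
            δ χ' * (charDegree (χ' : G → ℂ) : ℤ) [ZMOD (p : ℤ) ^ a]) ∧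
          (∀ ψ ∈ Y, ∀ χ ∈ X, (charDegree (ψ : G → ℂ) : ℤ) ≡
            -((e : ℤ) * δ₀ * δ χ * (charDegree (χ : G → ℂ) : ℤ)) [ZMOD (p : ℤ) ^ a]) := by
  classical
  have hp : p.Prime := Fact.out
  haveI : CharP (resField M) p := resField_charP hM
  have hB := hc.2.1
  have hP1 : P ≠ ⊥ := fun h => by
    rw [h, Subgroup.card_bot] at hPa
    exact absurd hPa.symm (Nat.one_lt_pow (by omega) hp.one_lt).ne'
  have hPC := cyclic_le_centralizer hcyc
  have hfree : FreeInertia P (zB M (Subgroup.centralizer (P : Set G)) c) :=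
    fun g hg y hy hy1 hfix => cyclic_free hM hPD hcyc hc hg hy hy1 hfix
  obtain ⟨hdiv, hl, m, hm, hk⟩ := cyclic_counts hM hPD hcyc hP1 hc he
  obtain ⟨m', x, hm', hgram, hnz, hkill⟩ := exists_inertial_rows hM hPD hP1 hPC hc hfree
  rw [he] at hm' hgram
  have hp1 : 0 < p - 1 := by have := hp.two_le; omega
  have he0 : 0 < e := Nat.pos_of_dvd_of_pos hdiv hp1
  have hep : e < p := by
    have := Nat.le_of_dvd hp1 hdiv
    omega
  obtain rfl : m' = m := Nat.eq_of_mul_eq_mul_right he0 (by omega)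
  have hm1 : 1 ≤ m' := by
    rcases Nat.eq_zero_or_pos m' with h | h
    · rw [h, zero_mul, zero_add, hPa] at hm
      exact absurd hm (Nat.one_lt_pow (by omega) hp.one_lt).ne
    · exact h
  have hcardB : Fintype.card {χ // χ ∈ B} = Nat.card B := Nat.card_eq_fintype_card.symm
  obtain ⟨C, δ, out, hCe, hδ, hCx, hDx, hinj, hsurj⟩ := rows_structure hm1 x hgram hnz (by omega)
  have hδ2 : ∀ b, (δ b : ℂ) * (δ b : ℂ) = 1 := fun b => by
    rcases hδ b with h | h <;> rw [h] <;> norm_num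
  -- the relations
  have hrel : ∀ g : {χ // χ ∈ B} → ℂ, (∀ i, ∑ b, (x b i : ℂ) * g b = 0) →
      ∀ b ∉ C, (δ b : ℂ) * g b + ∑ b' ∈ C, (δ b' : ℂ) * g b' = 0 := by
    intro g hg b hb
    have h := hg (out b)
    have hD : ∑ b' ∈ Finset.univ.filter (fun b' => b' ∉ C), (x b' (out b) : ℂ) * g b' =
        (δ b : ℂ) * g b := by
      rw [Finset.sum_eq_single b]
      · rw [hDx b hb, if_pos rfl]
      · intro b' hb' hne
        rw [hDx b' (Finset.mem_filter.1 hb').2,
          if_neg fun e => hne (hinj b' (Finset.mem_filter.1 hb').2 b hb e.symm), Int.cast_zero,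
          zero_mul]
      · exact fun h' => (h' (Finset.mem_filter.2 ⟨Finset.mem_univ b, hb⟩)).elim
    rw [← Finset.sum_filter_add_sum_filter_not Finset.univ (fun b' => b' ∈ C), hD,
      Finset.filter_univ_mem, Finset.sum_congr rfl fun b' hb' => by rw [hCx b' hb' (out b)]] at h
    linear_combination h
  obtain ⟨b0, hb0, -⟩ := hsurj ⟨0, hm1⟩
  -- the sign of the exceptional characters
  have hone : ¬ p ∣ orderOf (1 : G) := by simpa using hp.ne_one
  have heqD : ∀ b ∉ C, ∀ s : G, ¬ p ∣ orderOf s →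
      (δ b : ℂ) * (b.1 : G → ℂ) s = (δ b0 : ℂ) * (b0.1 : G → ℂ) s := by
    intro b hb s hs
    have h1 := hrel (fun b => (b.1 : G → ℂ) s) (fun i => hkill i s hs) b hb
    have h2 := hrel (fun b => (b.1 : G → ℂ) s) (fun i => hkill i s hs) b0 hb0
    linear_combination h1 - h2
  have hsame : ∀ b ∉ C, δ b = δ b0 := by
    intro b hb
    have h := heqD b hb 1 hone
    rw [irr_one_eq_charDegree, irr_one_eq_charDegree] at h
    have hh : δ b * (charDegree (b.1 : G → ℂ) : ℤ) = δ b0 * (charDegree (b0.1 : G → ℂ) : ℤ) := by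
      exact_mod_cast h
    have h1 := charDegree_pos b.1
    have h2 := charDegree_pos b0.1
    rcases hδ b with e1 | e1 <;> rcases hδ b0 with e2 | e2 <;> rw [e1, e2] at hh ⊢ <;> omega
  -- the rows are independent
  have hli : LinearIndependent ℂ fun i (b : {χ // χ ∈ B}) => (x b i : ℂ) := by
    rw [Fintype.linearIndependent_iff]
    intro cf hcf
    have hS : ∀ b ∈ C, ∑ j, cf j = 0 := by
      intro b hb
      have h := congrFun hcf b
      simp only [Finset.sum_apply, Pi.smul_apply, smul_eq_mul, Pi.zero_apply, hCx b hb,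
        ← Finset.sum_mul] at h
      exact (mul_eq_zero.1 h).resolve_right fun h0 => by have := hδ2 b; rw [h0, zero_mul] at this; exact zero_ne_one this
    intro i
    obtain ⟨b, hb, rfl⟩ := hsurj i
    have h := congrFun hcf b
    simp only [Finset.sum_apply, Pi.smul_apply, smul_eq_mul, Pi.zero_apply, hDx b hb,
      Int.cast_ite, Int.cast_zero, mul_ite, mul_zero, Finset.sum_ite_eq', Finset.mem_univ,
      if_true] at h
    exact (mul_eq_zero.1 h).resolve_right fun h0 => by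
      have := hδ2 b; rw [h0, zero_mul] at this; exact zero_ne_one this
  -- values on the singular elements
  have hsingC : ∀ y : G, p ∣ orderOf y → ∀ b ∈ C, ∀ b' ∈ C,
      (δ b : ℂ) * (b.1 : G → ℂ) y = (δ b' : ℂ) * (b'.1 : G → ℂ) y := by
    intro y hy b hb b' hb'
    obtain ⟨cf, hcf⟩ := mem_span_rows x hli hkill (by omega) (fun b => (b.1 : G → ℂ) y) (fun s hs => by
      have h := blockPair_regular_singular hM hB (u := s) (w := y⁻¹) hs (by rwa [orderOf_inv])
      rw [← h, blockPair_eq_finsum, finsum_mem_eq_finite_toFinset_sum _ (Set.toFinite B),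
        ← Finset.sum_subtype (p := fun χ => χ ∈ B) (Set.toFinite B).toFinset
          (fun χ => Set.Finite.mem_toFinset _) fun χ => (χ : G → ℂ) y * (χ : G → ℂ) s]
      refine (Finset.sum_congr rfl fun χ _ => ?_).symm
      rw [← irr_inv χ y⁻¹, inv_inv, mul_comm])
    have key : ∀ b ∈ C, (δ b : ℂ) * (b.1 : G → ℂ) y = ∑ i, cf i := fun b hb => by
      rw [hcf b, Finset.sum_congr rfl fun i _ => by rw [hCx b hb i], ← Finset.sum_mul,
        mul_comm, mul_assoc, hδ2, mul_one]
    rw [key b hb, key b' hb']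
  -- degrees
  set A := (Nat.card G).factorization p with hA
  have hda : blockDefect p B = a := by
    have := card_defectGroup hM hB hPD
    rw [hPa] at this
    exact ((Nat.pow_right_injective hp.two_le) this).symm
  have haA : a ≤ A := hda ▸ blockDefect_le B
  have hcongC : ∀ b ∈ C, ∀ b' ∈ C, (p : ℤ) ^ A ∣
      δ b * (charDegree (b.1 : G → ℂ) : ℤ) - δ b' * (charDegree (b'.1 : G → ℂ) : ℤ) :=
    fun b hb b' hb' => pow_dvd_of_vanish fun y hy => hsingC y hy b hb b' hb'
  have hrel1 : ∀ b ∉ C, δ b0 * (charDegree (b.1 : G → ℂ) : ℤ) +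
      ∑ b' ∈ C, δ b' * (charDegree (b'.1 : G → ℂ) : ℤ) = 0 := by
    intro b hb
    have h := hrel (fun b => (b.1 : G → ℂ) 1) (fun i => hkill i 1 hone) b hb
    simp only [irr_one_eq_charDegree, hsame b hb] at h
    exact_mod_cast h
  have hcongD : ∀ b ∉ C, ∀ b' ∈ C, (p : ℤ) ^ A ∣
      δ b0 * (charDegree (b.1 : G → ℂ) : ℤ) +
        (e : ℤ) * (δ b' * (charDegree (b'.1 : G → ℂ) : ℤ)) := by
    intro b hb b' hb'
    have e1 : δ b0 * (charDegree (b.1 : G → ℂ) : ℤ) +
        (e : ℤ) * (δ b' * (charDegree (b'.1 : G → ℂ) : ℤ)) = ∑ b'' ∈ C,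
          (δ b' * (charDegree (b'.1 : G → ℂ) : ℤ) - δ b'' * (charDegree (b''.1 : G → ℂ) : ℤ)) := by
      rw [Finset.sum_sub_distrib, Finset.sum_const, hCe, nsmul_eq_mul]
      linarith [hrel1 b hb]
    rw [e1]
    exact Finset.dvd_sum fun b'' hb'' => hcongC b' hb' b'' hb''
  -- heights
  have hheight : ∀ χ ∈ B, blockHeight p B (χ : G → ℂ) = 0 := by
    set v := A - a + 1 with hv
    have hiff : ∀ χ ∈ B, blockHeight p B (χ : G → ℂ) = 0 ↔
        ¬ (p : ℤ) ^ v ∣ (charDegree (χ : G → ℂ) : ℤ) := by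
      intro χ hχ
      rw [blockHeight_eq_zero_iff hM hB hχ, hda, ← Nat.cast_pow, Int.natCast_dvd_natCast,
        hp.pow_dvd_iff_le_factorization (charDegree_pos χ).ne']
      have := degExp_ge hM hB hχ
      rw [hda] at this
      omega
    have hstep : ∀ b ∈ C, ∀ b' : {χ // χ ∈ B},
        ((p : ℤ) ^ v ∣ (charDegree (b.1 : G → ℂ) : ℤ) ↔
          (p : ℤ) ^ v ∣ (charDegree (b'.1 : G → ℂ) : ℤ)) := by
      intro b hb b'
      have hvA : (p : ℤ) ^ v ∣ (p : ℤ) ^ A := pow_dvd_pow _ (by omega)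
      have hu : ∀ (u : {χ // χ ∈ B}) (z : ℤ), (p : ℤ) ^ v ∣ δ u * z ↔ (p : ℤ) ^ v ∣ z := fun u z => by
        rcases hδ u with h | h <;> simp [h]
      by_cases hb' : b' ∈ C
      · have h := hvA.trans (hcongC b hb b' hb')
        exact (hu b _).symm.trans ((dvd_iff_dvd_of_dvd_sub h).trans (hu b' _))
      · have h := hvA.trans (hcongD b' hb' b hb)
        have hcop : IsCoprime ((p : ℤ) ^ v) (e : ℤ) := by
          refine IsCoprime.pow_left (Int.isCoprime_iff_gcd_eq_one.2 ?_)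
          exact (Nat.coprime_iff_gcd_eq_one.1 ((Nat.Prime.coprime_iff_not_dvd hp).2
            fun h => absurd (Nat.le_of_dvd he0 h) (by omega)))
        rw [← hu b, ← hu b0 (charDegree (b'.1 : G → ℂ) : ℤ)]
        constructor
        · intro h1
          exact (dvd_add_left (h1.mul_left (e : ℤ))).1 h
        · intro h1
          exact hcop.dvd_of_dvd_mul_left ((dvd_add_right h1).1 h)
    obtain ⟨χ0, hχ0, h0⟩ := exists_heightZero hM hB
    obtain ⟨b1, hb1⟩ : C.Nonempty := Finset.card_pos.1 (by omega)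
    intro χ hχ
    rw [hiff χ hχ, ← hstep b1 hb1 ⟨χ, hχ⟩, hstep b1 hb1 ⟨χ0, hχ0⟩, ← hiff χ0 hχ0]
    exact h0
  refine ⟨hdiv, hheight, (fun b : {χ // χ ∈ B} => b.1) '' (C : Set {χ // χ ∈ B}),
    (fun b : {χ // χ ∈ B} => b.1) '' ((Cᶜ : Finset {χ // χ ∈ B}) : Set {χ // χ ∈ B}), ?_, ?_, ?_, ?_,
    ?_, fun χ => if h : χ ∈ B then δ ⟨χ, h⟩ else 1, δ b0, fun χ _ => ?_, hδ b0, ?_, ?_, ?_⟩
  · ext χ
    constructor
    · intro hχ
      by_cases hmem : (⟨χ, hχ⟩ : {χ // χ ∈ B}) ∈ C
      · exact Or.inl ⟨_, hmem, rfl⟩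
      · exact Or.inr ⟨_, Finset.mem_coe.2 (Finset.mem_compl.2 hmem), rfl⟩
    · rintro (⟨b, -, rfl⟩ | ⟨b, -, rfl⟩) <;> exact b.2
  · rw [Set.disjoint_left]
    rintro _ ⟨b, hb, rfl⟩ ⟨b', hb', he'⟩
    obtain rfl := Subtype.ext he'
    exact Finset.mem_compl.1 (Finset.mem_coe.1 hb') hb
  · rw [Nat.card_image_of_injective Subtype.val_injective, Nat.card_coe_set_eq,
      Set.ncard_coe_finset, hCe]
  · rw [Nat.card_image_of_injective Subtype.val_injective, Nat.card_coe_set_eq,
      Set.ncard_coe_finset, Finset.card_compl, hCe, hcardB, hk, Nat.add_sub_cancel_left, ← hPa, ← hm,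
      Nat.add_sub_cancel, Nat.mul_div_cancel _ he0]
  · rintro _ ⟨b, hb, rfl⟩ _ ⟨b', hb', rfl⟩ s hs
    have h1 := heqD b (Finset.mem_compl.1 hb) s hs
    have h2 := heqD b' (Finset.mem_compl.1 hb') s hs
    rw [hsame b (Finset.mem_compl.1 hb)] at h1
    rw [hsame b' (Finset.mem_compl.1 hb')] at h2
    exact mul_left_cancel₀ (left_ne_zero_of_mul_eq_one (hδ2 b0)) (h1.trans h2.symm)
  · show dite _ _ _ = 1 ∨ dite _ _ _ = -1
    split_ifs with h
    · exact hδ _
    · exact Or.inl rfl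
  · rintro _ ⟨b, hb, rfl⟩ s hs
    have h := hrel (fun b => (b.1 : G → ℂ) s) (fun i => hkill i s hs) b (Finset.mem_compl.1 hb)
    rw [hsame b (Finset.mem_compl.1 hb)] at h
    rw [finsum_mem_image (Subtype.val_injective.injOn), finsum_mem_coe_finset]
    refine Eq.trans ?_ h
    congr 1
    refine Finset.sum_congr rfl fun b' _ => ?_
    show ((dite _ _ _ : ℤ) : ℂ) * _ = _
    rw [dif_pos b'.2]
  · rintro _ ⟨b, hb, rfl⟩ _ ⟨b', hb', rfl⟩
    simp only [dif_pos b.2, dif_pos b'.2]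
    exact ((Int.modEq_iff_dvd.2 ((pow_dvd_pow _ haA).trans
      (hcongC b (Finset.mem_coe.1 hb) b' (Finset.mem_coe.1 hb'))))).symm
  · rintro _ ⟨b, hb, rfl⟩ _ ⟨b', hb', rfl⟩
    simp only [dif_pos b'.2]
    refine (Int.modEq_iff_dvd.2 ?_).symm
    have h := ((pow_dvd_pow (p : ℤ) haA).trans
      (hcongD b (Finset.mem_compl.1 hb) b' (Finset.mem_coe.1 hb'))).mul_left (δ b0)
    have h2 : δ b0 * δ b0 = 1 := by rcases hδ b0 with h' | h' <;> rw [h'] <;> norm_num
    refine h.trans (dvd_of_eq ?_)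
    linear_combination (charDegree (b.1 : G → ℂ) : ℤ) * h2

end Cfsg.Agent.Abelian
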