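/-
Perfect isometries between sets of characters with the same rows.
-/
import Cfsg.Agent.Lib.Star.Abelian.Setup

set_option linter.unusedSectionVars false
set_option linter.style.haveILetI false

namespace Cfsg.Agent.Abelian

open Cfsg Cfsg.Agent.Blocks Cfsg.Agent.Char

universe u v w

/-- Values of the orbit sums used by the isometries. -/
structure EtaProps {A : Type w} [Group A] [Fintype A] {m : ℕ} (e : ℕ) (η : Fin m → A → ℂ) :
    Prop where
  one : ∀ i, η i 1 = e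
  total : ∀ v, v ≠ 1 → ∑ i, η i v = -1
  sum : ∀ i, ∑ v, η i v = 0
  orth : ∀ i j, ∑ v, η i v⁻¹ * η j v = if i = j then (Nat.card A : ℂ) * e else 0

open scoped Classical in
theorem Orbits.props {A : Type w} [CommGroup A] [Fintype A] {Γ : Subgroup (MulAut A)} {m : ℕ}
    (o : Orbits Γ m) (hfree : ∀ τ ∈ Γ, ∀ v, τ v = v → v ≠ 1 → τ = 1) :
    EtaProps (Nat.card Γ) o.eta := by
  haveI : Fintype (A →* ℂˣ) := Fintype.ofFinite _
  let L : Fin m → Γ → A →* ℂˣ := fun i τ => (o.rep i).comp τ.1.toMonoidHom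
  have hL : ∀ i τ, L i τ ≠ 1 := fun i τ h => o.ne i (MonoidHom.ext fun w => by
    have := DFunLike.congr_fun h (τ.1.symm w)
    simpa [L] using this)
  have hinj : ∀ i τ i' τ', L i τ = L i' τ' → i = i' ∧ τ = τ' := by
    intro i τ i' τ' h
    have h' : ∀ w, o.rep i (τ.1 w) = o.rep i' (τ'.1 w) := fun w => DFunLike.congr_fun h w
    have key : ∀ w, o.rep i ((τ * τ'⁻¹).1 w) = o.rep i' w := fun w => by
      show o.rep i (τ.1 (τ'.1⁻¹ w)) = o.rep i' w
      rw [h', MulAut.apply_inv_self]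
    obtain rfl := o.uniq i i' (τ * τ'⁻¹) key
    refine ⟨rfl, ?_⟩
    by_contra hne'
    exact o.ne i (eq_one_of_fix_lin hfree (τ * τ'⁻¹).2
      (fun e => hne' (mul_inv_eq_one.1 (Subtype.ext e))) key)
  refine ⟨fun i => ?_, fun v hv => ?_, fun i => ?_, fun i j => ?_⟩
  · simp [Orbits.eta, Nat.card_eq_fintype_card]
  · have h := sum_lin_dual hv
    rw [← Finset.add_sum_erase _ _ (Finset.mem_univ (1 : A →* ℂˣ))] at h
    have e : ∑ i, o.eta i v = ∑ l ∈ Finset.univ.erase (1 : A →* ℂˣ), (l v : ℂ) := by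
      simp only [Orbits.eta]
      rw [← Fintype.sum_prod_type' (f := fun i (τ : Γ) => (o.rep i (τ.1 v) : ℂ))]
      refine Finset.sum_bij (fun iτ _ => L iτ.1 iτ.2)
        (fun iτ _ => Finset.mem_erase.2 ⟨hL _ _, Finset.mem_univ _⟩)
        (fun iτ _ iτ' _ h => ?_) (fun l hl => ?_) fun iτ _ => rfl
      · obtain ⟨h1, h2⟩ := hinj _ _ _ _ h
        exact Prod.ext h1 h2
      · obtain ⟨i, τ, hτ⟩ := o.cover l (Finset.mem_erase.1 hl).1
        exact ⟨(i, τ), Finset.mem_univ _, MonoidHom.ext hτ⟩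
    rw [e]
    simp only [MonoidHom.one_apply, Units.val_one] at h
    linear_combination h
  · simp only [Orbits.eta]
    rw [Finset.sum_comm]
    refine Finset.sum_eq_zero fun τ _ => ?_
    rw [show ∑ v, ((o.rep i) (τ.1 v) : ℂ) = ∑ v, (L i τ v : ℂ) from rfl, sum_lin,
      if_neg (hL i τ)]
  · simp only [Orbits.eta, Finset.sum_mul_sum]
    rw [Finset.sum_comm]
    have e : ∀ τ : Γ, ∑ v : A, ∑ σ : Γ, (o.rep i (τ.1 v⁻¹) : ℂ) * (o.rep j (σ.1 v) : ℂ) =
        ∑ σ : Γ, if L j σ = L i τ then (Nat.card A : ℂ) else 0 := by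
      intro τ
      rw [Finset.sum_comm]
      refine Finset.sum_congr rfl fun σ _ => ?_
      rw [show ∑ v : A, (o.rep i (τ.1 v⁻¹) : ℂ) * (o.rep j (σ.1 v) : ℂ) =
        ∑ v : A, (((L i τ)⁻¹ * L j σ) v : ℂ) from Finset.sum_congr rfl fun v _ => by simp [L],
        sum_lin]
      refine if_congr ?_ rfl rfl
      exact (inv_mul_eq_one (G := A →* ℂˣ)).trans eq_comm
    rw [Finset.sum_congr rfl fun τ _ => e τ]
    split_ifs with hij
    · subst hij
      rw [Finset.sum_congr rfl fun τ _ => by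
        rw [Finset.sum_eq_single τ (fun σ _ hne => if_neg fun h => hne (hinj _ _ _ _ h).2)
          (fun h => absurd (Finset.mem_univ _) h), if_pos rfl],
        Finset.sum_const, Finset.card_univ, nsmul_eq_mul, Nat.card_eq_fintype_card (α := Γ)]
      ring
    · exact Finset.sum_eq_zero fun τ _ => Finset.sum_eq_zero fun σ _ =>
        if_neg fun h => hij (hinj _ _ _ _ h).1.symm

variable {G : Type u} [Group G] [Fintype G] {H : Type v} [Group H] [Fintype H] {p : ℕ}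
  {M : Ideal AlgInt} [M.IsPrime] {A : Type w} [Group A] [Fintype A] {m e : ℕ}
  {η : Fin m → A → ℂ} {B : Set (IrrCharacter G)} {c : Set (IrrCharacter H)}

/-- A set of characters with `e` constant signed rows and signed unit rows. -/
structure RowData (p : ℕ) (M : Ideal AlgInt) [M.IsPrime] (B : Set (IrrCharacter G))
    [Fintype {χ // χ ∈ B}] (e : ℕ) (η : Fin m → A → ℂ) where
  /-- The constant rows. -/
  C : Finset {χ // χ ∈ B}
  /-- The signs. -/
  δ : {χ // χ ∈ B} → ℤ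
  /-- The supports of the unit rows. -/
  out : {χ // χ ∈ B} → Fin m
  card : C.card = e
  sign : ∀ b, δ b = 1 ∨ δ b = -1
  inj : ∀ b ∉ C, ∀ b' ∉ C, out b = out b' → b = b'
  surj : ∀ i, ∃ b ∉ C, out b = i
  kill : ∀ b ∉ C, ∀ s : G, ¬ p ∣ orderOf s →
    (δ b : ℂ) * (b.1 : G → ℂ) s + ∑ b' ∈ C, (δ b' : ℂ) * (b'.1 : G → ℂ) s = 0
  sing : ∀ y : G, p ∣ orderOf y → ∃ cf : Fin m → ℂ,
    (∀ b ∈ C, (δ b : ℂ) * (b.1 : G → ℂ) y = ∑ i, cf i) ∧
      ∀ b ∉ C, (δ b : ℂ) * (b.1 : G → ℂ) y = cf (out b)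
  div : ∀ v : A, v ≠ 1 → ∀ g : G,
    MemLocalRing M ((-∑ b ∈ C, (δ b : ℂ) * (b.1 : G → ℂ) g +
        ∑ i, η i v * ((δ (surj i).choose : ℂ) * ((surj i).choose.1 : G → ℂ) g)) /
          (Nat.card (Subgroup.centralizer ({g} : Set G)) : ℂ)) ∧
      MemLocalRing M ((-∑ b ∈ C, (δ b : ℂ) * (b.1 : G → ℂ) g +
        ∑ i, η i v * ((δ (surj i).choose : ℂ) * ((surj i).choose.1 : G → ℂ) g)) /
          (Nat.card A : ℂ))

namespace RowData

variable [Fintype {χ // χ ∈ B}] [Fintype {ψ // ψ ∈ c}] (R : RowData p M B e η)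
  (S : RowData p M c e η)

/-- The character of a unit row. -/
noncomputable def row (i : Fin m) : {χ // χ ∈ B} := (R.surj i).choose

theorem row_spec (i : Fin m) : R.row i ∉ R.C ∧ R.out (R.row i) = i := (R.surj i).choose_spec

theorem row_out {b : {χ // χ ∈ B}} (hb : b ∉ R.C) : R.row (R.out b) = b :=
  R.inj _ (R.row_spec _).1 b hb (R.row_spec _).2

/-- The signed value of a row. -/
noncomputable def val (b : {χ // χ ∈ B}) (g : G) : ℂ := (R.δ b : ℂ) * (b.1 : G → ℂ) g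

theorem sum_split (F : {χ // χ ∈ B} → ℂ) :
    ∑ b, F b = ∑ b ∈ R.C, F b + ∑ i, F (R.row i) := by
  classical
  rw [← Finset.sum_filter_add_sum_filter_not Finset.univ (fun b => b ∈ R.C), Finset.filter_univ_mem]
  congr 1
  refine Finset.sum_nbij' R.out R.row (fun b _ => Finset.mem_univ _)
    (fun i _ => Finset.mem_filter.2 ⟨Finset.mem_univ _, (R.row_spec i).1⟩)
    (fun b hb => R.row_out (Finset.mem_filter.1 hb).2) (fun i _ => (R.row_spec i).2)
    fun b hb => by rw [R.row_out (Finset.mem_filter.1 hb).2]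

theorem sign_eq (hp : p.Prime) {b b' : {χ // χ ∈ B}} (hb : b ∉ R.C) (hb' : b' ∉ R.C) :
    R.δ b = R.δ b' := by
  have hone : ¬ p ∣ orderOf (1 : G) := by simpa using hp.ne_one
  have h1 := R.kill b hb 1 hone
  have h2 := R.kill b' hb' 1 hone
  have h : (R.δ b : ℂ) * (b.1 : G → ℂ) 1 = (R.δ b' : ℂ) * (b'.1 : G → ℂ) 1 := by
    linear_combination h1 - h2
  rw [irr_one_eq_charDegree, irr_one_eq_charDegree] at h
  have hh : R.δ b * (charDegree (b.1 : G → ℂ) : ℤ) =
      R.δ b' * (charDegree (b'.1 : G → ℂ) : ℤ) := by exact_mod_cast h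
  have d1 := charDegree_pos b.1
  have d2 := charDegree_pos b'.1
  rcases R.sign b with e1 | e1 <;> rcases R.sign b' with e2 | e2 <;>
    rw [e1, e2] at hh ⊢ <;> omega

/-- A bijection that respects the rows. -/
def Respects (Φ : {ψ // ψ ∈ c} ≃ {χ // χ ∈ B}) : Prop :=
  (∀ b, Φ b ∈ R.C ↔ b ∈ S.C) ∧ ∀ b ∉ S.C, R.out (Φ b) = S.out b

theorem Respects.symm {Φ : {ψ // ψ ∈ c} ≃ {χ // χ ∈ B}} (h : R.Respects S Φ) :
    S.Respects R Φ.symm := by
  refine ⟨fun b => ?_, fun b hb => ?_⟩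
  · rw [← h.1 (Φ.symm b), Φ.apply_symm_apply]
  · have hb' : Φ.symm b ∉ S.C := fun h' => hb (by
      have := (h.1 (Φ.symm b)).2 h'
      rwa [Φ.apply_symm_apply] at this)
    have := h.2 _ hb'
    rw [Φ.apply_symm_apply] at this
    exact this.symm

theorem exists_respects : ∃ Φ : {ψ // ψ ∈ c} ≃ {χ // χ ∈ B}, R.Respects S Φ := by
  classical
  let eC : S.C ≃ R.C := Finset.equivOfCardEq (S.card.trans R.card.symm)
  let f : {ψ // ψ ∈ c} → {χ // χ ∈ B} := fun b =>
    if h : b ∈ S.C then (eC ⟨b, h⟩).1 else R.row (S.out b)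
  have hf1 : ∀ b, f b ∈ R.C ↔ b ∈ S.C := by
    intro b
    by_cases h : b ∈ S.C
    · simp only [f, dif_pos h, h, iff_true]; exact (eC ⟨b, h⟩).2
    · simp only [f, dif_neg h, h, iff_false]; exact (R.row_spec _).1
  have hbij : Function.Bijective f := by
    refine ⟨fun b b' h => ?_, fun b => ?_⟩
    · by_cases hb : b ∈ S.C
      · have hb' : b' ∈ S.C := (hf1 b').1 (h ▸ (hf1 b).2 hb)
        simp only [f, dif_pos hb, dif_pos hb'] at h
        exact congrArg Subtype.val (eC.injective (Subtype.ext h))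
      · have hb' : b' ∉ S.C := fun h' => hb ((hf1 b).1 (h ▸ (hf1 b').2 h'))
        simp only [f, dif_neg hb, dif_neg hb'] at h
        refine S.inj b hb b' hb' ?_
        have := congrArg R.out h
        rwa [(R.row_spec _).2, (R.row_spec _).2] at this
    · by_cases hb : b ∈ R.C
      · refine ⟨(eC.symm ⟨b, hb⟩).1, ?_⟩
        simp only [f, dif_pos (eC.symm ⟨b, hb⟩).2, Subtype.coe_eta, Equiv.apply_symm_apply]
      · refine ⟨S.row (R.out b), ?_⟩
        simp only [f, dif_neg (S.row_spec _).1, (S.row_spec _).2, R.row_out hb]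
  refine ⟨Equiv.ofBijective f hbij, hf1, fun b hb => ?_⟩
  show R.out (f b) = S.out b
  simp only [f, dif_neg hb]
  exact (R.row_spec _).2

variable {Φ : {ψ // ψ ∈ c} ≃ {χ // χ ∈ B}}

/-- The kernel of the matching. -/
noncomputable def pairing (Φ : {ψ // ψ ∈ c} ≃ {χ // χ ∈ B}) (g : G) (h : H) : ℂ :=
  ∑ b, R.val (Φ b) g * S.val b h

theorem pairing_symm (g : G) (h : H) : R.pairing S Φ g h = S.pairing R Φ.symm h g := by
  simp only [pairing]
  exact Fintype.sum_equiv Φ _ _ fun b => by rw [Equiv.symm_apply_apply, mul_comm]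

theorem pairing_split (hΦ : R.Respects S Φ) (g : G) (h : H) :
    R.pairing S Φ g h = ∑ b ∈ S.C, R.val (Φ b) g * S.val b h +
      ∑ i, R.val (R.row i) g * S.val (S.row i) h := by
  rw [pairing, S.sum_split]
  congr 1
  refine Finset.sum_congr rfl fun i _ => ?_
  have hn : Φ (S.row i) ∉ R.C := fun h' => (S.row_spec i).1 ((hΦ.1 _).1 h')
  rw [show Φ (S.row i) = R.row i from by
    rw [← R.row_out hn, hΦ.2 _ (S.row_spec i).1, (S.row_spec i).2]]

theorem sum_val_C (hΦ : R.Respects S Φ) (g : G) :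
    ∑ b ∈ S.C, R.val (Φ b) g = ∑ b ∈ R.C, R.val b g :=
  Finset.sum_equiv Φ (fun b => (hΦ.1 b).symm) fun _ _ => rfl

theorem pairing_mixed (hΦ : R.Respects S Φ) {g : G} {h : H}
    (hg : p ∣ orderOf g) (hh : ¬ p ∣ orderOf h) : R.pairing S Φ g h = 0 := by
  obtain ⟨cf, hC, hD⟩ := R.sing g hg
  set T := ∑ b ∈ S.C, S.val b h with hT
  have e2 : ∀ i, S.val (S.row i) h = -T := fun i =>
    eq_neg_of_add_eq_zero_left (S.kill _ (S.row_spec i).1 h hh)
  rw [R.pairing_split S hΦ,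
    Finset.sum_congr rfl fun b hb => show R.val (Φ b) g * S.val b h = (∑ i, cf i) * S.val b h by
      rw [val, hC _ ((hΦ.1 b).2 hb)],
    Finset.sum_congr rfl fun i _ => show R.val (R.row i) g * S.val (S.row i) h = cf i * -T by
      rw [e2, val, hD _ (R.row_spec i).1, (R.row_spec i).2],
    ← Finset.mul_sum, ← Finset.sum_mul, ← hT]
  ring

open scoped Classical in
theorem pairing_singular (hη : EtaProps e η) (hΦ : R.Respects S Φ) {g : G} {h : H}
    (hg : p ∣ orderOf g) (hh : p ∣ orderOf h) :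
    (e : ℂ) * (Nat.card A : ℂ) * R.pairing S Φ g h =
      ∑ v ∈ Finset.univ.filter (fun v : A => v⁻¹ ≠ 1),
        (-∑ b ∈ R.C, R.val b g + ∑ i, η i v⁻¹ * R.val (R.row i) g) *
          (-∑ b ∈ S.C, S.val b h + ∑ i, η i v * S.val (S.row i) h) := by
  classical
  obtain ⟨cf, hC, hD⟩ := R.sing g hg
  obtain ⟨cf', hC', hD'⟩ := S.sing h hh
  have eD : ∀ i, R.val (R.row i) g = cf i := fun i => by
    rw [val, hD _ (R.row_spec i).1, (R.row_spec i).2]
  have eD' : ∀ i, S.val (S.row i) h = cf' i := fun i => by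
    rw [val, hD' _ (S.row_spec i).1, (S.row_spec i).2]
  have eC : ∑ b ∈ R.C, R.val b g = (e : ℂ) * ∑ i, cf i := by
    rw [Finset.sum_congr rfl fun b hb => show R.val b g = ∑ i, cf i from hC b hb,
      Finset.sum_const, R.card, nsmul_eq_mul]
  have eC' : ∑ b ∈ S.C, S.val b h = (e : ℂ) * ∑ i, cf' i := by
    rw [Finset.sum_congr rfl fun b hb => show S.val b h = ∑ i, cf' i from hC' b hb,
      Finset.sum_const, S.card, nsmul_eq_mul]
  simp only [eD, eD', eC, eC']
  rw [Finset.sum_filter_of_ne]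
  swap
  · intro v _ hne hv
    refine hne ?_
    rw [hv, Finset.sum_congr rfl fun i _ => show η i 1 * cf i = (e : ℂ) * cf i by rw [hη.one i],
      ← Finset.mul_sum, neg_add_cancel, zero_mul]
  simp only [add_mul, mul_add, Finset.sum_add_distrib, Finset.sum_const, Finset.card_univ,
    nsmul_eq_mul]
  have z1 : ∑ v : A, ∑ i, η i v * cf' i = 0 := by
    rw [Finset.sum_comm]
    exact Finset.sum_eq_zero fun i _ => by rw [← Finset.sum_mul, hη.sum, zero_mul]
  have z2 : ∑ v : A, ∑ i, η i v⁻¹ * cf i = 0 := by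
    refine (Equiv.sum_comp (Equiv.inv A) fun v => ∑ i, η i v * cf i).trans ?_
    rw [Finset.sum_comm]
    exact Finset.sum_eq_zero fun i _ => by rw [← Finset.sum_mul, hη.sum, zero_mul]
  have z3 : ∑ v : A, (∑ i, η i v⁻¹ * cf i) * ∑ j, η j v * cf' j =
      (e : ℂ) * (Nat.card A : ℂ) * ∑ i, cf i * cf' i := by
    simp only [Finset.sum_mul_sum]
    rw [Finset.sum_comm, Finset.mul_sum]
    refine Finset.sum_congr rfl fun i _ => ?_
    rw [Finset.sum_comm, Finset.sum_congr rfl fun j _ => show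
      ∑ v : A, η i v⁻¹ * cf i * (η j v * cf' j) = cf i * cf' j * ∑ v : A, η i v⁻¹ * η j v by
        rw [Finset.mul_sum]; exact Finset.sum_congr rfl fun v _ => by ring]
    simp only [hη.orth, mul_ite, mul_zero, Finset.sum_ite_eq, Finset.mem_univ, if_true]
    ring
  rw [← Finset.mul_sum, z1, ← Finset.sum_mul, z2, z3, R.pairing_split S hΦ,
    Finset.sum_congr rfl fun b hb => show R.val (Φ b) g * S.val b h = (∑ i, cf i) * ∑ i, cf' i by
      rw [val, val, hC _ ((hΦ.1 b).2 hb), hC' b hb],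
    Finset.sum_const, S.card, nsmul_eq_mul, ← Nat.card_eq_fintype_card]
  simp only [eD, eD']
  ring

theorem pairing_div (hM : IsPModular p M) (hpe : ¬ p ∣ e) (hη : EtaProps e η)
    (hΦ : R.Respects S Φ) (g : G) (h : H) :
    MemLocalRing M (R.pairing S Φ g h / (Nat.card (Subgroup.centralizer ({g} : Set G)) : ℂ)) ∧
      ((¬ p ∣ orderOf g ↔ ¬ p ∣ orderOf h) ∨ R.pairing S Φ g h = 0) := by
  classical
  have he : (e : ℂ) ≠ 0 := Nat.cast_ne_zero.2 fun h => hpe (h ▸ dvd_zero p)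
  by_cases hg : p ∣ orderOf g
  · by_cases hh : p ∣ orderOf h
    · refine ⟨?_, .inl (by simp [hg, hh])⟩
      have hA : (Nat.card A : ℂ) ≠ 0 := Nat.cast_ne_zero.2 Nat.card_pos.ne'
      have hc : (Nat.card (Subgroup.centralizer ({g} : Set G)) : ℂ) ≠ 0 :=
        Nat.cast_ne_zero.2 Nat.card_pos.ne'
      rw [show R.pairing S Φ g h / (Nat.card (Subgroup.centralizer ({g} : Set G)) : ℂ) =
        ((1 : ℕ) : ℂ) / (e : ℂ) * ((e : ℂ) * (Nat.card A : ℂ) * R.pairing S Φ g h /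
          ((Nat.card (Subgroup.centralizer ({g} : Set G)) : ℂ) * (Nat.card A : ℂ))) by
            push_cast; field_simp,
        R.pairing_singular S hη hΦ hg hh, Finset.sum_div]
      refine (locRing M).mul_mem (mem_locRing.2 (memLocalRing_natDiv hM ?_))
        (mem_locRing.2 (memLocalRing_sum _ _ fun v hv => ?_))
      · rw [Nat.factorization_eq_zero_of_not_dvd hpe]; exact Nat.zero_le _
      · have hv' := (Finset.mem_filter.1 hv).2
        rw [← div_mul_div_comm]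
        exact (locRing M).mul_mem (mem_locRing.2 (R.div v⁻¹ hv' g).1)
          (mem_locRing.2 (S.div v (by simpa using hv') h).2)
    · rw [R.pairing_mixed S hΦ hg hh, zero_div]
      exact ⟨(locRing M).zero_mem, .inr rfl⟩
  · by_cases hh : p ∣ orderOf h
    · rw [R.pairing_symm S, S.pairing_mixed R hΦ.symm hh hg, zero_div]
      exact ⟨(locRing M).zero_mem, .inr rfl⟩
    refine ⟨?_, .inl (by simp [hg, hh])⟩
    let n : IrrCharacter G → ℂ := fun χ =>
      if hχ : χ ∈ B then (R.δ ⟨χ, hχ⟩ : ℂ) * S.val (Φ.symm ⟨χ, hχ⟩) h else 0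
    have hconv : ∀ z : G, ∑ χ ∈ Finset.univ.filter (· ∈ B), n χ * (χ : G → ℂ) z =
        R.pairing S Φ z h := by
      intro z
      rw [Finset.sum_subtype (p := fun χ => χ ∈ B) (Finset.univ.filter (· ∈ B))
        (fun χ => by simp) fun χ => n χ * (χ : G → ℂ) z, R.pairing_symm S, pairing]
      refine Finset.sum_congr rfl fun b _ => ?_
      simp only [n, dif_pos b.2, val]
      ring
    rw [← hconv g]
    refine Cfsg.Agent.KleinSigns.regular_div_centralizer hM _ n (fun χ hχ => ?_)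
      (fun z hz => ?_) hg
    · simp only [n, dif_pos (Finset.mem_filter.1 hχ).2, val]
      exact (locRing M).mul_mem (intCast_mem (locRing M) _)
        ((locRing M).mul_mem (intCast_mem (locRing M) _)
          (mem_locRing_of_isIntegral (irr_isIntegral _ _)))
    · rw [hconv z]
      exact R.pairing_mixed S hΦ hz hh

end RowData

open scoped Classical in
/-- Two sets of characters with the same rows are perfectly isometric. -/
theorem exists_perfect_isometry [Fact p.Prime] [Fintype {χ // χ ∈ B}] [Fintype {ψ // ψ ∈ c}]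
    (hM : IsPModular p M) (hm : 1 ≤ m) (hpe : ¬ p ∣ e) (hη : EtaProps e η)
    (R : RowData p M B e η) (S : RowData p M c e η) :
    ∃ (I : IrrCharacter H → IrrCharacter G) (ε : IrrCharacter H → ℤ),
      IsPerfectIsometry p M c B I ε ∧ ∀ b : {ψ // ψ ∈ c}, b ∉ S.C → ∀ b' : {ψ // ψ ∈ c},
        b' ∉ S.C → S.δ b = S.δ b' → ε b.1 = ε b'.1 := by
  obtain ⟨Φ, hΦ⟩ := R.exists_respects S
  let I : IrrCharacter H → IrrCharacter G := fun ψ =>
    if hψ : ψ ∈ c then (Φ ⟨ψ, hψ⟩).1 else (R.row ⟨0, hm⟩).1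
  let ε : IrrCharacter H → ℤ := fun ψ =>
    if hψ : ψ ∈ c then S.δ ⟨ψ, hψ⟩ * R.δ (Φ ⟨ψ, hψ⟩) else 1
  have hI : ∀ b : {ψ // ψ ∈ c}, I b.1 = (Φ b).1 := fun b => dif_pos b.2
  have hε : ∀ b : {ψ // ψ ∈ c}, ε b.1 = S.δ b * R.δ (Φ b) := fun b => dif_pos b.2
  have hker : ∀ g h, signedBijectionKernel c I ε g h = R.pairing S Φ g h := by
    intro g h
    rw [signedBijectionKernel, finsum_mem_eq_finite_toFinset_sum _ (Set.toFinite c),
      Finset.sum_subtype (p := fun ψ => ψ ∈ c) (Set.toFinite c).toFinset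
        (fun ψ => Set.Finite.mem_toFinset _) fun ψ =>
          (ε ψ : ℂ) * (I ψ : G → ℂ) g * (ψ : H → ℂ) h]
    refine Finset.sum_congr rfl fun b _ => ?_
    rw [hI, hε, RowData.val, RowData.val]
    push_cast
    ring
  refine ⟨I, ε, ⟨⟨fun ψ hψ => ?_, fun ψ hψ ψ' hψ' h => ?_, fun χ hχ => ?_⟩, fun ψ hψ => ?_,
    fun g h => ?_⟩, fun b hb b' hb' heq => ?_⟩
  · rw [show I ψ = _ from hI ⟨ψ, hψ⟩]; exact (Φ ⟨ψ, hψ⟩).2
  · rw [show I ψ = _ from hI ⟨ψ, hψ⟩, show I ψ' = _ from hI ⟨ψ', hψ'⟩] at h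
    exact congrArg Subtype.val (Φ.injective (Subtype.ext h))
  · exact ⟨(Φ.symm ⟨χ, hχ⟩).1, (Φ.symm ⟨χ, hχ⟩).2, by rw [hI, Equiv.apply_symm_apply]⟩
  · rw [show ε ψ = _ from hε ⟨ψ, hψ⟩]
    rcases S.sign ⟨ψ, hψ⟩ with h1 | h1 <;> rcases R.sign (Φ ⟨ψ, hψ⟩) with h2 | h2 <;>
      rw [h1, h2] <;> norm_num
  · rw [hker]
    obtain ⟨h1, h2⟩ := R.pairing_div S hM hpe hη hΦ g h
    obtain ⟨h3, -⟩ := S.pairing_div R hM hpe hη hΦ.symm h g
    rw [← R.pairing_symm S] at h3
    exact ⟨h1, h3, h2⟩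
  · rw [hε, hε, heq, R.sign_eq (Fact.out : p.Prime) (fun h => hb ((hΦ.1 b).1 h))
      (fun h => hb' ((hΦ.1 b').1 h))]

end Cfsg.Agent.Abelian
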