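/-
The rows of a block with cyclic defect group along prescribed orbit representatives.
-/
import Cfsg.Agent.Lib.Star.Abelian.PerfectRows
import Cfsg.Agent.Lib.Star.Abelian.CyclicStructure

set_option linter.unusedSectionVars false
set_option linter.style.haveILetI false

namespace Cfsg.Agent.Abelian

open Cfsg MonoidAlgebra Cfsg.Agent.Blocks Cfsg.Agent.BrauerPairs Cfsg.Agent.Char Cfsg.Agent.Star
open scoped ComplexConjugate

universe u v w

/-- Subgroups of automorphisms of a cyclic `p`-group of equal order dividing `p - 1` agree. -/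
theorem autSubgroup_unique {A : Type w} [Group A] [Finite A] (hcyc : IsCyclic A) {p a : ℕ}
    (hp : p.Prime) (hA : Nat.card A = p ^ a) {e : ℕ} (he : e ∣ p - 1)
    {Γ Γ' : Subgroup (MulAut A)} (h : Nat.card Γ = e) (h' : Nat.card Γ' = e) : Γ = Γ' := by
  classical
  haveI := hcyc
  rcases eq_or_ne p 2 with rfl | hp2
  · obtain rfl : e = 1 := Nat.dvd_one.1 (by simpa using he)
    rw [Subgroup.card_eq_one.1 h, Subgroup.card_eq_one.1 h']
  haveI : IsCyclic (ZMod (Nat.card A))ˣ := by
    rw [hA]
    exact ZMod.isCyclic_units_of_prime_pow p hp hp2 a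
  haveI : IsCyclic (MulAut A) :=
    isCyclic_of_surjective (IsCyclic.mulAutMulEquiv A).symm (IsCyclic.mulAutMulEquiv A).symm.surjective
  haveI : Fintype (MulAut A) := Fintype.ofFinite _
  have key : ∀ Δ : Subgroup (MulAut A), Nat.card Δ = e →
      (Δ : Set (MulAut A)).toFinset = Finset.univ.filter (fun τ : MulAut A => τ ^ e = 1) := by
    intro Δ hΔ
    refine Finset.eq_of_subset_of_card_le (fun τ hτ => ?_) ?_
    · refine Finset.mem_filter.2 ⟨Finset.mem_univ _, ?_⟩
      have hτ' : τ ∈ Δ := Set.mem_toFinset.1 hτ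
      have := pow_card_eq_one' (x := (⟨τ, hτ'⟩ : Δ))
      rw [hΔ] at this
      exact congrArg Subtype.val this
    · refine (IsCyclic.card_pow_eq_one_le (α := MulAut A) ?_).trans (le_of_eq ?_)
      · exact hΔ ▸ Nat.card_pos
      · rw [Set.toFinset_card, ← hΔ, ← Nat.card_eq_fintype_card]
        rfl
  exact SetLike.coe_injective (Set.toFinset_inj.1 ((key Γ h).trans (key Γ' h').symm))

variable {G : Type u} [Group G] [Fintype G] {p : ℕ} [Fact p.Prime] {M : Ideal AlgInt} [M.IsPrime]

open scoped Classical in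
/-- The rows of a block with cyclic defect group. -/
theorem exists_rowData (hM : IsPModular p M) {B : Set (IrrCharacter G)} {P : Subgroup G}
    (hPD : IsDefectGroup p M B P) (hcyc : IsCyclic P) (hP1 : P ≠ ⊥)
    {c : Set (IrrCharacter (Subgroup.centralizer (P : Set G)))}
    (hc : IsInducedBlock M (Subgroup.centralizer (P : Set G)) c B) {e : ℕ}
    (he : (Subgroup.centralizer (P : Set G)).relIndex
      (stabP (P, zB M (Subgroup.centralizer (P : Set G)) c)) = e)
    {Γ : Subgroup (MulAut P)} (hΓ : Nat.card Γ = e) {m : ℕ} (o : Orbits Γ m) :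
    Nonempty (RowData p M B e o.eta) ∧ EtaProps e o.eta ∧ 1 ≤ m ∧ ¬ p ∣ e ∧
      Nat.card B = e + m ∧ m * e + 1 = Nat.card P := by
  have hp : p.Prime := Fact.out
  haveI : CharP (resField M) p := resField_charP hM
  have hB := hc.2.1
  have hP : IsPGroup p P := ((isDefectGroup_iff hB P).1 hPD).pgroup
  obtain ⟨a, ha⟩ := hP.exists_card_eq
  have hPC := cyclic_le_centralizer hcyc
  have hfree : FreeInertia P (zB M (Subgroup.centralizer (P : Set G)) c) :=
    fun g hg y hy hy1 hfix => cyclic_free hM hPD hcyc hc hg hy hy1 hfix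
  obtain ⟨hdiv, hl, m₁, hm₁, hk⟩ := cyclic_counts hM hPD hcyc hP1 hc he
  obtain rfl : Γ = autImage P (stabP ((P, zB M (Subgroup.centralizer (P : Set G)) c) :
      Pr (resField M) G)) (stabP_le_normalizer _) :=
    autSubgroup_unique hcyc hp ha hdiv hΓ ((card_autImage P _ _).trans he)
  obtain ⟨x, hgram, hnz, hkill, hdv⟩ := exists_inertial_rows_orbits hM hPD hP1 hPC hc hfree o
  rw [he] at hgram
  letI : CommGroup P :=
    { (inferInstance : Group P) with
      mul_comm := fun a b => Subtype.ext (Subgroup.mem_centralizer_iff.1 (hPC b.2) a a.2) }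
  have hη := Orbits.props o (autImage_free hfree (stabP_le_normalizer _))
  rw [(card_autImage P _ (stabP_le_normalizer _)).trans he] at hη
  have hp1 : 0 < p - 1 := by have := hp.two_le; omega
  have he0 : 0 < e := Nat.pos_of_dvd_of_pos hdiv hp1
  have hep : e < p := by
    have := Nat.le_of_dvd hp1 hdiv
    omega
  haveI : Nontrivial P := (Subgroup.nontrivial_iff_ne_bot P).2 hP1
  obtain ⟨v₁, hv₁⟩ := exists_ne (1 : P)
  have hmcard : m * e + 1 = Nat.card P := by
    have key : ∑ v : P, ∑ i, o.eta i v = 0 := by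
      rw [Finset.sum_comm]
      exact Finset.sum_eq_zero fun i _ => hη.sum i
    rw [← Finset.add_sum_erase _ _ (Finset.mem_univ (1 : P)),
      Finset.sum_congr rfl fun v hv => hη.total v (Finset.mem_erase.1 hv).1, Finset.sum_const,
      Finset.sum_congr rfl fun i _ => hη.one i, Finset.sum_const,
      Finset.card_erase_of_mem (Finset.mem_univ _), Finset.card_univ, Finset.card_univ,
      Fintype.card_fin, nsmul_eq_mul, nsmul_eq_mul, mul_neg_one, ← sub_eq_add_neg, sub_eq_zero,
      ← Nat.cast_mul, Nat.cast_inj] at key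
    rw [key, Nat.card_eq_fintype_card]
    have := Fintype.card_pos (α := P)
    omega
  obtain rfl : m₁ = m := Nat.eq_of_mul_eq_mul_right he0 (by omega)
  have hm : 1 ≤ m₁ := by
    rcases Nat.eq_zero_or_pos m₁ with h | h
    · subst h
      have h := hη.total v₁ hv₁
      simp at h
    · exact h
  obtain ⟨C, δ, out, hCe, hδ, hCx, hDx, hinj, hsurj⟩ := rows_structure hm x hgram hnz (by
    rw [Fintype.card_eq_nat_card]
    change Nat.card {χ // χ ∈ B} = _ at hk
    omega)
  have hδ2 : ∀ b, (δ b : ℂ) * (δ b : ℂ) = 1 := fun b => by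
    rcases hδ b with h | h <;> rw [h] <;> norm_num
  let row : Fin m₁ → {χ // χ ∈ B} := fun i => (hsurj i).choose
  have hrow : ∀ i, row i ∉ C ∧ out (row i) = i := fun i => (hsurj i).choose_spec
  have hrowout : ∀ b, b ∉ C → row (out b) = b := fun b hb =>
    hinj _ (hrow _).1 b hb (hrow _).2
  have hsplit : ∀ (F : {χ // χ ∈ B} → ℂ),
      ∑ b, F b = ∑ b ∈ C, F b + ∑ i, F (row i) := by
    intro F
    rw [← Finset.sum_filter_add_sum_filter_not Finset.univ (fun b => b ∈ C), Finset.filter_univ_mem]
    congr 1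
    refine Finset.sum_nbij' out row (fun b _ => Finset.mem_univ _)
      (fun i _ => Finset.mem_filter.2 ⟨Finset.mem_univ _, (hrow i).1⟩)
      (fun b hb => hrowout b (Finset.mem_filter.1 hb).2) (fun i _ => (hrow i).2)
      fun b hb => by rw [hrowout b (Finset.mem_filter.1 hb).2]
  have hxrow : ∀ i j, x (row i) j = if j = i then δ (row i) else 0 := fun i j => by
    rw [hDx _ (hrow i).1, (hrow i).2]
  have hli : LinearIndependent ℂ fun i (b : {χ // χ ∈ B}) => (x b i : ℂ) := by
    rw [Fintype.linearIndependent_iff]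
    intro cf hcf i
    have h := congrFun hcf (row i)
    simp only [Finset.sum_apply, Pi.smul_apply, smul_eq_mul, Pi.zero_apply, hxrow,
      Int.cast_ite, Int.cast_zero, mul_ite, mul_zero, Finset.sum_ite_eq', Finset.mem_univ,
      if_true] at h
    exact (mul_eq_zero.1 h).resolve_right fun h0 => by
      have := hδ2 (row i); rw [h0, zero_mul] at this; exact zero_ne_one this
  have hkill' : ∀ b ∉ C, ∀ s : G, ¬ p ∣ orderOf s →
      (δ b : ℂ) * (b.1 : G → ℂ) s + ∑ b' ∈ C, (δ b' : ℂ) * (b'.1 : G → ℂ) s = 0 := by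
    intro b hb s hs
    have h := hkill (out b) s hs
    rw [hsplit, Finset.sum_eq_single (out b) (fun i _ hne => by
        rw [hxrow, if_neg (Ne.symm hne), Int.cast_zero, zero_mul])
      (fun h => absurd (Finset.mem_univ _) h), hxrow, if_pos rfl, hrowout b hb,
      Finset.sum_congr rfl fun b' hb' => by rw [hCx b' hb' (out b)]] at h
    linear_combination h
  refine ⟨⟨{
    C := C
    δ := δ
    out := out
    card := hCe
    sign := hδ
    inj := hinj
    surj := hsurj
    kill := hkill'
    sing := fun y hy => ?_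
    div := fun v hv g => ?_ }⟩, hη, hm, fun h => absurd (Nat.le_of_dvd he0 h) (by omega), hk, hm₁⟩
  · obtain ⟨cf, hcf⟩ := mem_span_rows x hli hkill (by omega) (fun b => (b.1 : G → ℂ) y) (fun s hs => by
      have h := blockPair_regular_singular hM hB (u := s) (w := y⁻¹) hs (by rwa [orderOf_inv])
      rw [← h, blockPair_eq_finsum, finsum_mem_eq_finite_toFinset_sum _ (Set.toFinite B),
        ← Finset.sum_subtype (p := fun χ => χ ∈ B) (Set.toFinite B).toFinset
          (fun χ => Set.Finite.mem_toFinset _) fun χ => (χ : G → ℂ) y * (χ : G → ℂ) s]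
      refine (Finset.sum_congr rfl fun χ _ => ?_).symm
      rw [← irr_inv χ y⁻¹, inv_inv, mul_comm])
    refine ⟨cf, fun b hb => ?_, fun b hb => ?_⟩
    · rw [hcf b, Finset.sum_congr rfl fun i _ => by rw [hCx b hb i], ← Finset.sum_mul,
        mul_comm, mul_assoc, hδ2, mul_one]
    · rw [hcf b, Finset.sum_eq_single (out b) (fun i _ hne => by
          rw [hDx b hb, if_neg hne, Int.cast_zero, mul_zero])
        (fun h => absurd (Finset.mem_univ _) h), hDx b hb, if_pos rfl, mul_comm, mul_assoc, hδ2,
        mul_one]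
  · have e1 : ∑ b, (∑ i, (x b i : ℂ) * o.eta i v) * (b.1 : G → ℂ) g =
        -∑ b ∈ C, (δ b : ℂ) * (b.1 : G → ℂ) g +
          ∑ i, o.eta i v * ((δ (row i) : ℂ) * ((row i).1 : G → ℂ) g) := by
      rw [hsplit, ← Finset.sum_neg_distrib]
      congr 1
      · refine Finset.sum_congr rfl fun b hb => ?_
        rw [Finset.sum_congr rfl fun i _ => by rw [hCx b hb i], ← Finset.mul_sum, hη.total v hv]
        ring
      · refine Finset.sum_congr rfl fun i _ => ?_
        rw [Finset.sum_eq_single i (fun j _ hne => by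
            rw [hxrow, if_neg hne, Int.cast_zero, zero_mul])
          (fun h => absurd (Finset.mem_univ _) h), hxrow, if_pos rfl]
        ring
    have h := hdv v hv g
    rwa [e1] at h

end Cfsg.Agent.Abelian
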