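/-
The rows of the correspondent of a block in a subgroup containing the normaliser of its cyclic
defect group.
-/
import Cfsg.Agent.Lib.Star.Abelian.CyclicData

set_option linter.unusedSectionVars false
set_option linter.style.haveILetI false

namespace Cfsg.Agent.Abelian

open Cfsg MonoidAlgebra Cfsg.Agent.Blocks Cfsg.Agent.BrauerPairs Cfsg.Agent.Char Cfsg.Agent.Star

universe u v w w'

/-- Orbit representatives carried along an isomorphism. -/
def Orbits.transport {A : Type w} [Group A] {A' : Type w'} [Group A'] (ι : A' ≃* A)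
    {Γ : Subgroup (MulAut A)} {m : ℕ} (o : Orbits Γ m) :
    Orbits (Γ.map (MulAut.congr ι.symm).toMonoidHom) m where
  rep i := (o.rep i).comp ι.toMonoidHom
  ne i h := o.ne i (MonoidHom.ext fun v => by simpa using DFunLike.congr_fun h (ι.symm v))
  uniq := by
    rintro i i' ⟨_, τ, hτ, rfl⟩ h
    refine o.uniq i i' ⟨τ, hτ⟩ fun v => ?_
    have h1 : o.rep i (ι (ι.symm (τ (ι (ι.symm v))))) = o.rep i' (ι (ι.symm v)) := h (ι.symm v)
    simpa using h1
  cover l hl := by
    obtain ⟨i, τ, hτ⟩ := o.cover (l.comp ι.symm.toMonoidHom) fun h => hl (MonoidHom.ext fun v => by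
      simpa using DFunLike.congr_fun h (ι v))
    refine ⟨i, ⟨_, τ.1, τ.2, rfl⟩, fun v => ?_⟩
    show o.rep i (ι (ι.symm (τ.1 (ι v)))) = l v
    rw [ι.apply_symm_apply, hτ]
    simp

open scoped Classical in
theorem Orbits.eta_transport {A : Type w} [Group A] [Fintype A] {A' : Type w'} [Group A']
    [Fintype A'] (ι : A' ≃* A) {Γ : Subgroup (MulAut A)} {m : ℕ} (o : Orbits Γ m) (i : Fin m)
    (v : A') : (o.transport ι).eta i v = o.eta i (ι v) := by
  simp only [Orbits.eta]
  refine (Fintype.sum_equiv (Γ.equivMapOfInjective _ (MulAut.congr ι.symm).injective).toEquiv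
    _ _ fun τ => ?_).symm
  show ((o.rep i) (τ.1 (ι v)) : ℂ) = ((o.rep i) (ι (ι.symm (τ.1 (ι v)))) : ℂ)
  rw [ι.apply_symm_apply]

open scoped Classical in
/-- Rows carried along an isomorphism of the parameters. -/
noncomputable def RowData.transport {H : Type v} [Group H] [Fintype H] {p : ℕ} {M : Ideal AlgInt}
    [M.IsPrime] {c : Set (IrrCharacter H)} [Fintype {ψ // ψ ∈ c}] {A : Type w} [Group A]
    [Fintype A] {A' : Type w'} [Group A'] [Fintype A'] (ι : A' ≃* A) {m e : ℕ}
    {η : Fin m → A → ℂ} {η' : Fin m → A' → ℂ} (h : ∀ i v, η' i v = η i (ι v))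
    (R : RowData p M c e η') : RowData p M c e η where
  C := R.C
  δ := R.δ
  out := R.out
  card := R.card
  sign := R.sign
  inj := R.inj
  surj := R.surj
  kill := R.kill
  sing := R.sing
  div v hv g := by
    have h1 := R.div (ι.symm v) (fun h' => hv (by simpa using congrArg ι h')) g
    rw [Nat.card_congr ι.toEquiv] at h1
    simpa only [h, MulEquiv.apply_symm_apply] using h1

variable {G : Type u} [Group G] [Fintype G] {p : ℕ} [Fact p.Prime] {M : Ideal AlgInt} [M.IsPrime]

/-- The centraliser of a subgroup inside an overgroup of its centraliser. -/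
noncomputable def centralizerEquivIn (P H : Subgroup G) (hPH : P ≤ H)
    (hCH : Subgroup.centralizer (P : Set G) ≤ H) :
    Subgroup.centralizer ((P.subgroupOf H : Subgroup H) : Set H) ≃*
      Subgroup.centralizer (P : Set G) where
  toFun k := ⟨((k : H) : G), fun v hv => congrArg Subtype.val (k.2 ⟨v, hPH hv⟩ hv)⟩
  invFun k := ⟨⟨k, hCH k.2⟩, fun v hv => Subtype.ext (k.2 (v : G) hv)⟩
  left_inv _ := rfl
  right_inv _ := rfl
  map_mul' _ _ := rfl

/-- A block of an overgroup of the normaliser has a root with the same inertial index. -/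
theorem exists_common_root (hM : IsPModular p M) {B : Set (IrrCharacter G)} {P H : Subgroup G}
    [Fintype H] (hPg : IsPGroup p P) (hPC : P ≤ Subgroup.centralizer (P : Set G))
    (hN : Subgroup.normalizer (P : Set G) ≤ H) {c : Set (IrrCharacter H)}
    (hcD : IsDefectGroup p M c (P.subgroupOf H)) (hc : IsInducedBlock M H c B) :
    ∃ (c0 : Set (IrrCharacter (Subgroup.centralizer (P : Set G))))
      (c1 : Set (IrrCharacter (Subgroup.centralizer ((P.subgroupOf H : Subgroup H) : Set H)))),
      IsInducedBlock M (Subgroup.centralizer (P : Set G)) c0 B ∧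
      IsInducedBlock M (Subgroup.centralizer ((P.subgroupOf H : Subgroup H) : Set H)) c1 c ∧
      (Subgroup.centralizer ((P.subgroupOf H : Subgroup H) : Set H)).relIndex
          (stabP ((P.subgroupOf H, zB M
            (Subgroup.centralizer ((P.subgroupOf H : Subgroup H) : Set H)) c1) :
            Pr (resField M) H)) =
        (Subgroup.centralizer (P : Set G)).relIndex
          (stabP ((P, zB M (Subgroup.centralizer (P : Set G)) c0) : Pr (resField M) G)) := by
  classical
  haveI : CharP (resField M) p := resField_charP hM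
  have hPH : P ≤ H := Subgroup.le_normalizer.trans hN
  have hCH : Subgroup.centralizer (P : Set G) ≤ H :=
    (Subgroup.centralizer_le_normalizer _).trans hN
  let C := Subgroup.centralizer (P : Set G)
  let P' := P.subgroupOf H
  let C' := Subgroup.centralizer (P' : Set H)
  obtain ⟨z, hz⟩ := exists_pairOf_defGrp (isBlk_zB H hc.1)
    ((isDefectGroup_subgroupOf_iff hc.1 hPH).1 hcD)
  have hzB := pairOf_of_induced hM hc hz hCH
  have hblk : IsBlk C z := hzB.pair.blkC
  obtain ⟨c0, hc0, rfl⟩ := exists_eq_zB hblk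
  have hp := pairOf_self (M := M) hc0 hPg hPC rfl
  have hc0B : IsInducedBlock M C c0 B := induced_of_pairOf hM hc0 hc.2.1 hp le_rfl hzB
  have hin : IsInducedBlockIn M H C c0 c :=
    inducedIn_of_pairOf hM hCH hc0 hc.1 hp inf_le_right hz
  let eqv := centralizerEquivIn P H hPH hCH
  have hc0' : IsPBlock M (pullB eqv c0) := isPBlock_pullB eqv hc0
  have hind' : IsInducedBlock M C' (pullB eqv c0) c := by
    refine ⟨hc0', hc.1, fun ξ hξ χ hχ t => ?_⟩
    have h := hin.2.2 _ hξ χ hχ t
    convert h using 2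
    rw [inducedCentralChar, inducedCentralCharIn]
    refine finsum_mem_eq_of_bijOn eqv ⟨fun k hk => ?_, eqv.injective.injOn, fun k hk => ?_⟩
      fun k _ => ?_
    · obtain ⟨w, hw⟩ := isConj_iff.1 (IsConj.symm (show IsConj t (k : H) from hk))
      exact ⟨w, congrArg Subtype.val hw⟩
    · obtain ⟨w, hw⟩ := hk
      refine ⟨eqv.symm k, IsConj.symm (isConj_iff.2 ⟨w, Subtype.ext ?_⟩), eqv.apply_symm_apply k⟩
      exact hw
    · rw [pullIrr_apply, pullIrr_apply, map_one, eqv.symm_apply_apply]
  refine ⟨c0, pullB eqv c0, hc0B, hind', ?_⟩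
  have hnorm : ∀ g : H, g ∈ Subgroup.normalizer (P' : Set H) ↔
      (g : G) ∈ Subgroup.normalizer (P : Set G) := by
    intro g
    rw [Subgroup.mem_normalizer_iff, Subgroup.mem_normalizer_iff]
    refine ⟨fun h v => ⟨fun hv => ?_, fun hv => ?_⟩, fun h v => ?_⟩
    · exact Subgroup.mem_subgroupOf.1 ((h ⟨v, hPH hv⟩).1 (Subgroup.mem_subgroupOf.2 hv))
    · have hvH : v ∈ H := by
        have := mul_mem (mul_mem (inv_mem g.2) (hPH hv)) g.2
        simpa [mul_assoc] using this
      exact Subgroup.mem_subgroupOf.1 ((h ⟨v, hvH⟩).2 (Subgroup.mem_subgroupOf.2 hv))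
    · simpa [P', Subgroup.mem_subgroupOf] using h (v : G)
  have hmap : ∀ g : H, (g ∈ stabP ((P', zB M C' (pullB eqv c0)) : Pr (resField M) H) ↔
      (g : G) ∈ stabP ((P, zB M C c0) : Pr (resField M) G)) := by
    intro g
    refine Iff.trans (stab_iff (Q := P') hc0' g).symm
      (Iff.trans ?_ (stab_iff (Q := P) hc0 (g : G)))
    refine ⟨fun h => ⟨(hnorm g).1 h.1, normalizer_le_normalizer_centralizer P ((hnorm g).1 h.1),
      fun χ hχ => ?_⟩, fun h => ⟨(hnorm g).2 h.1,
      normalizer_le_normalizer_centralizer P' ((hnorm g).2 h.1), fun χ hχ => ?_⟩⟩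
    · obtain ⟨χ', hχ', hconj⟩ := h.2.2 (pullIrr eqv χ) (by
        show pullIrr eqv.symm (pullIrr eqv χ) ∈ c0
        rwa [pullIrr_symm_pullIrr])
      refine ⟨pullIrr eqv.symm χ', hχ', fun k k' hk => ?_⟩
      have h1 := hconj (eqv.symm k) (eqv.symm k') (Subtype.ext hk)
      rw [pullIrr_apply, eqv.apply_symm_apply] at h1
      rw [pullIrr_apply]
      exact h1
    · obtain ⟨χ', hχ', hconj⟩ := h.2.2 (pullIrr eqv.symm χ) hχ
      refine ⟨pullIrr eqv χ', by
        show pullIrr eqv.symm (pullIrr eqv χ') ∈ c0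
        rwa [pullIrr_symm_pullIrr], fun k k' hk => ?_⟩
      have h1 := hconj (eqv k) (eqv k') (congrArg Subtype.val hk)
      rw [pullIrr_apply, eqv.symm_apply_apply] at h1
      rw [pullIrr_apply]
      exact h1
  have e1 : stabP ((P', zB M C' (pullB eqv c0)) : Pr (resField M) H) =
      (stabP ((P, zB M C c0) : Pr (resField M) G)).subgroupOf H :=
    Subgroup.ext fun g => (hmap g).trans Subgroup.mem_subgroupOf.symm
  have e2 : C' = C.subgroupOf H := Subgroup.ext fun k => by
    rw [Subgroup.mem_subgroupOf]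
    exact ⟨fun h => (eqv ⟨k, h⟩).2, fun h => (eqv.symm ⟨k, h⟩).2⟩
  show C'.relIndex _ = _
  rw [e1, e2]
  exact Subgroup.relIndex_subgroupOf ((stabP_le_normalizer _).trans hN)

end Cfsg.Agent.Abelian
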