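/-
The rows of a Frobenius group with cyclic kernel.
-/
import Cfsg.Agent.Lib.Star.Abelian.PerfectRows
import Cfsg.Agent.Lib.Char.Conjugate
import Cfsg.Agent.Lib.Char.Degree

set_option linter.unusedSectionVars false
set_option linter.style.haveILetI false

namespace Cfsg.Agent.Abelian

open Cfsg Cfsg.Agent.Blocks Cfsg.Agent.Char
open scoped ComplexConjugate

universe v w

variable {F : Type v} [Group F] [Fintype F] {A : Type w} [CommGroup A] [Fintype A]
  {Q : Subgroup F} [Q.Normal] {p a e m : ℕ} {M : Ideal AlgInt} [M.IsPrime]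
  {φ : F →* MulAut A} {ι : Q ≃* A}

open scoped Classical in
/-- The sum of a function of the image over the group. -/
theorem sum_comp_hom (hker : φ.ker = Q) (f : φ.range → ℂ) :
    ∑ x : F, f (φ.rangeRestrict x) = (Nat.card Q : ℂ) * ∑ τ : φ.range, f τ := by
  rw [← Finset.sum_fiberwise Finset.univ φ.rangeRestrict, Finset.mul_sum]
  refine Finset.sum_congr rfl fun τ _ => ?_
  obtain ⟨x₀, rfl⟩ := φ.rangeRestrict_surjective τ
  rw [Finset.sum_congr rfl fun x hx => by rw [(Finset.mem_filter.1 hx).2], Finset.sum_const,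
    nsmul_eq_mul, Nat.card_eq_fintype_card]
  congr 2
  refine (Finset.card_bij (fun (q : Q) _ => x₀ * (q : F)) (fun q _ => ?_)
    (fun q _ q' _ h => Subtype.ext (mul_left_cancel h)) fun x hx => ?_).symm
  · refine Finset.mem_filter.2 ⟨Finset.mem_univ _, ?_⟩
    have h1 : φ.rangeRestrict (q : F) = 1 :=
      Subtype.ext (MonoidHom.mem_ker.1 (hker.ge q.2))
    rw [map_mul, h1, mul_one]
  · refine ⟨⟨x₀⁻¹ * x, hker.le (MonoidHom.mem_ker.2 ?_)⟩, Finset.mem_univ _,
      mul_inv_cancel_left _ _⟩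
    have h := congrArg Subtype.val (Finset.mem_filter.1 hx).2
    simp only [MonoidHom.coe_rangeRestrict] at h
    rw [map_mul, map_inv, h, inv_mul_cancel]

open scoped Classical in
/-- The product of two orbit sums. -/
theorem eta_mul_total {Γ : Subgroup (MulAut A)} {m : ℕ} (o : Orbits Γ m) {e : ℕ}
    (hη : EtaProps e o.eta) (v w : A) :
    ∑ i, o.eta i v * o.eta i w =
      -(Nat.card Γ : ℂ) + ((e : ℂ) * m + 1) *
        ((Finset.univ.filter fun σ : Γ => v * σ.1 w = 1).card : ℂ) := by
  have h1 : ∀ i, o.eta i v * o.eta i w = ∑ σ : Γ, o.eta i (v * σ.1 w) := by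
    intro i
    simp only [Orbits.eta, Finset.sum_mul_sum]
    conv_rhs => rw [Finset.sum_comm]
    refine Finset.sum_congr rfl fun τ _ => (Fintype.sum_equiv (Equiv.mulLeft τ) _ _ fun σ => ?_).symm
    show ((o.rep i) (τ.1 (v * σ.1 w)) : ℂ) = ((o.rep i) (τ.1 v) : ℂ) * ((o.rep i) ((τ * σ).1 w) : ℂ)
    rw [map_mul, map_mul, Units.val_mul]
    rfl
  have h2 : ∀ x : A, ∑ i, o.eta i x = -1 + if x = 1 then (e : ℂ) * m + 1 else 0 := by
    intro x
    by_cases hx : x = 1
    · rw [if_pos hx, hx, Finset.sum_congr rfl fun i _ => hη.one i, Finset.sum_const,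
        Finset.card_univ, Fintype.card_fin, nsmul_eq_mul]
      ring
    · rw [if_neg hx, hη.total x hx, add_zero]
  rw [Finset.sum_congr rfl fun i _ => h1 i, Finset.sum_comm,
    Finset.sum_congr rfl fun σ _ => h2 _, Finset.sum_add_distrib, Finset.sum_const,
    ← Finset.sum_filter, Finset.sum_const, Finset.card_univ, Nat.card_eq_fintype_card,
    nsmul_eq_mul, nsmul_eq_mul]
  ring

open scoped Classical in
/-- The rows of a Frobenius group. -/
theorem exists_frobenius_data [Fact p.Prime] (hA : Nat.card A = p ^ a)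
    (hker : φ.ker = Q)
    (hφ : ∀ (x : F) (q : Q), φ x (ι q) = ι ⟨x * q * x⁻¹, (inferInstance : Q.Normal).conj_mem q q.2 x⟩)
    (hfree : ∀ τ ∈ φ.range, ∀ v, τ v = v → v ≠ 1 → τ = 1)
    (hcomm : ∀ s ∈ φ.range, ∀ t ∈ φ.range, s * t = t * s)
    (he : Nat.card φ.range = e) (hpe : ¬ p ∣ e) (hF : Nat.card F = Nat.card A * e)
    (o : Orbits φ.range m) (hη : EtaProps e o.eta) (hm : m * e + 1 = Nat.card A)
    (hm0 : 0 < m) :
    ∃ S : RowData p M (Set.univ : Set (IrrCharacter F)) e o.eta,
      (∀ b ∈ S.C, ∀ x ∈ Q, (b.1 : F → ℂ) x = (b.1 : F → ℂ) 1) ∧ ∀ b, b ∉ S.C → S.δ b = 1 := by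
  have hp : p.Prime := Fact.out
  letI : CommGroup φ.range :=
    { (inferInstance : Group φ.range) with
      mul_comm := fun s t => Subtype.ext (hcomm s s.2 t t.2) }
  haveI : Fintype (φ.range →* ℂˣ) := Fintype.ofFinite _
  haveI : Fintype (MulAut A) := Fintype.ofFinite _
  have he0 : 0 < e := he ▸ Nat.card_pos
  have hQA : Nat.card Q = Nat.card A := Nat.card_congr ι.toEquiv
  -- the singular elements
  have hmemQ : ∀ y : F, p ∣ orderOf y → y ∈ Q ∧ y ≠ 1 := by
    intro y hy
    refine ⟨?_, fun h => by rw [h, orderOf_one] at hy; exact hp.not_dvd_one hy⟩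
    set u := y ^ (orderOf y / p) with hu
    have hy0 : orderOf y ≠ 0 := (orderOf_pos y).ne'
    have hou : orderOf u = p := by
      rw [hu, orderOf_pow' _ (Nat.div_pos (Nat.le_of_dvd (orderOf_pos y) hy) hp.pos).ne',
        Nat.gcd_eq_right (Nat.div_dvd_of_dvd hy), Nat.div_div_self hy hy0]
    have hmul : u ^ Nat.card φ.range ∈ Q := by
      refine hker.le (MonoidHom.mem_ker.2 ?_)
      rw [map_pow]
      exact congrArg Subtype.val (pow_card_eq_one' (x := φ.rangeRestrict u))
    have huQ : u ∈ Q := by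
      obtain ⟨k, hk⟩ := exists_pow_eq_self_of_coprime (x := u) (n := Nat.card φ.range) (by
        rw [hou, he]; exact (hp.coprime_iff_not_dvd.2 hpe).symm)
      rw [← hk]
      exact pow_mem hmul k
    have hu1 : u ≠ 1 := fun h => by rw [h, orderOf_one] at hou; exact hp.ne_one hou.symm
    have hfix : φ y (ι ⟨u, huQ⟩) = ι ⟨u, huQ⟩ := by
      rw [hφ]
      refine congrArg ι (Subtype.ext ?_)
      show y * u * y⁻¹ = u
      rw [hu, (Commute.self_pow y _).eq, mul_inv_cancel_right]
    exact hker.le (MonoidHom.mem_ker.2 (hfree _ ⟨y, rfl⟩ _ hfix fun h => hu1 (by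
      simpa using congrArg Subtype.val (ι.injective (h.trans (map_one ι).symm)))))
  -- the characters
  let θ : Fin m → Q → ℂ := fun i q => (o.rep i (ι q) : ℂ)
  let E : Fin m → F → ℂ := fun i => indFun Q (θ i)
  have hEQ : ∀ i (q : Q), E i q = o.eta i (ι q) := by
    intro i q
    simp only [E, indFun_normal_apply]
    have h := sum_comp_hom hker fun τ => ((o.rep i) (τ.1 (ι q)) : ℂ)
    have hQ0 : (Nat.card Q : ℂ) ≠ 0 := Nat.cast_ne_zero.2 Nat.card_pos.ne'
    rw [inv_mul_eq_iff_eq_mul₀ hQ0]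
    refine Eq.trans (Finset.sum_congr rfl fun x _ => ?_) (h.trans ?_)
    · show (o.rep i (ι ⟨x * q * x⁻¹, _⟩) : ℂ) = ((o.rep i) (φ x (ι q)) : ℂ)
      rw [hφ]
    · exact congrArg _ (Finset.sum_congr (by ext; simp) fun _ _ => rfl)
  have hE0 : ∀ i {y : F}, y ∉ Q → E i y = 0 := by
    intro i y hy
    simp only [E, indFun_apply]
    rw [Finset.sum_eq_zero fun x _ => extendByZero_not_mem Q _ fun h => hy ?_, mul_zero]
    have := (inferInstance : Q.Normal).conj_mem _ h x
    simpa [mul_assoc] using this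
  have hE1 : ∀ i, E i 1 = e := fun i => by
    rw [← hη.one i]
    have := hEQ i 1
    rwa [Subgroup.coe_one, map_one] at this
  have hinner : ∀ i j, classInner (E i) (E j) = if i = j then 1 else 0 := by
    intro i j
    rw [classInner, ← Finset.sum_subset (Finset.subset_univ
        ((Finset.univ : Finset Q).image Subtype.val)) fun y _ hy => by
        rw [hE0 i fun h => hy (Finset.mem_image.2 ⟨⟨y, h⟩, Finset.mem_univ _, rfl⟩), zero_mul],
      Finset.sum_image fun _ _ _ _ h => Subtype.ext h]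
    have hconj : ∀ v, conj (o.eta j v) = o.eta j v⁻¹ := fun v => by
      simp only [Orbits.eta, map_sum, conj_lin, map_inv]
    have key : ∑ q : Q, E i q * conj (E j q) = if i = j then (Nat.card A : ℂ) * e else 0 := by
      rw [Finset.sum_congr rfl fun q _ => by rw [hEQ, hEQ, hconj]]
      refine (Fintype.sum_equiv ι.toEquiv _ (fun v => o.eta i v * o.eta j v⁻¹) fun q => rfl).trans ?_
      rw [Finset.sum_congr rfl fun v _ => mul_comm _ _, hη.orth]
      exact if_congr eq_comm rfl rfl
    rw [key, hF, Nat.cast_mul]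
    have : (Nat.card A : ℂ) * e ≠ 0 :=
      mul_ne_zero (Nat.cast_ne_zero.2 Nat.card_pos.ne') (Nat.cast_ne_zero.2 he0.ne')
    split_ifs
    · exact inv_mul_cancel₀ this
    · ring
  have hEirr : ∀ i, IsIrrCharacter F (E i) := fun i =>
    IsCharacter.isIrr_of_norm_one (isCharacter_indFun Q (IsIrrCharacter.isCharacter
      (isIrrCharacter_linear ((o.rep i).comp ι.toMonoidHom)))) (by rw [hinner, if_pos rfl])
  let f : (φ.range →* ℂˣ) ⊕ Fin m → IrrCharacter F := Sum.elim
    (fun l => ⟨_, isIrrCharacter_linear (l.comp φ.rangeRestrict)⟩) fun i => ⟨E i, hEirr i⟩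
  have hfl : ∀ l x, (f (.inl l) : F → ℂ) x = (l (φ.rangeRestrict x) : ℂ) := fun l x => rfl
  have hflQ : ∀ l, ∀ x ∈ Q, (f (.inl l) : F → ℂ) x = 1 := fun l x hx => by
    rw [hfl, show φ.rangeRestrict x = 1 from Subtype.ext (MonoidHom.mem_ker.1 (hker.ge hx)),
      map_one, Units.val_one]
  have hfinj : Function.Injective f := by
    have hne : ∀ l i, f (.inl l) ≠ f (.inr i) := by
      intro l i h
      have hv : ∀ v : A, o.eta i v = 1 := fun v => by
        rw [← ι.apply_symm_apply v, ← hEQ]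
        exact (congrFun (congrArg Subtype.val h.symm) _).trans (hflQ l _ (ι.symm v).2)
      have := hη.sum i
      rw [Finset.sum_congr rfl fun v _ => hv v, Finset.sum_const, Finset.card_univ,
        nsmul_one] at this
      exact Fintype.card_pos.ne' (Nat.cast_eq_zero.1 this)
    rintro (l | i) (l' | i') h
    · refine congrArg _ (MonoidHom.ext fun t => Units.ext ?_)
      obtain ⟨x, rfl⟩ := φ.rangeRestrict_surjective t
      exact congrFun (congrArg Subtype.val h) x
    · exact absurd h (hne l i')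
    · exact absurd h.symm (hne l' i)
    · refine congrArg _ (by_contra fun hne' => ?_)
      have h1 := hinner i i
      have h2 := hinner i i'
      rw [if_pos rfl] at h1
      rw [if_neg hne', ← show E i = E i' from congrArg Subtype.val h, h1] at h2
      exact one_ne_zero h2
  have hcardL : Fintype.card (φ.range →* ℂˣ) = e := by
    rw [← Nat.card_eq_fintype_card, CommGroup.card_monoidHom_of_hasEnoughRootsOfUnity, he]
  have hdeg : ∀ x, (charDegree (f x : F → ℂ) : ℂ) = Sum.elim (fun _ => (1 : ℂ)) (fun _ => (e : ℂ)) x := by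
    rintro (l | i)
    · rw [← irr_one_eq_charDegree]; exact hflQ l 1 (one_mem Q)
    · rw [← irr_one_eq_charDegree]; exact hE1 i
  have hfsurj : Function.Surjective f := by
    intro χ
    by_contra hχ
    have hsub : insert χ (Finset.univ.image f) ⊆ Finset.univ := Finset.subset_univ _
    have h := Finset.sum_le_sum_of_subset (f := fun χ : IrrCharacter F =>
      charDegree (χ : F → ℂ) ^ 2) hsub
    rw [Cfsg.Agent.CharX.sum_deg_sq, Finset.sum_insert (fun h' => hχ (by
      obtain ⟨x, -, hx⟩ := Finset.mem_image.1 h'; exact ⟨x, hx⟩)),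
      Finset.sum_image fun _ _ _ _ h => hfinj h, Fintype.sum_sum_type] at h
    have e1 : ∀ l, charDegree (f (.inl l) : F → ℂ) = 1 := fun l => by
      have := hdeg (.inl l)
      simp only [Sum.elim_inl] at this
      exact_mod_cast this
    have e2 : ∀ i, charDegree (f (.inr i) : F → ℂ) = e := fun i => by
      have := hdeg (.inr i)
      simp only [Sum.elim_inr] at this
      exact_mod_cast this
    simp only [e1, e2, one_pow, Finset.sum_const, Finset.card_univ, hcardL, Fintype.card_fin,
      smul_eq_mul, mul_one] at h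
    have h1 := charDegree_pos χ
    have h2 : Nat.card F = e + m * e ^ 2 := by rw [hF, ← hm]; ring
    have h3 : 1 ≤ charDegree (χ : F → ℂ) ^ 2 := Nat.one_le_pow _ _ h1
    omega
  let u : {χ // χ ∈ (Set.univ : Set (IrrCharacter F))} ≃ (φ.range →* ℂˣ) ⊕ Fin m :=
    (Equiv.subtypeUnivEquiv fun χ => Set.mem_univ χ).trans (Equiv.ofBijective f ⟨hfinj, hfsurj⟩).symm
  have huf : ∀ b, f (u b) = b.1 := fun b =>
    (Equiv.ofBijective f ⟨hfinj, hfsurj⟩).apply_symm_apply _
  have huv : ∀ x, (u.symm x).1 = f x := fun x => rfl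
  let C : Finset {χ // χ ∈ (Set.univ : Set (IrrCharacter F))} :=
    Finset.univ.filter fun b => (u b).isLeft = true
  have hC : ∀ b, b ∈ C ↔ ∃ l, u b = .inl l := fun b => by
    simp only [C, Finset.mem_filter, Finset.mem_univ, true_and, Sum.isLeft_iff]
  have hC' : ∀ b, b ∉ C → ∃ i, u b = .inr i := fun b hb => by
    rcases h : u b with l | i
    · exact absurd ((hC b).2 ⟨l, h⟩) hb
    · exact ⟨i, rfl⟩
  have hinr : ∀ i, u.symm (.inr i) ∉ C := fun i h => by
    obtain ⟨l, hl⟩ := (hC _).1 h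
    rw [Equiv.apply_symm_apply] at hl
    exact Sum.inr_ne_inl hl
  have hsumC : ∀ Φ : {χ // χ ∈ (Set.univ : Set (IrrCharacter F))} → ℂ,
      ∑ b ∈ C, Φ b = ∑ l : φ.range →* ℂˣ, Φ (u.symm (.inl l)) := fun Φ =>
    (Finset.sum_bij (fun l _ => u.symm (.inl l))
      (fun l _ => (hC _).2 ⟨l, Equiv.apply_symm_apply _ _⟩)
      (fun l _ l' _ h => Sum.inl_injective (u.symm.injective h))
      (fun b hb => by
        obtain ⟨l, hl⟩ := (hC b).1 hb
        exact ⟨l, Finset.mem_univ _, by rw [← hl, Equiv.symm_apply_apply]⟩)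
      fun l _ => rfl).symm
  have hlsum : ∀ y, ∑ l : φ.range →* ℂˣ, (f (.inl l) : F → ℂ) y = if y ∈ Q then (e : ℂ) else 0 := by
    intro y
    split_ifs with hy
    · rw [Finset.sum_congr rfl fun l _ => hflQ l y hy, Finset.sum_const, Finset.card_univ, hcardL,
        nsmul_one]
    · simp only [hfl]
      exact sum_lin_dual fun h => hy (hker.le (MonoidHom.mem_ker.2 (congrArg Subtype.val h)))
  let out : {χ // χ ∈ (Set.univ : Set (IrrCharacter F))} → Fin m :=
    fun b => Sum.elim (fun _ => ⟨0, hm0⟩) id (u b)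
  have hout : ∀ i, out (u.symm (.inr i)) = i := fun i => by
    simp only [out, Equiv.apply_symm_apply, Sum.elim_inr, id]
  have houtb : ∀ b, b ∉ C → u b = .inr (out b) := fun b hb => by
    obtain ⟨i, hi⟩ := hC' b hb
    simp only [out, hi, Sum.elim_inr, id]
  have hinj : ∀ b, b ∉ C → ∀ b', b' ∉ C → out b = out b' → b = b' := fun b hb b' hb' h =>
    u.injective (by rw [houtb b hb, houtb b' hb', h])
  have hsurj : ∀ i, ∃ b, b ∉ C ∧ out b = i := fun i => ⟨u.symm (.inr i), hinr i, hout i⟩
  have hrow : ∀ i, (hsurj i).choose = u.symm (.inr i) := fun i =>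
    hinj _ (hsurj i).choose_spec.1 _ (hinr i) ((hsurj i).choose_spec.2.trans (hout i).symm)
  have hval : ∀ b, b ∉ C → (b.1 : F → ℂ) = E (out b) := fun b hb => by
    rw [← huf b, houtb b hb]; rfl
  let δ : {χ // χ ∈ (Set.univ : Set (IrrCharacter F))} → ℤ := fun b => if b ∈ C then -1 else 1
  have hδC : ∀ b ∈ C, δ b = -1 := fun b hb => if_pos hb
  have hδD : ∀ b, b ∉ C → δ b = 1 := fun b hb => if_neg hb
  have hCsum : ∀ y, ∑ b ∈ C, (δ b : ℂ) * (b.1 : F → ℂ) y = if y ∈ Q then -(e : ℂ) else 0 := by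
    intro y
    rw [Finset.sum_congr rfl fun b hb => by rw [hδC b hb, Int.cast_neg, Int.cast_one, neg_one_mul],
      Finset.sum_neg_distrib, hsumC fun b => (b.1 : F → ℂ) y,
      Finset.sum_congr rfl fun l _ => by rw [huv], hlsum]
    split_ifs <;> simp
  refine ⟨{
    C := C
    δ := δ
    out := out
    card := ?_
    sign := fun b => by
      by_cases hb : b ∈ C
      · exact .inr (hδC b hb)
      · exact .inl (hδD b hb)
    inj := hinj
    surj := hsurj
    kill := fun b hb s hs => ?_
    sing := fun y hy => ?_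
    div := fun v hv g => ?_ }, fun b hb x hx => ?_, hδD⟩
  · have h := hsumC fun _ => (1 : ℂ)
    rw [Finset.sum_const, Finset.sum_const, Finset.card_univ, hcardL, nsmul_one, nsmul_one] at h
    exact_mod_cast h
  · rw [hδD b hb, Int.cast_one, one_mul, hval b hb, hCsum]
    split_ifs with hsQ
    · have hs1 : s = 1 := by
        by_contra h
        obtain ⟨k, hk⟩ := (Nat.dvd_prime_pow hp).1
          (hA ▸ hQA ▸ orderOf_dvd_natCard (⟨s, hsQ⟩ : Q))
        rw [← Subgroup.orderOf_coe] at hk
        obtain rfl : k = 0 := by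
          by_contra hk0
          exact hs (hk.2 ▸ dvd_pow_self p hk0)
        exact h (orderOf_eq_one_iff.1 (by simpa using hk.2))
      rw [hs1, hE1, add_neg_cancel]
    · rw [hE0 _ hsQ, add_zero]
  · obtain ⟨hyQ, hy1⟩ := hmemQ y hy
    have hv : ι ⟨y, hyQ⟩ ≠ 1 := fun h => hy1 (by
      simpa using congrArg Subtype.val (ι.injective (h.trans (map_one ι).symm)))
    refine ⟨fun i => o.eta i (ι ⟨y, hyQ⟩), fun b hb => ?_, fun b hb => ?_⟩
    · rw [hη.total _ hv, hδC b hb]
      obtain ⟨l, hl⟩ := (hC b).1 hb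
      rw [← huf b, hl, hflQ l y hyQ]
      norm_num
    · rw [hδD b hb, Int.cast_one, one_mul, hval b hb]
      exact hEQ (out b) ⟨y, hyQ⟩
  · simp only [hrow]
    rw [hCsum, Finset.sum_congr rfl fun i _ => show o.eta i v *
        ((δ (u.symm (.inr i)) : ℂ) * ((u.symm (.inr i)).1 : F → ℂ) g) = o.eta i v * E i g by
      rw [hδD _ (hinr i), Int.cast_one, one_mul]; rfl]
    by_cases hg : g ∈ Q
    · rw [if_pos hg, neg_neg, Finset.sum_congr rfl fun i _ => by rw [hEQ i ⟨g, hg⟩],
        eta_mul_total o hη, he, add_neg_cancel_left,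
        show ((e : ℂ) * m + 1) = (Nat.card A : ℂ) by rw [← hm]; push_cast; ring]
      have hA0 : (Nat.card A : ℂ) ≠ 0 := Nat.cast_ne_zero.2 Nat.card_pos.ne'
      refine ⟨?_, by rw [mul_div_cancel_left₀ _ hA0]; exact natCast_mem (locRing M) _⟩
      by_cases hg1 : g = 1
      · rw [Finset.filter_false_of_mem fun σ _ h => hv (by
            rwa [show (⟨g, hg⟩ : Q) = 1 from Subtype.ext hg1, map_one, map_one, mul_one] at h),
          Finset.card_empty, Nat.cast_zero, mul_zero, zero_div]
        exact (locRing M).zero_mem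
      · have hcent : Nat.card (Subgroup.centralizer ({g} : Set F)) = Nat.card A := by
          rw [← hQA]
          congr 2
          refine le_antisymm (fun x hx => ?_) fun x hx => ?_
          · refine hker.le (MonoidHom.mem_ker.2 (hfree _ ⟨x, rfl⟩ (ι ⟨g, hg⟩) ?_ fun h => hg1 ?_))
            · rw [hφ]
              refine congrArg ι (Subtype.ext ?_)
              show x * g * x⁻¹ = g
              rw [Subgroup.mem_centralizer_singleton_iff.1 hx, mul_inv_cancel_right]
            · simpa using congrArg Subtype.val (ι.injective (h.trans (map_one ι).symm))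
          · refine Subgroup.mem_centralizer_singleton_iff.2
              (congrArg Subtype.val (?_ : (⟨x, hx⟩ : Q) * ⟨g, hg⟩ = ⟨g, hg⟩ * ⟨x, hx⟩))
            exact ι.injective (by rw [map_mul, map_mul, mul_comm])
        rw [hcent, mul_div_cancel_left₀ _ hA0]
        exact natCast_mem (locRing M) _
    · rw [if_neg hg, neg_zero, Finset.sum_eq_zero fun i _ => by rw [hE0 i hg, mul_zero], add_zero,
        zero_div, zero_div]
      exact ⟨(locRing M).zero_mem, (locRing M).zero_mem⟩
  · obtain ⟨l, hl⟩ := (hC b).1 hb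
    rw [← huf b, hl, hflQ l x hx, hflQ l 1 (one_mem Q)]

end Cfsg.Agent.Abelian
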